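import Cfsg.Agent.Helper28.L37A.Data
set_option autoImplicit false
set_option maxRecDepth 1000000
namespace Cfsg.Agent.Helper28.L37A
open Cfsg.Agent.Helper28
theorem fin_piece24 : allLtFrom (finRow tabs ptabs 646729) 60000 2500 = true := by decide +kernel
theorem fin_piece25 : allLtFrom (finRow tabs ptabs 646729) 62500 2500 = true := by decide +kernel
theorem fin_piece26 : allLtFrom (finRow tabs ptabs 646729) 65000 2500 = true := by decide +kernel
theorem fin_piece27 : allLtFrom (finRow tabs ptabs 646729) 67500 2500 = true := by decide +kernel
theorem fin_piece28 : allLtFrom (finRow tabs ptabs 646729) 70000 2500 = true := by decide +kernel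
theorem fin_piece29 : allLtFrom (finRow tabs ptabs 646729) 72500 2500 = true := by decide +kernel
theorem fin_piece30 : allLtFrom (finRow tabs ptabs 646729) 75000 2500 = true := by decide +kernel
theorem fin_piece31 : allLtFrom (finRow tabs ptabs 646729) 77500 2500 = true := by decide +kernel
end Cfsg.Agent.Helper28.L37A
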