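import Cfsg.Agent.Helper28.L37A.Data
set_option autoImplicit false
set_option maxRecDepth 1000000
namespace Cfsg.Agent.Helper28.L37A
open Cfsg.Agent.Helper28
theorem fin_piece32 : allLtFrom (finRow tabs ptabs 646729) 80000 2500 = true := by decide +kernel
theorem fin_piece33 : allLtFrom (finRow tabs ptabs 646729) 82500 2500 = true := by decide +kernel
theorem fin_piece34 : allLtFrom (finRow tabs ptabs 646729) 85000 2500 = true := by decide +kernel
theorem fin_piece35 : allLtFrom (finRow tabs ptabs 646729) 87500 2500 = true := by decide +kernel
theorem fin_piece36 : allLtFrom (finRow tabs ptabs 646729) 90000 2500 = true := by decide +kernel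
theorem fin_piece37 : allLtFrom (finRow tabs ptabs 646729) 92500 2500 = true := by decide +kernel
theorem fin_piece38 : allLtFrom (finRow tabs ptabs 646729) 95000 2500 = true := by decide +kernel
theorem fin_piece39 : allLtFrom (finRow tabs ptabs 646729) 97500 1284 = true := by decide +kernel
end Cfsg.Agent.Helper28.L37A
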