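import Cfsg.Agent.Helper28.L37A.Data
set_option autoImplicit false
set_option maxRecDepth 1000000
namespace Cfsg.Agent.Helper28.L37A
open Cfsg.Agent.Helper28
theorem inv_piece8 : allLtFrom (invRow ptabs) 80000 10000 = true := by decide +kernel
theorem inv_piece9 : allLtFrom (invRow ptabs) 90000 8784 = true := by decide +kernel
end Cfsg.Agent.Helper28.L37A
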