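import Cfsg.Agent.Helper28.L37A.Data
set_option autoImplicit false
set_option maxRecDepth 1000000
namespace Cfsg.Agent.Helper28.L37A
open Cfsg.Agent.Helper28
theorem defs_piece0 : allLtFrom (defOk tabs) 0 66666 = true := by decide +kernel
theorem defs_piece1 : allLtFrom (defOk tabs) 66666 66666 = true := by decide +kernel
theorem defs_piece2 : allLtFrom (defOk tabs) 133332 66666 = true := by decide +kernel
theorem defs_piece3 : allLtFrom (defOk tabs) 199998 66666 = true := by decide +kernel
theorem defs_piece4 : allLtFrom (defOk tabs) 266664 66666 = true := by decide +kernel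
theorem defs_piece5 : allLtFrom (defOk tabs) 333330 66666 = true := by decide +kernel
theorem defs_piece6 : allLtFrom (defOk tabs) 399996 22897 = true := by decide +kernel
theorem par_piece0 : allLtFrom (parRow ptabs) 0 53333 = true := by decide +kernel
theorem par_piece1 : allLtFrom (parRow ptabs) 53333 45451 = true := by decide +kernel
theorem subfix_ok : allLt (fun r => relOk ptabs (tabs.word r) 0 1) 1 = true := by decide +kernel
end Cfsg.Agent.Helper28.L37A
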