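import Cfsg.Agent.Helper28.L37A.Data
set_option autoImplicit false
set_option maxRecDepth 1000000
namespace Cfsg.Agent.Helper28.L37A
open Cfsg.Agent.Helper28
theorem perm_piece_0_0 : permPieceF tabs.word letSel 1 5 0 44444 = true := by decide +kernel
theorem perm_piece_0_1 : permPieceF tabs.word letSel 1 5 44444 44444 = true := by decide +kernel
theorem perm_piece_0_2 : permPieceF tabs.word letSel 1 5 88888 9896 = true := by decide +kernel
theorem perm_piece_1_0 : permPieceF tabs.word letSel 6 1 0 14814 = true := by decide +kernel
theorem perm_piece_1_1 : permPieceF tabs.word letSel 6 1 14814 14814 = true := by decide +kernel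
theorem perm_piece_1_2 : permPieceF tabs.word letSel 6 1 29628 14814 = true := by decide +kernel
theorem perm_piece_1_3 : permPieceF tabs.word letSel 6 1 44442 14814 = true := by decide +kernel
theorem perm_piece_1_4 : permPieceF tabs.word letSel 6 1 59256 14814 = true := by decide +kernel
theorem perm_piece_1_5 : permPieceF tabs.word letSel 6 1 74070 14814 = true := by decide +kernel
end Cfsg.Agent.Helper28.L37A
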