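import Cfsg.Agent.Helper28.L37A.Data
set_option autoImplicit false
set_option maxRecDepth 1000000
namespace Cfsg.Agent.Helper28.L37A
open Cfsg.Agent.Helper28
theorem perm_piece_1_6 : permPieceF tabs.word letSel 6 1 88884 9900 = true := by decide +kernel
theorem perm_piece_2_0 : permPieceF tabs.word letSel 7 1 0 3703 = true := by decide +kernel
theorem perm_piece_2_1 : permPieceF tabs.word letSel 7 1 3703 3703 = true := by decide +kernel
theorem perm_piece_2_2 : permPieceF tabs.word letSel 7 1 7406 3703 = true := by decide +kernel
theorem perm_piece_2_3 : permPieceF tabs.word letSel 7 1 11109 3703 = true := by decide +kernel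
theorem perm_piece_2_4 : permPieceF tabs.word letSel 7 1 14812 3703 = true := by decide +kernel
theorem perm_piece_2_5 : permPieceF tabs.word letSel 7 1 18515 3703 = true := by decide +kernel
theorem perm_piece_2_6 : permPieceF tabs.word letSel 7 1 22218 3703 = true := by decide +kernel
theorem perm_piece_2_7 : permPieceF tabs.word letSel 7 1 25921 3703 = true := by decide +kernel
end Cfsg.Agent.Helper28.L37A
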