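import Cfsg.Agent.Helper28.L37A.Data
set_option autoImplicit false
set_option maxRecDepth 1000000
namespace Cfsg.Agent.Helper28.L37A
open Cfsg.Agent.Helper28
theorem perm_piece_4_11 : permPieceF tabs.word letSel 9 1 51458 4678 = true := by decide +kernel
theorem perm_piece_4_12 : permPieceF tabs.word letSel 9 1 56136 4678 = true := by decide +kernel
theorem perm_piece_4_13 : permPieceF tabs.word letSel 9 1 60814 4678 = true := by decide +kernel
theorem perm_piece_4_14 : permPieceF tabs.word letSel 9 1 65492 4678 = true := by decide +kernel
theorem perm_piece_4_15 : permPieceF tabs.word letSel 9 1 70170 4678 = true := by decide +kernel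
theorem perm_piece_4_16 : permPieceF tabs.word letSel 9 1 74848 4678 = true := by decide +kernel
theorem perm_piece_4_17 : permPieceF tabs.word letSel 9 1 79526 4678 = true := by decide +kernel
theorem perm_piece_4_18 : permPieceF tabs.word letSel 9 1 84204 4678 = true := by decide +kernel
end Cfsg.Agent.Helper28.L37A
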