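import Cfsg.Agent.Helper28.L37A.Data
set_option autoImplicit false
set_option maxRecDepth 1000000
namespace Cfsg.Agent.Helper28.L37A
open Cfsg.Agent.Helper28
theorem perm_piece_4_19 : permPieceF tabs.word letSel 9 1 88882 4678 = true := by decide +kernel
theorem perm_piece_4_20 : permPieceF tabs.word letSel 9 1 93560 4678 = true := by decide +kernel
theorem perm_piece_4_21 : permPieceF tabs.word letSel 9 1 98238 546 = true := by decide +kernel
theorem perm_piece_5_0 : permPieceF tabs.word letSel 10 1 0 3418 = true := by decide +kernel
theorem perm_piece_5_1 : permPieceF tabs.word letSel 10 1 3418 3418 = true := by decide +kernel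
theorem perm_piece_5_2 : permPieceF tabs.word letSel 10 1 6836 3418 = true := by decide +kernel
theorem perm_piece_5_3 : permPieceF tabs.word letSel 10 1 10254 3418 = true := by decide +kernel
theorem perm_piece_5_4 : permPieceF tabs.word letSel 10 1 13672 3418 = true := by decide +kernel
theorem perm_piece_5_5 : permPieceF tabs.word letSel 10 1 17090 3418 = true := by decide +kernel
end Cfsg.Agent.Helper28.L37A
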