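import Cfsg.Agent.Helper28.L37A.Data
set_option autoImplicit false
set_option maxRecDepth 1000000
namespace Cfsg.Agent.Helper28.L37A
open Cfsg.Agent.Helper28
theorem perm_piece_5_6 : permPieceF tabs.word letSel 10 1 20508 3418 = true := by decide +kernel
theorem perm_piece_5_7 : permPieceF tabs.word letSel 10 1 23926 3418 = true := by decide +kernel
theorem perm_piece_5_8 : permPieceF tabs.word letSel 10 1 27344 3418 = true := by decide +kernel
theorem perm_piece_5_9 : permPieceF tabs.word letSel 10 1 30762 3418 = true := by decide +kernel
theorem perm_piece_5_10 : permPieceF tabs.word letSel 10 1 34180 3418 = true := by decide +kernel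
theorem perm_piece_5_11 : permPieceF tabs.word letSel 10 1 37598 3418 = true := by decide +kernel
theorem perm_piece_5_12 : permPieceF tabs.word letSel 10 1 41016 3418 = true := by decide +kernel
theorem perm_piece_5_13 : permPieceF tabs.word letSel 10 1 44434 3418 = true := by decide +kernel
end Cfsg.Agent.Helper28.L37A
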