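import Cfsg.Agent.Helper28.L37A.Data
set_option autoImplicit false
set_option maxRecDepth 1000000
namespace Cfsg.Agent.Helper28.L37A
open Cfsg.Agent.Helper28
theorem perm_piece_5_14 : permPieceF tabs.word letSel 10 1 47852 3418 = true := by decide +kernel
theorem perm_piece_5_15 : permPieceF tabs.word letSel 10 1 51270 3418 = true := by decide +kernel
theorem perm_piece_5_16 : permPieceF tabs.word letSel 10 1 54688 3418 = true := by decide +kernel
theorem perm_piece_5_17 : permPieceF tabs.word letSel 10 1 58106 3418 = true := by decide +kernel
theorem perm_piece_5_18 : permPieceF tabs.word letSel 10 1 61524 3418 = true := by decide +kernel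
theorem perm_piece_5_19 : permPieceF tabs.word letSel 10 1 64942 3418 = true := by decide +kernel
theorem perm_piece_5_20 : permPieceF tabs.word letSel 10 1 68360 3418 = true := by decide +kernel
theorem perm_piece_5_21 : permPieceF tabs.word letSel 10 1 71778 3418 = true := by decide +kernel
end Cfsg.Agent.Helper28.L37A
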