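import Cfsg.Agent.Helper28.L37A.Data
set_option autoImplicit false
set_option maxRecDepth 1000000
namespace Cfsg.Agent.Helper28.L37A
open Cfsg.Agent.Helper28
theorem perm_piece_5_22 : permPieceF tabs.word letSel 10 1 75196 3418 = true := by decide +kernel
theorem perm_piece_5_23 : permPieceF tabs.word letSel 10 1 78614 3418 = true := by decide +kernel
theorem perm_piece_5_24 : permPieceF tabs.word letSel 10 1 82032 3418 = true := by decide +kernel
theorem perm_piece_5_25 : permPieceF tabs.word letSel 10 1 85450 3418 = true := by decide +kernel
theorem perm_piece_5_26 : permPieceF tabs.word letSel 10 1 88868 3418 = true := by decide +kernel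
theorem perm_piece_5_27 : permPieceF tabs.word letSel 10 1 92286 3418 = true := by decide +kernel
theorem perm_piece_5_28 : permPieceF tabs.word letSel 10 1 95704 3080 = true := by decide +kernel
theorem perm_piece_6_0 : permPieceF tabs.word letSel 11 1 0 2469 = true := by decide +kernel
end Cfsg.Agent.Helper28.L37A
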