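import Cfsg.Agent.Helper28.L37A.Data
set_option autoImplicit false
set_option maxRecDepth 1000000
namespace Cfsg.Agent.Helper28.L37A
open Cfsg.Agent.Helper28
theorem perm_piece_6_1 : permPieceF tabs.word letSel 11 1 2469 2469 = true := by decide +kernel
theorem perm_piece_6_2 : permPieceF tabs.word letSel 11 1 4938 2469 = true := by decide +kernel
theorem perm_piece_6_3 : permPieceF tabs.word letSel 11 1 7407 2469 = true := by decide +kernel
theorem perm_piece_6_4 : permPieceF tabs.word letSel 11 1 9876 2469 = true := by decide +kernel
theorem perm_piece_6_5 : permPieceF tabs.word letSel 11 1 12345 2469 = true := by decide +kernel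
theorem perm_piece_6_6 : permPieceF tabs.word letSel 11 1 14814 2469 = true := by decide +kernel
theorem perm_piece_6_7 : permPieceF tabs.word letSel 11 1 17283 2469 = true := by decide +kernel
theorem perm_piece_6_8 : permPieceF tabs.word letSel 11 1 19752 2469 = true := by decide +kernel
end Cfsg.Agent.Helper28.L37A
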