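import Cfsg.Agent.Helper28.L37A.Data
set_option autoImplicit false
set_option maxRecDepth 1000000
namespace Cfsg.Agent.Helper28.L37A
open Cfsg.Agent.Helper28
theorem perm_piece_6_17 : permPieceF tabs.word letSel 11 1 41973 2469 = true := by decide +kernel
theorem perm_piece_6_18 : permPieceF tabs.word letSel 11 1 44442 2469 = true := by decide +kernel
theorem perm_piece_6_19 : permPieceF tabs.word letSel 11 1 46911 2469 = true := by decide +kernel
theorem perm_piece_6_20 : permPieceF tabs.word letSel 11 1 49380 2469 = true := by decide +kernel
theorem perm_piece_6_21 : permPieceF tabs.word letSel 11 1 51849 2469 = true := by decide +kernel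
theorem perm_piece_6_22 : permPieceF tabs.word letSel 11 1 54318 2469 = true := by decide +kernel
theorem perm_piece_6_23 : permPieceF tabs.word letSel 11 1 56787 2469 = true := by decide +kernel
theorem perm_piece_6_24 : permPieceF tabs.word letSel 11 1 59256 2469 = true := by decide +kernel
end Cfsg.Agent.Helper28.L37A
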