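import Cfsg.Agent.Helper28.L37A.Data
set_option autoImplicit false
set_option maxRecDepth 1000000
namespace Cfsg.Agent.Helper28.L37A
open Cfsg.Agent.Helper28
theorem perm_piece_6_25 : permPieceF tabs.word letSel 11 1 61725 2469 = true := by decide +kernel
theorem perm_piece_6_26 : permPieceF tabs.word letSel 11 1 64194 2469 = true := by decide +kernel
theorem perm_piece_6_27 : permPieceF tabs.word letSel 11 1 66663 2469 = true := by decide +kernel
theorem perm_piece_6_28 : permPieceF tabs.word letSel 11 1 69132 2469 = true := by decide +kernel
theorem perm_piece_6_29 : permPieceF tabs.word letSel 11 1 71601 2469 = true := by decide +kernel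
theorem perm_piece_6_30 : permPieceF tabs.word letSel 11 1 74070 2469 = true := by decide +kernel
theorem perm_piece_6_31 : permPieceF tabs.word letSel 11 1 76539 2469 = true := by decide +kernel
theorem perm_piece_6_32 : permPieceF tabs.word letSel 11 1 79008 2469 = true := by decide +kernel
end Cfsg.Agent.Helper28.L37A
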