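import Cfsg.Agent.Helper28.L37A.Data
set_option autoImplicit false
set_option maxRecDepth 1000000
namespace Cfsg.Agent.Helper28.L37A
open Cfsg.Agent.Helper28
theorem perm_piece_6_33 : permPieceF tabs.word letSel 11 1 81477 2469 = true := by decide +kernel
theorem perm_piece_6_34 : permPieceF tabs.word letSel 11 1 83946 2469 = true := by decide +kernel
theorem perm_piece_6_35 : permPieceF tabs.word letSel 11 1 86415 2469 = true := by decide +kernel
theorem perm_piece_6_36 : permPieceF tabs.word letSel 11 1 88884 2469 = true := by decide +kernel
theorem perm_piece_6_37 : permPieceF tabs.word letSel 11 1 91353 2469 = true := by decide +kernel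
theorem perm_piece_6_38 : permPieceF tabs.word letSel 11 1 93822 2469 = true := by decide +kernel
theorem perm_piece_6_39 : permPieceF tabs.word letSel 11 1 96291 2469 = true := by decide +kernel
theorem perm_piece_6_40 : permPieceF tabs.word letSel 11 1 98760 24 = true := by decide +kernel
end Cfsg.Agent.Helper28.L37A
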