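import Cfsg.Agent.Helper28.L37A.Data
set_option autoImplicit false
set_option maxRecDepth 1000000
namespace Cfsg.Agent.Helper28.L37A
open Cfsg.Agent.Helper28
theorem perm_piece_2_16 : permPieceF tabs.word letSel 7 1 59248 3703 = true := by decide +kernel
theorem perm_piece_2_17 : permPieceF tabs.word letSel 7 1 62951 3703 = true := by decide +kernel
theorem perm_piece_2_18 : permPieceF tabs.word letSel 7 1 66654 3703 = true := by decide +kernel
theorem perm_piece_2_19 : permPieceF tabs.word letSel 7 1 70357 3703 = true := by decide +kernel
theorem perm_piece_2_20 : permPieceF tabs.word letSel 7 1 74060 3703 = true := by decide +kernel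
theorem perm_piece_2_21 : permPieceF tabs.word letSel 7 1 77763 3703 = true := by decide +kernel
theorem perm_piece_2_22 : permPieceF tabs.word letSel 7 1 81466 3703 = true := by decide +kernel
theorem perm_piece_2_23 : permPieceF tabs.word letSel 7 1 85169 3703 = true := by decide +kernel
end Cfsg.Agent.Helper28.L37A
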