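import Cfsg.Agent.Helper28.L37A.Data
set_option autoImplicit false
set_option maxRecDepth 1000000
namespace Cfsg.Agent.Helper28.L37A
open Cfsg.Agent.Helper28
theorem perm_piece_2_24 : permPieceF tabs.word letSel 7 1 88872 3703 = true := by decide +kernel
theorem perm_piece_2_25 : permPieceF tabs.word letSel 7 1 92575 3703 = true := by decide +kernel
theorem perm_piece_2_26 : permPieceF tabs.word letSel 7 1 96278 2506 = true := by decide +kernel
theorem perm_piece_3_0 : permPieceF tabs.word letSel 8 1 0 2777 = true := by decide +kernel
theorem perm_piece_3_1 : permPieceF tabs.word letSel 8 1 2777 2777 = true := by decide +kernel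
theorem perm_piece_3_2 : permPieceF tabs.word letSel 8 1 5554 2777 = true := by decide +kernel
theorem perm_piece_3_3 : permPieceF tabs.word letSel 8 1 8331 2777 = true := by decide +kernel
theorem perm_piece_3_4 : permPieceF tabs.word letSel 8 1 11108 2777 = true := by decide +kernel
theorem perm_piece_3_5 : permPieceF tabs.word letSel 8 1 13885 2777 = true := by decide +kernel
end Cfsg.Agent.Helper28.L37A
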