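import Cfsg.Agent.Helper28.L37A.Data
set_option autoImplicit false
set_option maxRecDepth 1000000
namespace Cfsg.Agent.Helper28.L37A
open Cfsg.Agent.Helper28
theorem perm_piece_3_6 : permPieceF tabs.word letSel 8 1 16662 2777 = true := by decide +kernel
theorem perm_piece_3_7 : permPieceF tabs.word letSel 8 1 19439 2777 = true := by decide +kernel
theorem perm_piece_3_8 : permPieceF tabs.word letSel 8 1 22216 2777 = true := by decide +kernel
theorem perm_piece_3_9 : permPieceF tabs.word letSel 8 1 24993 2777 = true := by decide +kernel
theorem perm_piece_3_10 : permPieceF tabs.word letSel 8 1 27770 2777 = true := by decide +kernel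
theorem perm_piece_3_11 : permPieceF tabs.word letSel 8 1 30547 2777 = true := by decide +kernel
theorem perm_piece_3_12 : permPieceF tabs.word letSel 8 1 33324 2777 = true := by decide +kernel
theorem perm_piece_3_13 : permPieceF tabs.word letSel 8 1 36101 2777 = true := by decide +kernel
end Cfsg.Agent.Helper28.L37A
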