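import Cfsg.Agent.Helper28.L37A.Data
set_option autoImplicit false
set_option maxRecDepth 1000000
namespace Cfsg.Agent.Helper28.L37A
open Cfsg.Agent.Helper28
theorem perm_piece_3_14 : permPieceF tabs.word letSel 8 1 38878 2777 = true := by decide +kernel
theorem perm_piece_3_15 : permPieceF tabs.word letSel 8 1 41655 2777 = true := by decide +kernel
theorem perm_piece_3_16 : permPieceF tabs.word letSel 8 1 44432 2777 = true := by decide +kernel
theorem perm_piece_3_17 : permPieceF tabs.word letSel 8 1 47209 2777 = true := by decide +kernel
theorem perm_piece_3_18 : permPieceF tabs.word letSel 8 1 49986 2777 = true := by decide +kernel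
theorem perm_piece_3_19 : permPieceF tabs.word letSel 8 1 52763 2777 = true := by decide +kernel
theorem perm_piece_3_20 : permPieceF tabs.word letSel 8 1 55540 2777 = true := by decide +kernel
theorem perm_piece_3_21 : permPieceF tabs.word letSel 8 1 58317 2777 = true := by decide +kernel
end Cfsg.Agent.Helper28.L37A
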