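import Cfsg.Agent.Helper28.L37A.Data
set_option autoImplicit false
set_option maxRecDepth 1000000
namespace Cfsg.Agent.Helper28.L37A
open Cfsg.Agent.Helper28
theorem perm_piece_3_22 : permPieceF tabs.word letSel 8 1 61094 2777 = true := by decide +kernel
theorem perm_piece_3_23 : permPieceF tabs.word letSel 8 1 63871 2777 = true := by decide +kernel
theorem perm_piece_3_24 : permPieceF tabs.word letSel 8 1 66648 2777 = true := by decide +kernel
theorem perm_piece_3_25 : permPieceF tabs.word letSel 8 1 69425 2777 = true := by decide +kernel
theorem perm_piece_3_26 : permPieceF tabs.word letSel 8 1 72202 2777 = true := by decide +kernel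
theorem perm_piece_3_27 : permPieceF tabs.word letSel 8 1 74979 2777 = true := by decide +kernel
theorem perm_piece_3_28 : permPieceF tabs.word letSel 8 1 77756 2777 = true := by decide +kernel
theorem perm_piece_3_29 : permPieceF tabs.word letSel 8 1 80533 2777 = true := by decide +kernel
end Cfsg.Agent.Helper28.L37A
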