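import Cfsg.Agent.Helper28.L37A.Data
set_option autoImplicit false
set_option maxRecDepth 1000000
namespace Cfsg.Agent.Helper28.L37A
open Cfsg.Agent.Helper28
theorem perm_piece_3_30 : permPieceF tabs.word letSel 8 1 83310 2777 = true := by decide +kernel
theorem perm_piece_3_31 : permPieceF tabs.word letSel 8 1 86087 2777 = true := by decide +kernel
theorem perm_piece_3_32 : permPieceF tabs.word letSel 8 1 88864 2777 = true := by decide +kernel
theorem perm_piece_3_33 : permPieceF tabs.word letSel 8 1 91641 2777 = true := by decide +kernel
theorem perm_piece_3_34 : permPieceF tabs.word letSel 8 1 94418 2777 = true := by decide +kernel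
theorem perm_piece_3_35 : permPieceF tabs.word letSel 8 1 97195 1589 = true := by decide +kernel
theorem perm_piece_4_0 : permPieceF tabs.word letSel 9 1 0 4678 = true := by decide +kernel
theorem perm_piece_4_1 : permPieceF tabs.word letSel 9 1 4678 4678 = true := by decide +kernel
theorem perm_piece_4_2 : permPieceF tabs.word letSel 9 1 9356 4678 = true := by decide +kernel
end Cfsg.Agent.Helper28.L37A
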