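import Cfsg.Agent.Helper28.L37A.Data
set_option autoImplicit false
set_option maxRecDepth 1000000
namespace Cfsg.Agent.Helper28.L37A
open Cfsg.Agent.Helper28
theorem perm_piece_4_3 : permPieceF tabs.word letSel 9 1 14034 4678 = true := by decide +kernel
theorem perm_piece_4_4 : permPieceF tabs.word letSel 9 1 18712 4678 = true := by decide +kernel
theorem perm_piece_4_5 : permPieceF tabs.word letSel 9 1 23390 4678 = true := by decide +kernel
theorem perm_piece_4_6 : permPieceF tabs.word letSel 9 1 28068 4678 = true := by decide +kernel
theorem perm_piece_4_7 : permPieceF tabs.word letSel 9 1 32746 4678 = true := by decide +kernel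
theorem perm_piece_4_8 : permPieceF tabs.word letSel 9 1 37424 4678 = true := by decide +kernel
theorem perm_piece_4_9 : permPieceF tabs.word letSel 9 1 42102 4678 = true := by decide +kernel
theorem perm_piece_4_10 : permPieceF tabs.word letSel 9 1 46780 4678 = true := by decide +kernel
end Cfsg.Agent.Helper28.L37A
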