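import Cfsg.Agent.Helper28.L37A.F0
import Cfsg.Agent.Helper28.L37A.F1
import Cfsg.Agent.Helper28.L37A.F2
import Cfsg.Agent.Helper28.L37A.F3
import Cfsg.Agent.Helper28.L37A.F4
import Cfsg.Agent.Helper28.L37A.F5
import Cfsg.Agent.Helper28.L37A.F6
import Cfsg.Agent.Helper28.L37A.F7
import Cfsg.Agent.Helper28.L37A.F8
import Cfsg.Agent.Helper28.L37A.F9
import Cfsg.Agent.Helper28.L37A.F10
import Cfsg.Agent.Helper28.L37A.F11
import Cfsg.Agent.Helper28.L37A.F12
import Cfsg.Agent.Helper28.L37A.F13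
import Cfsg.Agent.Helper28.L37A.F14
import Cfsg.Agent.Helper28.L37A.F15
import Cfsg.Agent.Helper28.L37A.F16
import Cfsg.Agent.Helper28.L37A.Fin0
import Cfsg.Agent.Helper28.L37A.Fin1
import Cfsg.Agent.Helper28.L37A.Fin2
import Cfsg.Agent.Helper28.L37A.Fin3
import Cfsg.Agent.Helper28.L37A.Fin4
import Cfsg.Agent.Helper28.L37A.Inv0
import Cfsg.Agent.Helper28.L37A.Inv1
import Cfsg.Agent.Helper28.L37A.Misc0
import Cfsg.Agent.Helper28.L37A.P0
import Cfsg.Agent.Helper28.L37A.P1
import Cfsg.Agent.Helper28.L37A.P2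
import Cfsg.Agent.Helper28.L37A.P3
import Cfsg.Agent.Helper28.L37A.P4
import Cfsg.Agent.Helper28.L37A.P5
import Cfsg.Agent.Helper28.L37A.P6
import Cfsg.Agent.Helper28.L37A.P7
import Cfsg.Agent.Helper28.L37A.P8
import Cfsg.Agent.Helper28.L37A.P9
import Cfsg.Agent.Helper28.L37A.P10
import Cfsg.Agent.Helper28.L37A.P11
import Cfsg.Agent.Helper28.L37A.P12
import Cfsg.Agent.Helper28.L37A.P13
import Cfsg.Agent.Helper28.L37A.P14
import Cfsg.Agent.Helper28.L37A.P15
import Cfsg.Agent.Helper28.L37A.P16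
import Cfsg.Agent.Helper28.L37A.P17
import Cfsg.Agent.Helper28.L37A.P18
import Cfsg.Agent.Helper28.L37A.P19
set_option autoImplicit false
namespace Cfsg.Agent.Helper28.L37A
open Cfsg.Agent.Helper28
theorem fin_upto0 : allLt (finRow tabs ptabs 646729) 2500 = true :=
  allLt_extend _ 0 2500 2500 rfl (allLt_zero _) fin_piece0
theorem fin_upto1 : allLt (finRow tabs ptabs 646729) 5000 = true :=
  allLt_extend _ 2500 2500 5000 rfl fin_upto0 fin_piece1
theorem fin_upto2 : allLt (finRow tabs ptabs 646729) 7500 = true :=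
  allLt_extend _ 5000 2500 7500 rfl fin_upto1 fin_piece2
theorem fin_upto3 : allLt (finRow tabs ptabs 646729) 10000 = true :=
  allLt_extend _ 7500 2500 10000 rfl fin_upto2 fin_piece3
theorem fin_upto4 : allLt (finRow tabs ptabs 646729) 12500 = true :=
  allLt_extend _ 10000 2500 12500 rfl fin_upto3 fin_piece4
theorem fin_upto5 : allLt (finRow tabs ptabs 646729) 15000 = true :=
  allLt_extend _ 12500 2500 15000 rfl fin_upto4 fin_piece5
theorem fin_upto6 : allLt (finRow tabs ptabs 646729) 17500 = true :=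
  allLt_extend _ 15000 2500 17500 rfl fin_upto5 fin_piece6
theorem fin_upto7 : allLt (finRow tabs ptabs 646729) 20000 = true :=
  allLt_extend _ 17500 2500 20000 rfl fin_upto6 fin_piece7
theorem fin_upto8 : allLt (finRow tabs ptabs 646729) 22500 = true :=
  allLt_extend _ 20000 2500 22500 rfl fin_upto7 fin_piece8
theorem fin_upto9 : allLt (finRow tabs ptabs 646729) 25000 = true :=
  allLt_extend _ 22500 2500 25000 rfl fin_upto8 fin_piece9
theorem fin_upto10 : allLt (finRow tabs ptabs 646729) 27500 = true :=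
  allLt_extend _ 25000 2500 27500 rfl fin_upto9 fin_piece10
theorem fin_upto11 : allLt (finRow tabs ptabs 646729) 30000 = true :=
  allLt_extend _ 27500 2500 30000 rfl fin_upto10 fin_piece11
theorem fin_upto12 : allLt (finRow tabs ptabs 646729) 32500 = true :=
  allLt_extend _ 30000 2500 32500 rfl fin_upto11 fin_piece12
theorem fin_upto13 : allLt (finRow tabs ptabs 646729) 35000 = true :=
  allLt_extend _ 32500 2500 35000 rfl fin_upto12 fin_piece13
theorem fin_upto14 : allLt (finRow tabs ptabs 646729) 37500 = true :=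
  allLt_extend _ 35000 2500 37500 rfl fin_upto13 fin_piece14
theorem fin_upto15 : allLt (finRow tabs ptabs 646729) 40000 = true :=
  allLt_extend _ 37500 2500 40000 rfl fin_upto14 fin_piece15
theorem fin_upto16 : allLt (finRow tabs ptabs 646729) 42500 = true :=
  allLt_extend _ 40000 2500 42500 rfl fin_upto15 fin_piece16
theorem fin_upto17 : allLt (finRow tabs ptabs 646729) 45000 = true :=
  allLt_extend _ 42500 2500 45000 rfl fin_upto16 fin_piece17
theorem fin_upto18 : allLt (finRow tabs ptabs 646729) 47500 = true :=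
  allLt_extend _ 45000 2500 47500 rfl fin_upto17 fin_piece18
theorem fin_upto19 : allLt (finRow tabs ptabs 646729) 50000 = true :=
  allLt_extend _ 47500 2500 50000 rfl fin_upto18 fin_piece19
theorem fin_upto20 : allLt (finRow tabs ptabs 646729) 52500 = true :=
  allLt_extend _ 50000 2500 52500 rfl fin_upto19 fin_piece20
theorem fin_upto21 : allLt (finRow tabs ptabs 646729) 55000 = true :=
  allLt_extend _ 52500 2500 55000 rfl fin_upto20 fin_piece21
theorem fin_upto22 : allLt (finRow tabs ptabs 646729) 57500 = true :=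
  allLt_extend _ 55000 2500 57500 rfl fin_upto21 fin_piece22
theorem fin_upto23 : allLt (finRow tabs ptabs 646729) 60000 = true :=
  allLt_extend _ 57500 2500 60000 rfl fin_upto22 fin_piece23
theorem fin_upto24 : allLt (finRow tabs ptabs 646729) 62500 = true :=
  allLt_extend _ 60000 2500 62500 rfl fin_upto23 fin_piece24
theorem fin_upto25 : allLt (finRow tabs ptabs 646729) 65000 = true :=
  allLt_extend _ 62500 2500 65000 rfl fin_upto24 fin_piece25
theorem fin_upto26 : allLt (finRow tabs ptabs 646729) 67500 = true :=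
  allLt_extend _ 65000 2500 67500 rfl fin_upto25 fin_piece26
theorem fin_upto27 : allLt (finRow tabs ptabs 646729) 70000 = true :=
  allLt_extend _ 67500 2500 70000 rfl fin_upto26 fin_piece27
theorem fin_upto28 : allLt (finRow tabs ptabs 646729) 72500 = true :=
  allLt_extend _ 70000 2500 72500 rfl fin_upto27 fin_piece28
theorem fin_upto29 : allLt (finRow tabs ptabs 646729) 75000 = true :=
  allLt_extend _ 72500 2500 75000 rfl fin_upto28 fin_piece29
theorem fin_upto30 : allLt (finRow tabs ptabs 646729) 77500 = true :=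
  allLt_extend _ 75000 2500 77500 rfl fin_upto29 fin_piece30
theorem fin_upto31 : allLt (finRow tabs ptabs 646729) 80000 = true :=
  allLt_extend _ 77500 2500 80000 rfl fin_upto30 fin_piece31
theorem fin_upto32 : allLt (finRow tabs ptabs 646729) 82500 = true :=
  allLt_extend _ 80000 2500 82500 rfl fin_upto31 fin_piece32
theorem fin_upto33 : allLt (finRow tabs ptabs 646729) 85000 = true :=
  allLt_extend _ 82500 2500 85000 rfl fin_upto32 fin_piece33
theorem fin_upto34 : allLt (finRow tabs ptabs 646729) 87500 = true :=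
  allLt_extend _ 85000 2500 87500 rfl fin_upto33 fin_piece34
theorem fin_upto35 : allLt (finRow tabs ptabs 646729) 90000 = true :=
  allLt_extend _ 87500 2500 90000 rfl fin_upto34 fin_piece35
theorem fin_upto36 : allLt (finRow tabs ptabs 646729) 92500 = true :=
  allLt_extend _ 90000 2500 92500 rfl fin_upto35 fin_piece36
theorem fin_upto37 : allLt (finRow tabs ptabs 646729) 95000 = true :=
  allLt_extend _ 92500 2500 95000 rfl fin_upto36 fin_piece37
theorem fin_upto38 : allLt (finRow tabs ptabs 646729) 97500 = true :=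
  allLt_extend _ 95000 2500 97500 rfl fin_upto37 fin_piece38
theorem fin_upto39 : allLt (finRow tabs ptabs 646729) 98784 = true :=
  allLt_extend _ 97500 1284 98784 rfl fin_upto38 fin_piece39
theorem fin_ok : checkFin tabs ptabs 646729 = true := (checkFin_eq tabs ptabs 646729).trans fin_upto39
theorem inv_upto0 : allLt (invRow ptabs) 10000 = true :=
  allLt_extend _ 0 10000 10000 rfl (allLt_zero _) inv_piece0
theorem inv_upto1 : allLt (invRow ptabs) 20000 = true :=
  allLt_extend _ 10000 10000 20000 rfl inv_upto0 inv_piece1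
theorem inv_upto2 : allLt (invRow ptabs) 30000 = true :=
  allLt_extend _ 20000 10000 30000 rfl inv_upto1 inv_piece2
theorem inv_upto3 : allLt (invRow ptabs) 40000 = true :=
  allLt_extend _ 30000 10000 40000 rfl inv_upto2 inv_piece3
theorem inv_upto4 : allLt (invRow ptabs) 50000 = true :=
  allLt_extend _ 40000 10000 50000 rfl inv_upto3 inv_piece4
theorem inv_upto5 : allLt (invRow ptabs) 60000 = true :=
  allLt_extend _ 50000 10000 60000 rfl inv_upto4 inv_piece5
theorem inv_upto6 : allLt (invRow ptabs) 70000 = true :=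
  allLt_extend _ 60000 10000 70000 rfl inv_upto5 inv_piece6
theorem inv_upto7 : allLt (invRow ptabs) 80000 = true :=
  allLt_extend _ 70000 10000 80000 rfl inv_upto6 inv_piece7
theorem inv_upto8 : allLt (invRow ptabs) 90000 = true :=
  allLt_extend _ 80000 10000 90000 rfl inv_upto7 inv_piece8
theorem inv_upto9 : allLt (invRow ptabs) 98784 = true :=
  allLt_extend _ 90000 8784 98784 rfl inv_upto8 inv_piece9
theorem inv_ok : invOk ptabs = true := (invOk_eq ptabs).trans inv_upto9
theorem defs_upto0 : allLt (defOk tabs) 66666 = true :=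
  allLt_extend _ 0 66666 66666 rfl (allLt_zero _) defs_piece0
theorem defs_upto1 : allLt (defOk tabs) 133332 = true :=
  allLt_extend _ 66666 66666 133332 rfl defs_upto0 defs_piece1
theorem defs_upto2 : allLt (defOk tabs) 199998 = true :=
  allLt_extend _ 133332 66666 199998 rfl defs_upto1 defs_piece2
theorem defs_upto3 : allLt (defOk tabs) 266664 = true :=
  allLt_extend _ 199998 66666 266664 rfl defs_upto2 defs_piece3
theorem defs_upto4 : allLt (defOk tabs) 333330 = true :=
  allLt_extend _ 266664 66666 333330 rfl defs_upto3 defs_piece4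
theorem defs_upto5 : allLt (defOk tabs) 399996 = true :=
  allLt_extend _ 333330 66666 399996 rfl defs_upto4 defs_piece5
theorem defs_upto6 : allLt (defOk tabs) 422893 = true :=
  allLt_extend _ 399996 22897 422893 rfl defs_upto5 defs_piece6
theorem defs_ok : checkDefs tabs = true := (checkDefs_eq tabs).trans defs_upto6
theorem par_upto0 : allLt (parRow ptabs) 53333 = true :=
  allLt_extend _ 0 53333 53333 rfl (allLt_zero _) par_piece0
theorem par_upto1 : allLt (parRow ptabs) 98784 = true :=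
  allLt_extend _ 53333 45451 98784 rfl par_upto0 par_piece1
theorem par_ok : parOk ptabs = true := (parOk_eq ptabs).trans par_upto1
theorem perm_g0_upto0 : TraceFix ptabs.perm tabs.word 1 5 44444 :=
  traceFix_extendF _ _ letSel perm_eq 1 5 0 44444 44444 rfl (traceFix_zero _ _ 1 5) perm_piece_0_0
theorem perm_g0_upto1 : TraceFix ptabs.perm tabs.word 1 5 88888 :=
  traceFix_extendF _ _ letSel perm_eq 1 5 44444 44444 88888 rfl perm_g0_upto0 perm_piece_0_1
theorem perm_g0_upto2 : TraceFix ptabs.perm tabs.word 1 5 98784 :=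
  traceFix_extendF _ _ letSel perm_eq 1 5 88888 9896 98784 rfl perm_g0_upto1 perm_piece_0_2
theorem perm_g0 : ∀ r, 1 ≤ r → r < 1 + 5 → relOk ptabs (tabs.word r) 0 ptabs.n = true :=
  relOk_of_traceFix ptabs tabs.word 1 5 perm_g0_upto2
theorem perm_g1_upto0 : TraceFix ptabs.perm tabs.word 6 1 14814 :=
  traceFix_extendF _ _ letSel perm_eq 6 1 0 14814 14814 rfl (traceFix_zero _ _ 6 1) perm_piece_1_0
theorem perm_g1_upto1 : TraceFix ptabs.perm tabs.word 6 1 29628 :=
  traceFix_extendF _ _ letSel perm_eq 6 1 14814 14814 29628 rfl perm_g1_upto0 perm_piece_1_1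
theorem perm_g1_upto2 : TraceFix ptabs.perm tabs.word 6 1 44442 :=
  traceFix_extendF _ _ letSel perm_eq 6 1 29628 14814 44442 rfl perm_g1_upto1 perm_piece_1_2
theorem perm_g1_upto3 : TraceFix ptabs.perm tabs.word 6 1 59256 :=
  traceFix_extendF _ _ letSel perm_eq 6 1 44442 14814 59256 rfl perm_g1_upto2 perm_piece_1_3
theorem perm_g1_upto4 : TraceFix ptabs.perm tabs.word 6 1 74070 :=
  traceFix_extendF _ _ letSel perm_eq 6 1 59256 14814 74070 rfl perm_g1_upto3 perm_piece_1_4
theorem perm_g1_upto5 : TraceFix ptabs.perm tabs.word 6 1 88884 :=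
  traceFix_extendF _ _ letSel perm_eq 6 1 74070 14814 88884 rfl perm_g1_upto4 perm_piece_1_5
theorem perm_g1_upto6 : TraceFix ptabs.perm tabs.word 6 1 98784 :=
  traceFix_extendF _ _ letSel perm_eq 6 1 88884 9900 98784 rfl perm_g1_upto5 perm_piece_1_6
theorem perm_g1 : ∀ r, 6 ≤ r → r < 6 + 1 → relOk ptabs (tabs.word r) 0 ptabs.n = true :=
  relOk_of_traceFix ptabs tabs.word 6 1 perm_g1_upto6
theorem perm_g2_upto0 : TraceFix ptabs.perm tabs.word 7 1 3703 :=
  traceFix_extendF _ _ letSel perm_eq 7 1 0 3703 3703 rfl (traceFix_zero _ _ 7 1) perm_piece_2_0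
theorem perm_g2_upto1 : TraceFix ptabs.perm tabs.word 7 1 7406 :=
  traceFix_extendF _ _ letSel perm_eq 7 1 3703 3703 7406 rfl perm_g2_upto0 perm_piece_2_1
theorem perm_g2_upto2 : TraceFix ptabs.perm tabs.word 7 1 11109 :=
  traceFix_extendF _ _ letSel perm_eq 7 1 7406 3703 11109 rfl perm_g2_upto1 perm_piece_2_2
theorem perm_g2_upto3 : TraceFix ptabs.perm tabs.word 7 1 14812 :=
  traceFix_extendF _ _ letSel perm_eq 7 1 11109 3703 14812 rfl perm_g2_upto2 perm_piece_2_3
theorem perm_g2_upto4 : TraceFix ptabs.perm tabs.word 7 1 18515 :=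
  traceFix_extendF _ _ letSel perm_eq 7 1 14812 3703 18515 rfl perm_g2_upto3 perm_piece_2_4
theorem perm_g2_upto5 : TraceFix ptabs.perm tabs.word 7 1 22218 :=
  traceFix_extendF _ _ letSel perm_eq 7 1 18515 3703 22218 rfl perm_g2_upto4 perm_piece_2_5
theorem perm_g2_upto6 : TraceFix ptabs.perm tabs.word 7 1 25921 :=
  traceFix_extendF _ _ letSel perm_eq 7 1 22218 3703 25921 rfl perm_g2_upto5 perm_piece_2_6
theorem perm_g2_upto7 : TraceFix ptabs.perm tabs.word 7 1 29624 :=
  traceFix_extendF _ _ letSel perm_eq 7 1 25921 3703 29624 rfl perm_g2_upto6 perm_piece_2_7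
theorem perm_g2_upto8 : TraceFix ptabs.perm tabs.word 7 1 33327 :=
  traceFix_extendF _ _ letSel perm_eq 7 1 29624 3703 33327 rfl perm_g2_upto7 perm_piece_2_8
theorem perm_g2_upto9 : TraceFix ptabs.perm tabs.word 7 1 37030 :=
  traceFix_extendF _ _ letSel perm_eq 7 1 33327 3703 37030 rfl perm_g2_upto8 perm_piece_2_9
theorem perm_g2_upto10 : TraceFix ptabs.perm tabs.word 7 1 40733 :=
  traceFix_extendF _ _ letSel perm_eq 7 1 37030 3703 40733 rfl perm_g2_upto9 perm_piece_2_10
theorem perm_g2_upto11 : TraceFix ptabs.perm tabs.word 7 1 44436 :=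
  traceFix_extendF _ _ letSel perm_eq 7 1 40733 3703 44436 rfl perm_g2_upto10 perm_piece_2_11
theorem perm_g2_upto12 : TraceFix ptabs.perm tabs.word 7 1 48139 :=
  traceFix_extendF _ _ letSel perm_eq 7 1 44436 3703 48139 rfl perm_g2_upto11 perm_piece_2_12
theorem perm_g2_upto13 : TraceFix ptabs.perm tabs.word 7 1 51842 :=
  traceFix_extendF _ _ letSel perm_eq 7 1 48139 3703 51842 rfl perm_g2_upto12 perm_piece_2_13
theorem perm_g2_upto14 : TraceFix ptabs.perm tabs.word 7 1 55545 :=
  traceFix_extendF _ _ letSel perm_eq 7 1 51842 3703 55545 rfl perm_g2_upto13 perm_piece_2_14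
theorem perm_g2_upto15 : TraceFix ptabs.perm tabs.word 7 1 59248 :=
  traceFix_extendF _ _ letSel perm_eq 7 1 55545 3703 59248 rfl perm_g2_upto14 perm_piece_2_15
theorem perm_g2_upto16 : TraceFix ptabs.perm tabs.word 7 1 62951 :=
  traceFix_extendF _ _ letSel perm_eq 7 1 59248 3703 62951 rfl perm_g2_upto15 perm_piece_2_16
theorem perm_g2_upto17 : TraceFix ptabs.perm tabs.word 7 1 66654 :=
  traceFix_extendF _ _ letSel perm_eq 7 1 62951 3703 66654 rfl perm_g2_upto16 perm_piece_2_17
theorem perm_g2_upto18 : TraceFix ptabs.perm tabs.word 7 1 70357 :=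
  traceFix_extendF _ _ letSel perm_eq 7 1 66654 3703 70357 rfl perm_g2_upto17 perm_piece_2_18
theorem perm_g2_upto19 : TraceFix ptabs.perm tabs.word 7 1 74060 :=
  traceFix_extendF _ _ letSel perm_eq 7 1 70357 3703 74060 rfl perm_g2_upto18 perm_piece_2_19
theorem perm_g2_upto20 : TraceFix ptabs.perm tabs.word 7 1 77763 :=
  traceFix_extendF _ _ letSel perm_eq 7 1 74060 3703 77763 rfl perm_g2_upto19 perm_piece_2_20
theorem perm_g2_upto21 : TraceFix ptabs.perm tabs.word 7 1 81466 :=
  traceFix_extendF _ _ letSel perm_eq 7 1 77763 3703 81466 rfl perm_g2_upto20 perm_piece_2_21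
theorem perm_g2_upto22 : TraceFix ptabs.perm tabs.word 7 1 85169 :=
  traceFix_extendF _ _ letSel perm_eq 7 1 81466 3703 85169 rfl perm_g2_upto21 perm_piece_2_22
theorem perm_g2_upto23 : TraceFix ptabs.perm tabs.word 7 1 88872 :=
  traceFix_extendF _ _ letSel perm_eq 7 1 85169 3703 88872 rfl perm_g2_upto22 perm_piece_2_23
theorem perm_g2_upto24 : TraceFix ptabs.perm tabs.word 7 1 92575 :=
  traceFix_extendF _ _ letSel perm_eq 7 1 88872 3703 92575 rfl perm_g2_upto23 perm_piece_2_24
theorem perm_g2_upto25 : TraceFix ptabs.perm tabs.word 7 1 96278 :=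
  traceFix_extendF _ _ letSel perm_eq 7 1 92575 3703 96278 rfl perm_g2_upto24 perm_piece_2_25
theorem perm_g2_upto26 : TraceFix ptabs.perm tabs.word 7 1 98784 :=
  traceFix_extendF _ _ letSel perm_eq 7 1 96278 2506 98784 rfl perm_g2_upto25 perm_piece_2_26
theorem perm_g2 : ∀ r, 7 ≤ r → r < 7 + 1 → relOk ptabs (tabs.word r) 0 ptabs.n = true :=
  relOk_of_traceFix ptabs tabs.word 7 1 perm_g2_upto26
theorem perm_g3_upto0 : TraceFix ptabs.perm tabs.word 8 1 2777 :=
  traceFix_extendF _ _ letSel perm_eq 8 1 0 2777 2777 rfl (traceFix_zero _ _ 8 1) perm_piece_3_0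
theorem perm_g3_upto1 : TraceFix ptabs.perm tabs.word 8 1 5554 :=
  traceFix_extendF _ _ letSel perm_eq 8 1 2777 2777 5554 rfl perm_g3_upto0 perm_piece_3_1
theorem perm_g3_upto2 : TraceFix ptabs.perm tabs.word 8 1 8331 :=
  traceFix_extendF _ _ letSel perm_eq 8 1 5554 2777 8331 rfl perm_g3_upto1 perm_piece_3_2
theorem perm_g3_upto3 : TraceFix ptabs.perm tabs.word 8 1 11108 :=
  traceFix_extendF _ _ letSel perm_eq 8 1 8331 2777 11108 rfl perm_g3_upto2 perm_piece_3_3
theorem perm_g3_upto4 : TraceFix ptabs.perm tabs.word 8 1 13885 :=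
  traceFix_extendF _ _ letSel perm_eq 8 1 11108 2777 13885 rfl perm_g3_upto3 perm_piece_3_4
theorem perm_g3_upto5 : TraceFix ptabs.perm tabs.word 8 1 16662 :=
  traceFix_extendF _ _ letSel perm_eq 8 1 13885 2777 16662 rfl perm_g3_upto4 perm_piece_3_5
theorem perm_g3_upto6 : TraceFix ptabs.perm tabs.word 8 1 19439 :=
  traceFix_extendF _ _ letSel perm_eq 8 1 16662 2777 19439 rfl perm_g3_upto5 perm_piece_3_6
theorem perm_g3_upto7 : TraceFix ptabs.perm tabs.word 8 1 22216 :=
  traceFix_extendF _ _ letSel perm_eq 8 1 19439 2777 22216 rfl perm_g3_upto6 perm_piece_3_7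
theorem perm_g3_upto8 : TraceFix ptabs.perm tabs.word 8 1 24993 :=
  traceFix_extendF _ _ letSel perm_eq 8 1 22216 2777 24993 rfl perm_g3_upto7 perm_piece_3_8
theorem perm_g3_upto9 : TraceFix ptabs.perm tabs.word 8 1 27770 :=
  traceFix_extendF _ _ letSel perm_eq 8 1 24993 2777 27770 rfl perm_g3_upto8 perm_piece_3_9
theorem perm_g3_upto10 : TraceFix ptabs.perm tabs.word 8 1 30547 :=
  traceFix_extendF _ _ letSel perm_eq 8 1 27770 2777 30547 rfl perm_g3_upto9 perm_piece_3_10
theorem perm_g3_upto11 : TraceFix ptabs.perm tabs.word 8 1 33324 :=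
  traceFix_extendF _ _ letSel perm_eq 8 1 30547 2777 33324 rfl perm_g3_upto10 perm_piece_3_11
theorem perm_g3_upto12 : TraceFix ptabs.perm tabs.word 8 1 36101 :=
  traceFix_extendF _ _ letSel perm_eq 8 1 33324 2777 36101 rfl perm_g3_upto11 perm_piece_3_12
theorem perm_g3_upto13 : TraceFix ptabs.perm tabs.word 8 1 38878 :=
  traceFix_extendF _ _ letSel perm_eq 8 1 36101 2777 38878 rfl perm_g3_upto12 perm_piece_3_13
theorem perm_g3_upto14 : TraceFix ptabs.perm tabs.word 8 1 41655 :=
  traceFix_extendF _ _ letSel perm_eq 8 1 38878 2777 41655 rfl perm_g3_upto13 perm_piece_3_14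
theorem perm_g3_upto15 : TraceFix ptabs.perm tabs.word 8 1 44432 :=
  traceFix_extendF _ _ letSel perm_eq 8 1 41655 2777 44432 rfl perm_g3_upto14 perm_piece_3_15
theorem perm_g3_upto16 : TraceFix ptabs.perm tabs.word 8 1 47209 :=
  traceFix_extendF _ _ letSel perm_eq 8 1 44432 2777 47209 rfl perm_g3_upto15 perm_piece_3_16
theorem perm_g3_upto17 : TraceFix ptabs.perm tabs.word 8 1 49986 :=
  traceFix_extendF _ _ letSel perm_eq 8 1 47209 2777 49986 rfl perm_g3_upto16 perm_piece_3_17
theorem perm_g3_upto18 : TraceFix ptabs.perm tabs.word 8 1 52763 :=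
  traceFix_extendF _ _ letSel perm_eq 8 1 49986 2777 52763 rfl perm_g3_upto17 perm_piece_3_18
theorem perm_g3_upto19 : TraceFix ptabs.perm tabs.word 8 1 55540 :=
  traceFix_extendF _ _ letSel perm_eq 8 1 52763 2777 55540 rfl perm_g3_upto18 perm_piece_3_19
theorem perm_g3_upto20 : TraceFix ptabs.perm tabs.word 8 1 58317 :=
  traceFix_extendF _ _ letSel perm_eq 8 1 55540 2777 58317 rfl perm_g3_upto19 perm_piece_3_20
theorem perm_g3_upto21 : TraceFix ptabs.perm tabs.word 8 1 61094 :=
  traceFix_extendF _ _ letSel perm_eq 8 1 58317 2777 61094 rfl perm_g3_upto20 perm_piece_3_21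
theorem perm_g3_upto22 : TraceFix ptabs.perm tabs.word 8 1 63871 :=
  traceFix_extendF _ _ letSel perm_eq 8 1 61094 2777 63871 rfl perm_g3_upto21 perm_piece_3_22
theorem perm_g3_upto23 : TraceFix ptabs.perm tabs.word 8 1 66648 :=
  traceFix_extendF _ _ letSel perm_eq 8 1 63871 2777 66648 rfl perm_g3_upto22 perm_piece_3_23
theorem perm_g3_upto24 : TraceFix ptabs.perm tabs.word 8 1 69425 :=
  traceFix_extendF _ _ letSel perm_eq 8 1 66648 2777 69425 rfl perm_g3_upto23 perm_piece_3_24
theorem perm_g3_upto25 : TraceFix ptabs.perm tabs.word 8 1 72202 :=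
  traceFix_extendF _ _ letSel perm_eq 8 1 69425 2777 72202 rfl perm_g3_upto24 perm_piece_3_25
theorem perm_g3_upto26 : TraceFix ptabs.perm tabs.word 8 1 74979 :=
  traceFix_extendF _ _ letSel perm_eq 8 1 72202 2777 74979 rfl perm_g3_upto25 perm_piece_3_26
theorem perm_g3_upto27 : TraceFix ptabs.perm tabs.word 8 1 77756 :=
  traceFix_extendF _ _ letSel perm_eq 8 1 74979 2777 77756 rfl perm_g3_upto26 perm_piece_3_27
theorem perm_g3_upto28 : TraceFix ptabs.perm tabs.word 8 1 80533 :=
  traceFix_extendF _ _ letSel perm_eq 8 1 77756 2777 80533 rfl perm_g3_upto27 perm_piece_3_28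
theorem perm_g3_upto29 : TraceFix ptabs.perm tabs.word 8 1 83310 :=
  traceFix_extendF _ _ letSel perm_eq 8 1 80533 2777 83310 rfl perm_g3_upto28 perm_piece_3_29
theorem perm_g3_upto30 : TraceFix ptabs.perm tabs.word 8 1 86087 :=
  traceFix_extendF _ _ letSel perm_eq 8 1 83310 2777 86087 rfl perm_g3_upto29 perm_piece_3_30
theorem perm_g3_upto31 : TraceFix ptabs.perm tabs.word 8 1 88864 :=
  traceFix_extendF _ _ letSel perm_eq 8 1 86087 2777 88864 rfl perm_g3_upto30 perm_piece_3_31
theorem perm_g3_upto32 : TraceFix ptabs.perm tabs.word 8 1 91641 :=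
  traceFix_extendF _ _ letSel perm_eq 8 1 88864 2777 91641 rfl perm_g3_upto31 perm_piece_3_32
theorem perm_g3_upto33 : TraceFix ptabs.perm tabs.word 8 1 94418 :=
  traceFix_extendF _ _ letSel perm_eq 8 1 91641 2777 94418 rfl perm_g3_upto32 perm_piece_3_33
theorem perm_g3_upto34 : TraceFix ptabs.perm tabs.word 8 1 97195 :=
  traceFix_extendF _ _ letSel perm_eq 8 1 94418 2777 97195 rfl perm_g3_upto33 perm_piece_3_34
theorem perm_g3_upto35 : TraceFix ptabs.perm tabs.word 8 1 98784 :=
  traceFix_extendF _ _ letSel perm_eq 8 1 97195 1589 98784 rfl perm_g3_upto34 perm_piece_3_35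
theorem perm_g3 : ∀ r, 8 ≤ r → r < 8 + 1 → relOk ptabs (tabs.word r) 0 ptabs.n = true :=
  relOk_of_traceFix ptabs tabs.word 8 1 perm_g3_upto35
theorem perm_g4_upto0 : TraceFix ptabs.perm tabs.word 9 1 4678 :=
  traceFix_extendF _ _ letSel perm_eq 9 1 0 4678 4678 rfl (traceFix_zero _ _ 9 1) perm_piece_4_0
theorem perm_g4_upto1 : TraceFix ptabs.perm tabs.word 9 1 9356 :=
  traceFix_extendF _ _ letSel perm_eq 9 1 4678 4678 9356 rfl perm_g4_upto0 perm_piece_4_1
theorem perm_g4_upto2 : TraceFix ptabs.perm tabs.word 9 1 14034 :=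
  traceFix_extendF _ _ letSel perm_eq 9 1 9356 4678 14034 rfl perm_g4_upto1 perm_piece_4_2
theorem perm_g4_upto3 : TraceFix ptabs.perm tabs.word 9 1 18712 :=
  traceFix_extendF _ _ letSel perm_eq 9 1 14034 4678 18712 rfl perm_g4_upto2 perm_piece_4_3
theorem perm_g4_upto4 : TraceFix ptabs.perm tabs.word 9 1 23390 :=
  traceFix_extendF _ _ letSel perm_eq 9 1 18712 4678 23390 rfl perm_g4_upto3 perm_piece_4_4
theorem perm_g4_upto5 : TraceFix ptabs.perm tabs.word 9 1 28068 :=
  traceFix_extendF _ _ letSel perm_eq 9 1 23390 4678 28068 rfl perm_g4_upto4 perm_piece_4_5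
theorem perm_g4_upto6 : TraceFix ptabs.perm tabs.word 9 1 32746 :=
  traceFix_extendF _ _ letSel perm_eq 9 1 28068 4678 32746 rfl perm_g4_upto5 perm_piece_4_6
theorem perm_g4_upto7 : TraceFix ptabs.perm tabs.word 9 1 37424 :=
  traceFix_extendF _ _ letSel perm_eq 9 1 32746 4678 37424 rfl perm_g4_upto6 perm_piece_4_7
theorem perm_g4_upto8 : TraceFix ptabs.perm tabs.word 9 1 42102 :=
  traceFix_extendF _ _ letSel perm_eq 9 1 37424 4678 42102 rfl perm_g4_upto7 perm_piece_4_8
theorem perm_g4_upto9 : TraceFix ptabs.perm tabs.word 9 1 46780 :=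
  traceFix_extendF _ _ letSel perm_eq 9 1 42102 4678 46780 rfl perm_g4_upto8 perm_piece_4_9
theorem perm_g4_upto10 : TraceFix ptabs.perm tabs.word 9 1 51458 :=
  traceFix_extendF _ _ letSel perm_eq 9 1 46780 4678 51458 rfl perm_g4_upto9 perm_piece_4_10
theorem perm_g4_upto11 : TraceFix ptabs.perm tabs.word 9 1 56136 :=
  traceFix_extendF _ _ letSel perm_eq 9 1 51458 4678 56136 rfl perm_g4_upto10 perm_piece_4_11
theorem perm_g4_upto12 : TraceFix ptabs.perm tabs.word 9 1 60814 :=
  traceFix_extendF _ _ letSel perm_eq 9 1 56136 4678 60814 rfl perm_g4_upto11 perm_piece_4_12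
theorem perm_g4_upto13 : TraceFix ptabs.perm tabs.word 9 1 65492 :=
  traceFix_extendF _ _ letSel perm_eq 9 1 60814 4678 65492 rfl perm_g4_upto12 perm_piece_4_13
theorem perm_g4_upto14 : TraceFix ptabs.perm tabs.word 9 1 70170 :=
  traceFix_extendF _ _ letSel perm_eq 9 1 65492 4678 70170 rfl perm_g4_upto13 perm_piece_4_14
theorem perm_g4_upto15 : TraceFix ptabs.perm tabs.word 9 1 74848 :=
  traceFix_extendF _ _ letSel perm_eq 9 1 70170 4678 74848 rfl perm_g4_upto14 perm_piece_4_15
theorem perm_g4_upto16 : TraceFix ptabs.perm tabs.word 9 1 79526 :=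
  traceFix_extendF _ _ letSel perm_eq 9 1 74848 4678 79526 rfl perm_g4_upto15 perm_piece_4_16
theorem perm_g4_upto17 : TraceFix ptabs.perm tabs.word 9 1 84204 :=
  traceFix_extendF _ _ letSel perm_eq 9 1 79526 4678 84204 rfl perm_g4_upto16 perm_piece_4_17
theorem perm_g4_upto18 : TraceFix ptabs.perm tabs.word 9 1 88882 :=
  traceFix_extendF _ _ letSel perm_eq 9 1 84204 4678 88882 rfl perm_g4_upto17 perm_piece_4_18
theorem perm_g4_upto19 : TraceFix ptabs.perm tabs.word 9 1 93560 :=
  traceFix_extendF _ _ letSel perm_eq 9 1 88882 4678 93560 rfl perm_g4_upto18 perm_piece_4_19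
theorem perm_g4_upto20 : TraceFix ptabs.perm tabs.word 9 1 98238 :=
  traceFix_extendF _ _ letSel perm_eq 9 1 93560 4678 98238 rfl perm_g4_upto19 perm_piece_4_20
theorem perm_g4_upto21 : TraceFix ptabs.perm tabs.word 9 1 98784 :=
  traceFix_extendF _ _ letSel perm_eq 9 1 98238 546 98784 rfl perm_g4_upto20 perm_piece_4_21
theorem perm_g4 : ∀ r, 9 ≤ r → r < 9 + 1 → relOk ptabs (tabs.word r) 0 ptabs.n = true :=
  relOk_of_traceFix ptabs tabs.word 9 1 perm_g4_upto21
theorem perm_g5_upto0 : TraceFix ptabs.perm tabs.word 10 1 3418 :=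
  traceFix_extendF _ _ letSel perm_eq 10 1 0 3418 3418 rfl (traceFix_zero _ _ 10 1) perm_piece_5_0
theorem perm_g5_upto1 : TraceFix ptabs.perm tabs.word 10 1 6836 :=
  traceFix_extendF _ _ letSel perm_eq 10 1 3418 3418 6836 rfl perm_g5_upto0 perm_piece_5_1
theorem perm_g5_upto2 : TraceFix ptabs.perm tabs.word 10 1 10254 :=
  traceFix_extendF _ _ letSel perm_eq 10 1 6836 3418 10254 rfl perm_g5_upto1 perm_piece_5_2
theorem perm_g5_upto3 : TraceFix ptabs.perm tabs.word 10 1 13672 :=
  traceFix_extendF _ _ letSel perm_eq 10 1 10254 3418 13672 rfl perm_g5_upto2 perm_piece_5_3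
theorem perm_g5_upto4 : TraceFix ptabs.perm tabs.word 10 1 17090 :=
  traceFix_extendF _ _ letSel perm_eq 10 1 13672 3418 17090 rfl perm_g5_upto3 perm_piece_5_4
theorem perm_g5_upto5 : TraceFix ptabs.perm tabs.word 10 1 20508 :=
  traceFix_extendF _ _ letSel perm_eq 10 1 17090 3418 20508 rfl perm_g5_upto4 perm_piece_5_5
theorem perm_g5_upto6 : TraceFix ptabs.perm tabs.word 10 1 23926 :=
  traceFix_extendF _ _ letSel perm_eq 10 1 20508 3418 23926 rfl perm_g5_upto5 perm_piece_5_6
theorem perm_g5_upto7 : TraceFix ptabs.perm tabs.word 10 1 27344 :=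
  traceFix_extendF _ _ letSel perm_eq 10 1 23926 3418 27344 rfl perm_g5_upto6 perm_piece_5_7
theorem perm_g5_upto8 : TraceFix ptabs.perm tabs.word 10 1 30762 :=
  traceFix_extendF _ _ letSel perm_eq 10 1 27344 3418 30762 rfl perm_g5_upto7 perm_piece_5_8
theorem perm_g5_upto9 : TraceFix ptabs.perm tabs.word 10 1 34180 :=
  traceFix_extendF _ _ letSel perm_eq 10 1 30762 3418 34180 rfl perm_g5_upto8 perm_piece_5_9
theorem perm_g5_upto10 : TraceFix ptabs.perm tabs.word 10 1 37598 :=
  traceFix_extendF _ _ letSel perm_eq 10 1 34180 3418 37598 rfl perm_g5_upto9 perm_piece_5_10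
theorem perm_g5_upto11 : TraceFix ptabs.perm tabs.word 10 1 41016 :=
  traceFix_extendF _ _ letSel perm_eq 10 1 37598 3418 41016 rfl perm_g5_upto10 perm_piece_5_11
theorem perm_g5_upto12 : TraceFix ptabs.perm tabs.word 10 1 44434 :=
  traceFix_extendF _ _ letSel perm_eq 10 1 41016 3418 44434 rfl perm_g5_upto11 perm_piece_5_12
theorem perm_g5_upto13 : TraceFix ptabs.perm tabs.word 10 1 47852 :=
  traceFix_extendF _ _ letSel perm_eq 10 1 44434 3418 47852 rfl perm_g5_upto12 perm_piece_5_13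
theorem perm_g5_upto14 : TraceFix ptabs.perm tabs.word 10 1 51270 :=
  traceFix_extendF _ _ letSel perm_eq 10 1 47852 3418 51270 rfl perm_g5_upto13 perm_piece_5_14
theorem perm_g5_upto15 : TraceFix ptabs.perm tabs.word 10 1 54688 :=
  traceFix_extendF _ _ letSel perm_eq 10 1 51270 3418 54688 rfl perm_g5_upto14 perm_piece_5_15
theorem perm_g5_upto16 : TraceFix ptabs.perm tabs.word 10 1 58106 :=
  traceFix_extendF _ _ letSel perm_eq 10 1 54688 3418 58106 rfl perm_g5_upto15 perm_piece_5_16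
theorem perm_g5_upto17 : TraceFix ptabs.perm tabs.word 10 1 61524 :=
  traceFix_extendF _ _ letSel perm_eq 10 1 58106 3418 61524 rfl perm_g5_upto16 perm_piece_5_17
theorem perm_g5_upto18 : TraceFix ptabs.perm tabs.word 10 1 64942 :=
  traceFix_extendF _ _ letSel perm_eq 10 1 61524 3418 64942 rfl perm_g5_upto17 perm_piece_5_18
theorem perm_g5_upto19 : TraceFix ptabs.perm tabs.word 10 1 68360 :=
  traceFix_extendF _ _ letSel perm_eq 10 1 64942 3418 68360 rfl perm_g5_upto18 perm_piece_5_19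
theorem perm_g5_upto20 : TraceFix ptabs.perm tabs.word 10 1 71778 :=
  traceFix_extendF _ _ letSel perm_eq 10 1 68360 3418 71778 rfl perm_g5_upto19 perm_piece_5_20
theorem perm_g5_upto21 : TraceFix ptabs.perm tabs.word 10 1 75196 :=
  traceFix_extendF _ _ letSel perm_eq 10 1 71778 3418 75196 rfl perm_g5_upto20 perm_piece_5_21
theorem perm_g5_upto22 : TraceFix ptabs.perm tabs.word 10 1 78614 :=
  traceFix_extendF _ _ letSel perm_eq 10 1 75196 3418 78614 rfl perm_g5_upto21 perm_piece_5_22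
theorem perm_g5_upto23 : TraceFix ptabs.perm tabs.word 10 1 82032 :=
  traceFix_extendF _ _ letSel perm_eq 10 1 78614 3418 82032 rfl perm_g5_upto22 perm_piece_5_23
theorem perm_g5_upto24 : TraceFix ptabs.perm tabs.word 10 1 85450 :=
  traceFix_extendF _ _ letSel perm_eq 10 1 82032 3418 85450 rfl perm_g5_upto23 perm_piece_5_24
theorem perm_g5_upto25 : TraceFix ptabs.perm tabs.word 10 1 88868 :=
  traceFix_extendF _ _ letSel perm_eq 10 1 85450 3418 88868 rfl perm_g5_upto24 perm_piece_5_25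
theorem perm_g5_upto26 : TraceFix ptabs.perm tabs.word 10 1 92286 :=
  traceFix_extendF _ _ letSel perm_eq 10 1 88868 3418 92286 rfl perm_g5_upto25 perm_piece_5_26
theorem perm_g5_upto27 : TraceFix ptabs.perm tabs.word 10 1 95704 :=
  traceFix_extendF _ _ letSel perm_eq 10 1 92286 3418 95704 rfl perm_g5_upto26 perm_piece_5_27
theorem perm_g5_upto28 : TraceFix ptabs.perm tabs.word 10 1 98784 :=
  traceFix_extendF _ _ letSel perm_eq 10 1 95704 3080 98784 rfl perm_g5_upto27 perm_piece_5_28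
theorem perm_g5 : ∀ r, 10 ≤ r → r < 10 + 1 → relOk ptabs (tabs.word r) 0 ptabs.n = true :=
  relOk_of_traceFix ptabs tabs.word 10 1 perm_g5_upto28
theorem perm_g6_upto0 : TraceFix ptabs.perm tabs.word 11 1 2469 :=
  traceFix_extendF _ _ letSel perm_eq 11 1 0 2469 2469 rfl (traceFix_zero _ _ 11 1) perm_piece_6_0
theorem perm_g6_upto1 : TraceFix ptabs.perm tabs.word 11 1 4938 :=
  traceFix_extendF _ _ letSel perm_eq 11 1 2469 2469 4938 rfl perm_g6_upto0 perm_piece_6_1
theorem perm_g6_upto2 : TraceFix ptabs.perm tabs.word 11 1 7407 :=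
  traceFix_extendF _ _ letSel perm_eq 11 1 4938 2469 7407 rfl perm_g6_upto1 perm_piece_6_2
theorem perm_g6_upto3 : TraceFix ptabs.perm tabs.word 11 1 9876 :=
  traceFix_extendF _ _ letSel perm_eq 11 1 7407 2469 9876 rfl perm_g6_upto2 perm_piece_6_3
theorem perm_g6_upto4 : TraceFix ptabs.perm tabs.word 11 1 12345 :=
  traceFix_extendF _ _ letSel perm_eq 11 1 9876 2469 12345 rfl perm_g6_upto3 perm_piece_6_4
theorem perm_g6_upto5 : TraceFix ptabs.perm tabs.word 11 1 14814 :=
  traceFix_extendF _ _ letSel perm_eq 11 1 12345 2469 14814 rfl perm_g6_upto4 perm_piece_6_5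
theorem perm_g6_upto6 : TraceFix ptabs.perm tabs.word 11 1 17283 :=
  traceFix_extendF _ _ letSel perm_eq 11 1 14814 2469 17283 rfl perm_g6_upto5 perm_piece_6_6
theorem perm_g6_upto7 : TraceFix ptabs.perm tabs.word 11 1 19752 :=
  traceFix_extendF _ _ letSel perm_eq 11 1 17283 2469 19752 rfl perm_g6_upto6 perm_piece_6_7
theorem perm_g6_upto8 : TraceFix ptabs.perm tabs.word 11 1 22221 :=
  traceFix_extendF _ _ letSel perm_eq 11 1 19752 2469 22221 rfl perm_g6_upto7 perm_piece_6_8
theorem perm_g6_upto9 : TraceFix ptabs.perm tabs.word 11 1 24690 :=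
  traceFix_extendF _ _ letSel perm_eq 11 1 22221 2469 24690 rfl perm_g6_upto8 perm_piece_6_9
theorem perm_g6_upto10 : TraceFix ptabs.perm tabs.word 11 1 27159 :=
  traceFix_extendF _ _ letSel perm_eq 11 1 24690 2469 27159 rfl perm_g6_upto9 perm_piece_6_10
theorem perm_g6_upto11 : TraceFix ptabs.perm tabs.word 11 1 29628 :=
  traceFix_extendF _ _ letSel perm_eq 11 1 27159 2469 29628 rfl perm_g6_upto10 perm_piece_6_11
theorem perm_g6_upto12 : TraceFix ptabs.perm tabs.word 11 1 32097 :=
  traceFix_extendF _ _ letSel perm_eq 11 1 29628 2469 32097 rfl perm_g6_upto11 perm_piece_6_12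
theorem perm_g6_upto13 : TraceFix ptabs.perm tabs.word 11 1 34566 :=
  traceFix_extendF _ _ letSel perm_eq 11 1 32097 2469 34566 rfl perm_g6_upto12 perm_piece_6_13
theorem perm_g6_upto14 : TraceFix ptabs.perm tabs.word 11 1 37035 :=
  traceFix_extendF _ _ letSel perm_eq 11 1 34566 2469 37035 rfl perm_g6_upto13 perm_piece_6_14
theorem perm_g6_upto15 : TraceFix ptabs.perm tabs.word 11 1 39504 :=
  traceFix_extendF _ _ letSel perm_eq 11 1 37035 2469 39504 rfl perm_g6_upto14 perm_piece_6_15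
theorem perm_g6_upto16 : TraceFix ptabs.perm tabs.word 11 1 41973 :=
  traceFix_extendF _ _ letSel perm_eq 11 1 39504 2469 41973 rfl perm_g6_upto15 perm_piece_6_16
theorem perm_g6_upto17 : TraceFix ptabs.perm tabs.word 11 1 44442 :=
  traceFix_extendF _ _ letSel perm_eq 11 1 41973 2469 44442 rfl perm_g6_upto16 perm_piece_6_17
theorem perm_g6_upto18 : TraceFix ptabs.perm tabs.word 11 1 46911 :=
  traceFix_extendF _ _ letSel perm_eq 11 1 44442 2469 46911 rfl perm_g6_upto17 perm_piece_6_18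
theorem perm_g6_upto19 : TraceFix ptabs.perm tabs.word 11 1 49380 :=
  traceFix_extendF _ _ letSel perm_eq 11 1 46911 2469 49380 rfl perm_g6_upto18 perm_piece_6_19
theorem perm_g6_upto20 : TraceFix ptabs.perm tabs.word 11 1 51849 :=
  traceFix_extendF _ _ letSel perm_eq 11 1 49380 2469 51849 rfl perm_g6_upto19 perm_piece_6_20
theorem perm_g6_upto21 : TraceFix ptabs.perm tabs.word 11 1 54318 :=
  traceFix_extendF _ _ letSel perm_eq 11 1 51849 2469 54318 rfl perm_g6_upto20 perm_piece_6_21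
theorem perm_g6_upto22 : TraceFix ptabs.perm tabs.word 11 1 56787 :=
  traceFix_extendF _ _ letSel perm_eq 11 1 54318 2469 56787 rfl perm_g6_upto21 perm_piece_6_22
theorem perm_g6_upto23 : TraceFix ptabs.perm tabs.word 11 1 59256 :=
  traceFix_extendF _ _ letSel perm_eq 11 1 56787 2469 59256 rfl perm_g6_upto22 perm_piece_6_23
theorem perm_g6_upto24 : TraceFix ptabs.perm tabs.word 11 1 61725 :=
  traceFix_extendF _ _ letSel perm_eq 11 1 59256 2469 61725 rfl perm_g6_upto23 perm_piece_6_24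
theorem perm_g6_upto25 : TraceFix ptabs.perm tabs.word 11 1 64194 :=
  traceFix_extendF _ _ letSel perm_eq 11 1 61725 2469 64194 rfl perm_g6_upto24 perm_piece_6_25
theorem perm_g6_upto26 : TraceFix ptabs.perm tabs.word 11 1 66663 :=
  traceFix_extendF _ _ letSel perm_eq 11 1 64194 2469 66663 rfl perm_g6_upto25 perm_piece_6_26
theorem perm_g6_upto27 : TraceFix ptabs.perm tabs.word 11 1 69132 :=
  traceFix_extendF _ _ letSel perm_eq 11 1 66663 2469 69132 rfl perm_g6_upto26 perm_piece_6_27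
theorem perm_g6_upto28 : TraceFix ptabs.perm tabs.word 11 1 71601 :=
  traceFix_extendF _ _ letSel perm_eq 11 1 69132 2469 71601 rfl perm_g6_upto27 perm_piece_6_28
theorem perm_g6_upto29 : TraceFix ptabs.perm tabs.word 11 1 74070 :=
  traceFix_extendF _ _ letSel perm_eq 11 1 71601 2469 74070 rfl perm_g6_upto28 perm_piece_6_29
theorem perm_g6_upto30 : TraceFix ptabs.perm tabs.word 11 1 76539 :=
  traceFix_extendF _ _ letSel perm_eq 11 1 74070 2469 76539 rfl perm_g6_upto29 perm_piece_6_30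
theorem perm_g6_upto31 : TraceFix ptabs.perm tabs.word 11 1 79008 :=
  traceFix_extendF _ _ letSel perm_eq 11 1 76539 2469 79008 rfl perm_g6_upto30 perm_piece_6_31
theorem perm_g6_upto32 : TraceFix ptabs.perm tabs.word 11 1 81477 :=
  traceFix_extendF _ _ letSel perm_eq 11 1 79008 2469 81477 rfl perm_g6_upto31 perm_piece_6_32
theorem perm_g6_upto33 : TraceFix ptabs.perm tabs.word 11 1 83946 :=
  traceFix_extendF _ _ letSel perm_eq 11 1 81477 2469 83946 rfl perm_g6_upto32 perm_piece_6_33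
theorem perm_g6_upto34 : TraceFix ptabs.perm tabs.word 11 1 86415 :=
  traceFix_extendF _ _ letSel perm_eq 11 1 83946 2469 86415 rfl perm_g6_upto33 perm_piece_6_34
theorem perm_g6_upto35 : TraceFix ptabs.perm tabs.word 11 1 88884 :=
  traceFix_extendF _ _ letSel perm_eq 11 1 86415 2469 88884 rfl perm_g6_upto34 perm_piece_6_35
theorem perm_g6_upto36 : TraceFix ptabs.perm tabs.word 11 1 91353 :=
  traceFix_extendF _ _ letSel perm_eq 11 1 88884 2469 91353 rfl perm_g6_upto35 perm_piece_6_36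
theorem perm_g6_upto37 : TraceFix ptabs.perm tabs.word 11 1 93822 :=
  traceFix_extendF _ _ letSel perm_eq 11 1 91353 2469 93822 rfl perm_g6_upto36 perm_piece_6_37
theorem perm_g6_upto38 : TraceFix ptabs.perm tabs.word 11 1 96291 :=
  traceFix_extendF _ _ letSel perm_eq 11 1 93822 2469 96291 rfl perm_g6_upto37 perm_piece_6_38
theorem perm_g6_upto39 : TraceFix ptabs.perm tabs.word 11 1 98760 :=
  traceFix_extendF _ _ letSel perm_eq 11 1 96291 2469 98760 rfl perm_g6_upto38 perm_piece_6_39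
theorem perm_g6_upto40 : TraceFix ptabs.perm tabs.word 11 1 98784 :=
  traceFix_extendF _ _ letSel perm_eq 11 1 98760 24 98784 rfl perm_g6_upto39 perm_piece_6_40
theorem perm_g6 : ∀ r, 11 ≤ r → r < 11 + 1 → relOk ptabs (tabs.word r) 0 ptabs.n = true :=
  relOk_of_traceFix ptabs tabs.word 11 1 perm_g6_upto40
theorem perm_all : ∀ r, 1 ≤ r → r < 12 → relOk ptabs (tabs.word r) 0 ptabs.n = true := by
  intro r h1 h2
  by_cases c0 : r < 6
  · exact perm_g0 r (by omega) (by omega)
  by_cases c1 : r < 7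
  · exact perm_g1 r (by omega) (by omega)
  by_cases c2 : r < 8
  · exact perm_g2 r (by omega) (by omega)
  by_cases c3 : r < 9
  · exact perm_g3 r (by omega) (by omega)
  by_cases c4 : r < 10
  · exact perm_g4 r (by omega) (by omega)
  by_cases c5 : r < 11
  · exact perm_g5 r (by omega) (by omega)
  by_cases c6 : r < 12
  · exact perm_g6 r (by omega) (by omega)
  omega
theorem subfix_all : ∀ r, r < 1 → relOk ptabs (tabs.word r) 0 1 = true := allLt_sound _ _ subfix_ok
end Cfsg.Agent.Helper28.L37A
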