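import Cfsg.Agent.Helper28.L37A.D0
import Cfsg.Agent.Helper28.L37A.D1
import Cfsg.Agent.Helper28.L37A.D2
import Cfsg.Agent.Helper28.L37A.D3
import Cfsg.Agent.Helper28.L37A.D4
import Cfsg.Agent.Helper28.L37A.D5
import Cfsg.Agent.Helper28.L37A.D6
import Cfsg.Agent.Helper28.L37A.D7
import Cfsg.Agent.Helper28.L37A.D8
import Cfsg.Agent.Helper28.L37A.D9
import Cfsg.Agent.Helper28.L37A.D10
import Cfsg.Agent.Helper28.L37A.D11
import Cfsg.Agent.Helper28.L37A.D12
set_option autoImplicit false
set_option maxRecDepth 1000000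
namespace Cfsg.Agent.Helper28.L37A
open Cfsg.Agent.Helper28
noncomputable def nd4 (i : Nat) : Nat := (Bool.rec (motive := fun _ => Nat) (nl0 i) (nl1 i) (Nat.ble 1024 i))
noncomputable def nd5 (i : Nat) : Nat := (Bool.rec (motive := fun _ => Nat) (nl2 i) (nl3 i) (Nat.ble 3072 i))
noncomputable def nd6 (i : Nat) : Nat := (Bool.rec (motive := fun _ => Nat) (nl4 i) (nl5 i) (Nat.ble 5120 i))
noncomputable def nd7 (i : Nat) : Nat := (Bool.rec (motive := fun _ => Nat) (nl6 i) ((Bool.rec (motive := fun _ => Nat) (nl7 i) (nl8 i) (Nat.ble 8192 i))) (Nat.ble 7168 i))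
noncomputable def nd3 (i : Nat) : Nat := (Bool.rec (motive := fun _ => Nat) ((Bool.rec (motive := fun _ => Nat) (nd4 i) (nd5 i) (Nat.ble 2048 i))) ((Bool.rec (motive := fun _ => Nat) (nd6 i) (nd7 i) (Nat.ble 6144 i))) (Nat.ble 4096 i))
noncomputable def nd9 (i : Nat) : Nat := (Bool.rec (motive := fun _ => Nat) (nl9 i) (nl10 i) (Nat.ble 10240 i))
noncomputable def nd10 (i : Nat) : Nat := (Bool.rec (motive := fun _ => Nat) (nl11 i) ((Bool.rec (motive := fun _ => Nat) (nl12 i) (nl13 i) (Nat.ble 13312 i))) (Nat.ble 12288 i))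
noncomputable def nd11 (i : Nat) : Nat := (Bool.rec (motive := fun _ => Nat) (nl14 i) (nl15 i) (Nat.ble 15360 i))
noncomputable def nd12 (i : Nat) : Nat := (Bool.rec (motive := fun _ => Nat) (nl16 i) ((Bool.rec (motive := fun _ => Nat) (nl17 i) (nl18 i) (Nat.ble 18432 i))) (Nat.ble 17408 i))
noncomputable def nd8 (i : Nat) : Nat := (Bool.rec (motive := fun _ => Nat) ((Bool.rec (motive := fun _ => Nat) (nd9 i) (nd10 i) (Nat.ble 11264 i))) ((Bool.rec (motive := fun _ => Nat) (nd11 i) (nd12 i) (Nat.ble 16384 i))) (Nat.ble 14336 i))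
noncomputable def nd14 (i : Nat) : Nat := (Bool.rec (motive := fun _ => Nat) (nl19 i) (nl20 i) (Nat.ble 20480 i))
noncomputable def nd15 (i : Nat) : Nat := (Bool.rec (motive := fun _ => Nat) (nl21 i) ((Bool.rec (motive := fun _ => Nat) (nl22 i) (nl23 i) (Nat.ble 23552 i))) (Nat.ble 22528 i))
noncomputable def nd16 (i : Nat) : Nat := (Bool.rec (motive := fun _ => Nat) (nl24 i) (nl25 i) (Nat.ble 25600 i))
noncomputable def nd17 (i : Nat) : Nat := (Bool.rec (motive := fun _ => Nat) (nl26 i) ((Bool.rec (motive := fun _ => Nat) (nl27 i) (nl28 i) (Nat.ble 28672 i))) (Nat.ble 27648 i))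
noncomputable def nd13 (i : Nat) : Nat := (Bool.rec (motive := fun _ => Nat) ((Bool.rec (motive := fun _ => Nat) (nd14 i) (nd15 i) (Nat.ble 21504 i))) ((Bool.rec (motive := fun _ => Nat) (nd16 i) (nd17 i) (Nat.ble 26624 i))) (Nat.ble 24576 i))
noncomputable def nd19 (i : Nat) : Nat := (Bool.rec (motive := fun _ => Nat) (nl29 i) (nl30 i) (Nat.ble 30720 i))
noncomputable def nd20 (i : Nat) : Nat := (Bool.rec (motive := fun _ => Nat) (nl31 i) ((Bool.rec (motive := fun _ => Nat) (nl32 i) (nl33 i) (Nat.ble 33792 i))) (Nat.ble 32768 i))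
noncomputable def nd21 (i : Nat) : Nat := (Bool.rec (motive := fun _ => Nat) (nl34 i) (nl35 i) (Nat.ble 35840 i))
noncomputable def nd22 (i : Nat) : Nat := (Bool.rec (motive := fun _ => Nat) (nl36 i) ((Bool.rec (motive := fun _ => Nat) (nl37 i) (nl38 i) (Nat.ble 38912 i))) (Nat.ble 37888 i))
noncomputable def nd18 (i : Nat) : Nat := (Bool.rec (motive := fun _ => Nat) ((Bool.rec (motive := fun _ => Nat) (nd19 i) (nd20 i) (Nat.ble 31744 i))) ((Bool.rec (motive := fun _ => Nat) (nd21 i) (nd22 i) (Nat.ble 36864 i))) (Nat.ble 34816 i))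
noncomputable def nd2 (i : Nat) : Nat := (Bool.rec (motive := fun _ => Nat) ((Bool.rec (motive := fun _ => Nat) (nd3 i) (nd8 i) (Nat.ble 9216 i))) ((Bool.rec (motive := fun _ => Nat) (nd13 i) (nd18 i) (Nat.ble 29696 i))) (Nat.ble 19456 i))
noncomputable def nd25 (i : Nat) : Nat := (Bool.rec (motive := fun _ => Nat) (nl39 i) (nl40 i) (Nat.ble 40960 i))
noncomputable def nd26 (i : Nat) : Nat := (Bool.rec (motive := fun _ => Nat) (nl41 i) ((Bool.rec (motive := fun _ => Nat) (nl42 i) (nl43 i) (Nat.ble 44032 i))) (Nat.ble 43008 i))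
noncomputable def nd27 (i : Nat) : Nat := (Bool.rec (motive := fun _ => Nat) (nl44 i) (nl45 i) (Nat.ble 46080 i))
noncomputable def nd28 (i : Nat) : Nat := (Bool.rec (motive := fun _ => Nat) (nl46 i) ((Bool.rec (motive := fun _ => Nat) (nl47 i) (nl48 i) (Nat.ble 49152 i))) (Nat.ble 48128 i))
noncomputable def nd24 (i : Nat) : Nat := (Bool.rec (motive := fun _ => Nat) ((Bool.rec (motive := fun _ => Nat) (nd25 i) (nd26 i) (Nat.ble 41984 i))) ((Bool.rec (motive := fun _ => Nat) (nd27 i) (nd28 i) (Nat.ble 47104 i))) (Nat.ble 45056 i))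
noncomputable def nd30 (i : Nat) : Nat := (Bool.rec (motive := fun _ => Nat) (nl49 i) (nl50 i) (Nat.ble 51200 i))
noncomputable def nd31 (i : Nat) : Nat := (Bool.rec (motive := fun _ => Nat) (nl51 i) ((Bool.rec (motive := fun _ => Nat) (nl52 i) (nl53 i) (Nat.ble 54272 i))) (Nat.ble 53248 i))
noncomputable def nd32 (i : Nat) : Nat := (Bool.rec (motive := fun _ => Nat) (nl54 i) (nl55 i) (Nat.ble 56320 i))
noncomputable def nd33 (i : Nat) : Nat := (Bool.rec (motive := fun _ => Nat) (nl56 i) ((Bool.rec (motive := fun _ => Nat) (nl57 i) (nl58 i) (Nat.ble 59392 i))) (Nat.ble 58368 i))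
noncomputable def nd29 (i : Nat) : Nat := (Bool.rec (motive := fun _ => Nat) ((Bool.rec (motive := fun _ => Nat) (nd30 i) (nd31 i) (Nat.ble 52224 i))) ((Bool.rec (motive := fun _ => Nat) (nd32 i) (nd33 i) (Nat.ble 57344 i))) (Nat.ble 55296 i))
noncomputable def nd35 (i : Nat) : Nat := (Bool.rec (motive := fun _ => Nat) (nl59 i) (nl60 i) (Nat.ble 61440 i))
noncomputable def nd36 (i : Nat) : Nat := (Bool.rec (motive := fun _ => Nat) (nl61 i) ((Bool.rec (motive := fun _ => Nat) (nl62 i) (nl63 i) (Nat.ble 64512 i))) (Nat.ble 63488 i))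
noncomputable def nd37 (i : Nat) : Nat := (Bool.rec (motive := fun _ => Nat) (nl64 i) (nl65 i) (Nat.ble 66560 i))
noncomputable def nd38 (i : Nat) : Nat := (Bool.rec (motive := fun _ => Nat) (nl66 i) ((Bool.rec (motive := fun _ => Nat) (nl67 i) (nl68 i) (Nat.ble 69632 i))) (Nat.ble 68608 i))
noncomputable def nd34 (i : Nat) : Nat := (Bool.rec (motive := fun _ => Nat) ((Bool.rec (motive := fun _ => Nat) (nd35 i) (nd36 i) (Nat.ble 62464 i))) ((Bool.rec (motive := fun _ => Nat) (nd37 i) (nd38 i) (Nat.ble 67584 i))) (Nat.ble 65536 i))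
noncomputable def nd40 (i : Nat) : Nat := (Bool.rec (motive := fun _ => Nat) (nl69 i) (nl70 i) (Nat.ble 71680 i))
noncomputable def nd41 (i : Nat) : Nat := (Bool.rec (motive := fun _ => Nat) (nl71 i) ((Bool.rec (motive := fun _ => Nat) (nl72 i) (nl73 i) (Nat.ble 74752 i))) (Nat.ble 73728 i))
noncomputable def nd42 (i : Nat) : Nat := (Bool.rec (motive := fun _ => Nat) (nl74 i) (nl75 i) (Nat.ble 76800 i))
noncomputable def nd43 (i : Nat) : Nat := (Bool.rec (motive := fun _ => Nat) (nl76 i) ((Bool.rec (motive := fun _ => Nat) (nl77 i) (nl78 i) (Nat.ble 79872 i))) (Nat.ble 78848 i))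
noncomputable def nd39 (i : Nat) : Nat := (Bool.rec (motive := fun _ => Nat) ((Bool.rec (motive := fun _ => Nat) (nd40 i) (nd41 i) (Nat.ble 72704 i))) ((Bool.rec (motive := fun _ => Nat) (nd42 i) (nd43 i) (Nat.ble 77824 i))) (Nat.ble 75776 i))
noncomputable def nd23 (i : Nat) : Nat := (Bool.rec (motive := fun _ => Nat) ((Bool.rec (motive := fun _ => Nat) (nd24 i) (nd29 i) (Nat.ble 50176 i))) ((Bool.rec (motive := fun _ => Nat) (nd34 i) (nd39 i) (Nat.ble 70656 i))) (Nat.ble 60416 i))
noncomputable def nd46 (i : Nat) : Nat := (Bool.rec (motive := fun _ => Nat) (nl79 i) (nl80 i) (Nat.ble 81920 i))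
noncomputable def nd47 (i : Nat) : Nat := (Bool.rec (motive := fun _ => Nat) (nl81 i) (nl82 i) (Nat.ble 83968 i))
noncomputable def nd48 (i : Nat) : Nat := (Bool.rec (motive := fun _ => Nat) (nl83 i) (nl84 i) (Nat.ble 86016 i))
noncomputable def nd49 (i : Nat) : Nat := (Bool.rec (motive := fun _ => Nat) (nl85 i) ((Bool.rec (motive := fun _ => Nat) (nl86 i) (nl87 i) (Nat.ble 89088 i))) (Nat.ble 88064 i))
noncomputable def nd45 (i : Nat) : Nat := (Bool.rec (motive := fun _ => Nat) ((Bool.rec (motive := fun _ => Nat) (nd46 i) (nd47 i) (Nat.ble 82944 i))) ((Bool.rec (motive := fun _ => Nat) (nd48 i) (nd49 i) (Nat.ble 87040 i))) (Nat.ble 84992 i))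
noncomputable def nd51 (i : Nat) : Nat := (Bool.rec (motive := fun _ => Nat) (nl88 i) (nl89 i) (Nat.ble 91136 i))
noncomputable def nd52 (i : Nat) : Nat := (Bool.rec (motive := fun _ => Nat) (nl90 i) ((Bool.rec (motive := fun _ => Nat) (nl91 i) (nl92 i) (Nat.ble 94208 i))) (Nat.ble 93184 i))
noncomputable def nd53 (i : Nat) : Nat := (Bool.rec (motive := fun _ => Nat) (nl93 i) (nl94 i) (Nat.ble 96256 i))
noncomputable def nd54 (i : Nat) : Nat := (Bool.rec (motive := fun _ => Nat) (nl95 i) ((Bool.rec (motive := fun _ => Nat) (nl96 i) (nl97 i) (Nat.ble 99328 i))) (Nat.ble 98304 i))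
noncomputable def nd50 (i : Nat) : Nat := (Bool.rec (motive := fun _ => Nat) ((Bool.rec (motive := fun _ => Nat) (nd51 i) (nd52 i) (Nat.ble 92160 i))) ((Bool.rec (motive := fun _ => Nat) (nd53 i) (nd54 i) (Nat.ble 97280 i))) (Nat.ble 95232 i))
noncomputable def nd56 (i : Nat) : Nat := (Bool.rec (motive := fun _ => Nat) (nl98 i) (nl99 i) (Nat.ble 101376 i))
noncomputable def nd57 (i : Nat) : Nat := (Bool.rec (motive := fun _ => Nat) (nl100 i) ((Bool.rec (motive := fun _ => Nat) (nl101 i) (nl102 i) (Nat.ble 104448 i))) (Nat.ble 103424 i))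
noncomputable def nd58 (i : Nat) : Nat := (Bool.rec (motive := fun _ => Nat) (nl103 i) (nl104 i) (Nat.ble 106496 i))
noncomputable def nd59 (i : Nat) : Nat := (Bool.rec (motive := fun _ => Nat) (nl105 i) ((Bool.rec (motive := fun _ => Nat) (nl106 i) (nl107 i) (Nat.ble 109568 i))) (Nat.ble 108544 i))
noncomputable def nd55 (i : Nat) : Nat := (Bool.rec (motive := fun _ => Nat) ((Bool.rec (motive := fun _ => Nat) (nd56 i) (nd57 i) (Nat.ble 102400 i))) ((Bool.rec (motive := fun _ => Nat) (nd58 i) (nd59 i) (Nat.ble 107520 i))) (Nat.ble 105472 i))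
noncomputable def nd61 (i : Nat) : Nat := (Bool.rec (motive := fun _ => Nat) (nl108 i) (nl109 i) (Nat.ble 111616 i))
noncomputable def nd62 (i : Nat) : Nat := (Bool.rec (motive := fun _ => Nat) (nl110 i) ((Bool.rec (motive := fun _ => Nat) (nl111 i) (nl112 i) (Nat.ble 114688 i))) (Nat.ble 113664 i))
noncomputable def nd63 (i : Nat) : Nat := (Bool.rec (motive := fun _ => Nat) (nl113 i) (nl114 i) (Nat.ble 116736 i))
noncomputable def nd64 (i : Nat) : Nat := (Bool.rec (motive := fun _ => Nat) (nl115 i) ((Bool.rec (motive := fun _ => Nat) (nl116 i) (nl117 i) (Nat.ble 119808 i))) (Nat.ble 118784 i))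
noncomputable def nd60 (i : Nat) : Nat := (Bool.rec (motive := fun _ => Nat) ((Bool.rec (motive := fun _ => Nat) (nd61 i) (nd62 i) (Nat.ble 112640 i))) ((Bool.rec (motive := fun _ => Nat) (nd63 i) (nd64 i) (Nat.ble 117760 i))) (Nat.ble 115712 i))
noncomputable def nd44 (i : Nat) : Nat := (Bool.rec (motive := fun _ => Nat) ((Bool.rec (motive := fun _ => Nat) (nd45 i) (nd50 i) (Nat.ble 90112 i))) ((Bool.rec (motive := fun _ => Nat) (nd55 i) (nd60 i) (Nat.ble 110592 i))) (Nat.ble 100352 i))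
noncomputable def nd67 (i : Nat) : Nat := (Bool.rec (motive := fun _ => Nat) (nl118 i) (nl119 i) (Nat.ble 121856 i))
noncomputable def nd68 (i : Nat) : Nat := (Bool.rec (motive := fun _ => Nat) (nl120 i) ((Bool.rec (motive := fun _ => Nat) (nl121 i) (nl122 i) (Nat.ble 124928 i))) (Nat.ble 123904 i))
noncomputable def nd69 (i : Nat) : Nat := (Bool.rec (motive := fun _ => Nat) (nl123 i) (nl124 i) (Nat.ble 126976 i))
noncomputable def nd70 (i : Nat) : Nat := (Bool.rec (motive := fun _ => Nat) (nl125 i) ((Bool.rec (motive := fun _ => Nat) (nl126 i) (nl127 i) (Nat.ble 130048 i))) (Nat.ble 129024 i))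
noncomputable def nd66 (i : Nat) : Nat := (Bool.rec (motive := fun _ => Nat) ((Bool.rec (motive := fun _ => Nat) (nd67 i) (nd68 i) (Nat.ble 122880 i))) ((Bool.rec (motive := fun _ => Nat) (nd69 i) (nd70 i) (Nat.ble 128000 i))) (Nat.ble 125952 i))
noncomputable def nd72 (i : Nat) : Nat := (Bool.rec (motive := fun _ => Nat) (nl128 i) (nl129 i) (Nat.ble 132096 i))
noncomputable def nd73 (i : Nat) : Nat := (Bool.rec (motive := fun _ => Nat) (nl130 i) ((Bool.rec (motive := fun _ => Nat) (nl131 i) (nl132 i) (Nat.ble 135168 i))) (Nat.ble 134144 i))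
noncomputable def nd74 (i : Nat) : Nat := (Bool.rec (motive := fun _ => Nat) (nl133 i) (nl134 i) (Nat.ble 137216 i))
noncomputable def nd75 (i : Nat) : Nat := (Bool.rec (motive := fun _ => Nat) (nl135 i) ((Bool.rec (motive := fun _ => Nat) (nl136 i) (nl137 i) (Nat.ble 140288 i))) (Nat.ble 139264 i))
noncomputable def nd71 (i : Nat) : Nat := (Bool.rec (motive := fun _ => Nat) ((Bool.rec (motive := fun _ => Nat) (nd72 i) (nd73 i) (Nat.ble 133120 i))) ((Bool.rec (motive := fun _ => Nat) (nd74 i) (nd75 i) (Nat.ble 138240 i))) (Nat.ble 136192 i))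
noncomputable def nd77 (i : Nat) : Nat := (Bool.rec (motive := fun _ => Nat) (nl138 i) (nl139 i) (Nat.ble 142336 i))
noncomputable def nd78 (i : Nat) : Nat := (Bool.rec (motive := fun _ => Nat) (nl140 i) ((Bool.rec (motive := fun _ => Nat) (nl141 i) (nl142 i) (Nat.ble 145408 i))) (Nat.ble 144384 i))
noncomputable def nd79 (i : Nat) : Nat := (Bool.rec (motive := fun _ => Nat) (nl143 i) (nl144 i) (Nat.ble 147456 i))
noncomputable def nd80 (i : Nat) : Nat := (Bool.rec (motive := fun _ => Nat) (nl145 i) ((Bool.rec (motive := fun _ => Nat) (nl146 i) (nl147 i) (Nat.ble 150528 i))) (Nat.ble 149504 i))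
noncomputable def nd76 (i : Nat) : Nat := (Bool.rec (motive := fun _ => Nat) ((Bool.rec (motive := fun _ => Nat) (nd77 i) (nd78 i) (Nat.ble 143360 i))) ((Bool.rec (motive := fun _ => Nat) (nd79 i) (nd80 i) (Nat.ble 148480 i))) (Nat.ble 146432 i))
noncomputable def nd82 (i : Nat) : Nat := (Bool.rec (motive := fun _ => Nat) (nl148 i) (nl149 i) (Nat.ble 152576 i))
noncomputable def nd83 (i : Nat) : Nat := (Bool.rec (motive := fun _ => Nat) (nl150 i) ((Bool.rec (motive := fun _ => Nat) (nl151 i) (nl152 i) (Nat.ble 155648 i))) (Nat.ble 154624 i))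
noncomputable def nd84 (i : Nat) : Nat := (Bool.rec (motive := fun _ => Nat) (nl153 i) (nl154 i) (Nat.ble 157696 i))
noncomputable def nd85 (i : Nat) : Nat := (Bool.rec (motive := fun _ => Nat) (nl155 i) ((Bool.rec (motive := fun _ => Nat) (nl156 i) (nl157 i) (Nat.ble 160768 i))) (Nat.ble 159744 i))
noncomputable def nd81 (i : Nat) : Nat := (Bool.rec (motive := fun _ => Nat) ((Bool.rec (motive := fun _ => Nat) (nd82 i) (nd83 i) (Nat.ble 153600 i))) ((Bool.rec (motive := fun _ => Nat) (nd84 i) (nd85 i) (Nat.ble 158720 i))) (Nat.ble 156672 i))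
noncomputable def nd65 (i : Nat) : Nat := (Bool.rec (motive := fun _ => Nat) ((Bool.rec (motive := fun _ => Nat) (nd66 i) (nd71 i) (Nat.ble 131072 i))) ((Bool.rec (motive := fun _ => Nat) (nd76 i) (nd81 i) (Nat.ble 151552 i))) (Nat.ble 141312 i))
noncomputable def nd1 (i : Nat) : Nat := (Bool.rec (motive := fun _ => Nat) ((Bool.rec (motive := fun _ => Nat) (nd2 i) (nd23 i) (Nat.ble 39936 i))) ((Bool.rec (motive := fun _ => Nat) (nd44 i) (nd65 i) (Nat.ble 120832 i))) (Nat.ble 80896 i))
noncomputable def nd89 (i : Nat) : Nat := (Bool.rec (motive := fun _ => Nat) (nl158 i) (nl159 i) (Nat.ble 162816 i))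
noncomputable def nd90 (i : Nat) : Nat := (Bool.rec (motive := fun _ => Nat) (nl160 i) (nl161 i) (Nat.ble 164864 i))
noncomputable def nd91 (i : Nat) : Nat := (Bool.rec (motive := fun _ => Nat) (nl162 i) (nl163 i) (Nat.ble 166912 i))
noncomputable def nd92 (i : Nat) : Nat := (Bool.rec (motive := fun _ => Nat) (nl164 i) ((Bool.rec (motive := fun _ => Nat) (nl165 i) (nl166 i) (Nat.ble 169984 i))) (Nat.ble 168960 i))
noncomputable def nd88 (i : Nat) : Nat := (Bool.rec (motive := fun _ => Nat) ((Bool.rec (motive := fun _ => Nat) (nd89 i) (nd90 i) (Nat.ble 163840 i))) ((Bool.rec (motive := fun _ => Nat) (nd91 i) (nd92 i) (Nat.ble 167936 i))) (Nat.ble 165888 i))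
noncomputable def nd94 (i : Nat) : Nat := (Bool.rec (motive := fun _ => Nat) (nl167 i) (nl168 i) (Nat.ble 172032 i))
noncomputable def nd95 (i : Nat) : Nat := (Bool.rec (motive := fun _ => Nat) (nl169 i) ((Bool.rec (motive := fun _ => Nat) (nl170 i) (nl171 i) (Nat.ble 175104 i))) (Nat.ble 174080 i))
noncomputable def nd96 (i : Nat) : Nat := (Bool.rec (motive := fun _ => Nat) (nl172 i) (nl173 i) (Nat.ble 177152 i))
noncomputable def nd97 (i : Nat) : Nat := (Bool.rec (motive := fun _ => Nat) (nl174 i) ((Bool.rec (motive := fun _ => Nat) (nl175 i) (nl176 i) (Nat.ble 180224 i))) (Nat.ble 179200 i))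
noncomputable def nd93 (i : Nat) : Nat := (Bool.rec (motive := fun _ => Nat) ((Bool.rec (motive := fun _ => Nat) (nd94 i) (nd95 i) (Nat.ble 173056 i))) ((Bool.rec (motive := fun _ => Nat) (nd96 i) (nd97 i) (Nat.ble 178176 i))) (Nat.ble 176128 i))
noncomputable def nd99 (i : Nat) : Nat := (Bool.rec (motive := fun _ => Nat) (nl177 i) (nl178 i) (Nat.ble 182272 i))
noncomputable def nd100 (i : Nat) : Nat := (Bool.rec (motive := fun _ => Nat) (nl179 i) ((Bool.rec (motive := fun _ => Nat) (nl180 i) (nl181 i) (Nat.ble 185344 i))) (Nat.ble 184320 i))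
noncomputable def nd101 (i : Nat) : Nat := (Bool.rec (motive := fun _ => Nat) (nl182 i) (nl183 i) (Nat.ble 187392 i))
noncomputable def nd102 (i : Nat) : Nat := (Bool.rec (motive := fun _ => Nat) (nl184 i) ((Bool.rec (motive := fun _ => Nat) (nl185 i) (nl186 i) (Nat.ble 190464 i))) (Nat.ble 189440 i))
noncomputable def nd98 (i : Nat) : Nat := (Bool.rec (motive := fun _ => Nat) ((Bool.rec (motive := fun _ => Nat) (nd99 i) (nd100 i) (Nat.ble 183296 i))) ((Bool.rec (motive := fun _ => Nat) (nd101 i) (nd102 i) (Nat.ble 188416 i))) (Nat.ble 186368 i))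
noncomputable def nd104 (i : Nat) : Nat := (Bool.rec (motive := fun _ => Nat) (nl187 i) (nl188 i) (Nat.ble 192512 i))
noncomputable def nd105 (i : Nat) : Nat := (Bool.rec (motive := fun _ => Nat) (nl189 i) ((Bool.rec (motive := fun _ => Nat) (nl190 i) (nl191 i) (Nat.ble 195584 i))) (Nat.ble 194560 i))
noncomputable def nd106 (i : Nat) : Nat := (Bool.rec (motive := fun _ => Nat) (nl192 i) (nl193 i) (Nat.ble 197632 i))
noncomputable def nd107 (i : Nat) : Nat := (Bool.rec (motive := fun _ => Nat) (nl194 i) ((Bool.rec (motive := fun _ => Nat) (nl195 i) (nl196 i) (Nat.ble 200704 i))) (Nat.ble 199680 i))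
noncomputable def nd103 (i : Nat) : Nat := (Bool.rec (motive := fun _ => Nat) ((Bool.rec (motive := fun _ => Nat) (nd104 i) (nd105 i) (Nat.ble 193536 i))) ((Bool.rec (motive := fun _ => Nat) (nd106 i) (nd107 i) (Nat.ble 198656 i))) (Nat.ble 196608 i))
noncomputable def nd87 (i : Nat) : Nat := (Bool.rec (motive := fun _ => Nat) ((Bool.rec (motive := fun _ => Nat) (nd88 i) (nd93 i) (Nat.ble 171008 i))) ((Bool.rec (motive := fun _ => Nat) (nd98 i) (nd103 i) (Nat.ble 191488 i))) (Nat.ble 181248 i))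
noncomputable def nd110 (i : Nat) : Nat := (Bool.rec (motive := fun _ => Nat) (nl197 i) (nl198 i) (Nat.ble 202752 i))
noncomputable def nd111 (i : Nat) : Nat := (Bool.rec (motive := fun _ => Nat) (nl199 i) ((Bool.rec (motive := fun _ => Nat) (nl200 i) (nl201 i) (Nat.ble 205824 i))) (Nat.ble 204800 i))
noncomputable def nd112 (i : Nat) : Nat := (Bool.rec (motive := fun _ => Nat) (nl202 i) (nl203 i) (Nat.ble 207872 i))
noncomputable def nd113 (i : Nat) : Nat := (Bool.rec (motive := fun _ => Nat) (nl204 i) ((Bool.rec (motive := fun _ => Nat) (nl205 i) (nl206 i) (Nat.ble 210944 i))) (Nat.ble 209920 i))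
noncomputable def nd109 (i : Nat) : Nat := (Bool.rec (motive := fun _ => Nat) ((Bool.rec (motive := fun _ => Nat) (nd110 i) (nd111 i) (Nat.ble 203776 i))) ((Bool.rec (motive := fun _ => Nat) (nd112 i) (nd113 i) (Nat.ble 208896 i))) (Nat.ble 206848 i))
noncomputable def nd115 (i : Nat) : Nat := (Bool.rec (motive := fun _ => Nat) (nl207 i) (nl208 i) (Nat.ble 212992 i))
noncomputable def nd116 (i : Nat) : Nat := (Bool.rec (motive := fun _ => Nat) (nl209 i) ((Bool.rec (motive := fun _ => Nat) (nl210 i) (nl211 i) (Nat.ble 216064 i))) (Nat.ble 215040 i))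
noncomputable def nd117 (i : Nat) : Nat := (Bool.rec (motive := fun _ => Nat) (nl212 i) (nl213 i) (Nat.ble 218112 i))
noncomputable def nd118 (i : Nat) : Nat := (Bool.rec (motive := fun _ => Nat) (nl214 i) ((Bool.rec (motive := fun _ => Nat) (nl215 i) (nl216 i) (Nat.ble 221184 i))) (Nat.ble 220160 i))
noncomputable def nd114 (i : Nat) : Nat := (Bool.rec (motive := fun _ => Nat) ((Bool.rec (motive := fun _ => Nat) (nd115 i) (nd116 i) (Nat.ble 214016 i))) ((Bool.rec (motive := fun _ => Nat) (nd117 i) (nd118 i) (Nat.ble 219136 i))) (Nat.ble 217088 i))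
noncomputable def nd120 (i : Nat) : Nat := (Bool.rec (motive := fun _ => Nat) (nl217 i) (nl218 i) (Nat.ble 223232 i))
noncomputable def nd121 (i : Nat) : Nat := (Bool.rec (motive := fun _ => Nat) (nl219 i) ((Bool.rec (motive := fun _ => Nat) (nl220 i) (nl221 i) (Nat.ble 226304 i))) (Nat.ble 225280 i))
noncomputable def nd122 (i : Nat) : Nat := (Bool.rec (motive := fun _ => Nat) (nl222 i) (nl223 i) (Nat.ble 228352 i))
noncomputable def nd123 (i : Nat) : Nat := (Bool.rec (motive := fun _ => Nat) (nl224 i) ((Bool.rec (motive := fun _ => Nat) (nl225 i) (nl226 i) (Nat.ble 231424 i))) (Nat.ble 230400 i))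
noncomputable def nd119 (i : Nat) : Nat := (Bool.rec (motive := fun _ => Nat) ((Bool.rec (motive := fun _ => Nat) (nd120 i) (nd121 i) (Nat.ble 224256 i))) ((Bool.rec (motive := fun _ => Nat) (nd122 i) (nd123 i) (Nat.ble 229376 i))) (Nat.ble 227328 i))
noncomputable def nd125 (i : Nat) : Nat := (Bool.rec (motive := fun _ => Nat) (nl227 i) (nl228 i) (Nat.ble 233472 i))
noncomputable def nd126 (i : Nat) : Nat := (Bool.rec (motive := fun _ => Nat) (nl229 i) ((Bool.rec (motive := fun _ => Nat) (nl230 i) (nl231 i) (Nat.ble 236544 i))) (Nat.ble 235520 i))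
noncomputable def nd127 (i : Nat) : Nat := (Bool.rec (motive := fun _ => Nat) (nl232 i) (nl233 i) (Nat.ble 238592 i))
noncomputable def nd128 (i : Nat) : Nat := (Bool.rec (motive := fun _ => Nat) (nl234 i) ((Bool.rec (motive := fun _ => Nat) (nl235 i) (nl236 i) (Nat.ble 241664 i))) (Nat.ble 240640 i))
noncomputable def nd124 (i : Nat) : Nat := (Bool.rec (motive := fun _ => Nat) ((Bool.rec (motive := fun _ => Nat) (nd125 i) (nd126 i) (Nat.ble 234496 i))) ((Bool.rec (motive := fun _ => Nat) (nd127 i) (nd128 i) (Nat.ble 239616 i))) (Nat.ble 237568 i))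
noncomputable def nd108 (i : Nat) : Nat := (Bool.rec (motive := fun _ => Nat) ((Bool.rec (motive := fun _ => Nat) (nd109 i) (nd114 i) (Nat.ble 211968 i))) ((Bool.rec (motive := fun _ => Nat) (nd119 i) (nd124 i) (Nat.ble 232448 i))) (Nat.ble 222208 i))
noncomputable def nd131 (i : Nat) : Nat := (Bool.rec (motive := fun _ => Nat) (nl237 i) (nl238 i) (Nat.ble 243712 i))
noncomputable def nd132 (i : Nat) : Nat := (Bool.rec (motive := fun _ => Nat) (nl239 i) (nl240 i) (Nat.ble 245760 i))
noncomputable def nd133 (i : Nat) : Nat := (Bool.rec (motive := fun _ => Nat) (nl241 i) (nl242 i) (Nat.ble 247808 i))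
noncomputable def nd134 (i : Nat) : Nat := (Bool.rec (motive := fun _ => Nat) (nl243 i) ((Bool.rec (motive := fun _ => Nat) (nl244 i) (nl245 i) (Nat.ble 250880 i))) (Nat.ble 249856 i))
noncomputable def nd130 (i : Nat) : Nat := (Bool.rec (motive := fun _ => Nat) ((Bool.rec (motive := fun _ => Nat) (nd131 i) (nd132 i) (Nat.ble 244736 i))) ((Bool.rec (motive := fun _ => Nat) (nd133 i) (nd134 i) (Nat.ble 248832 i))) (Nat.ble 246784 i))
noncomputable def nd136 (i : Nat) : Nat := (Bool.rec (motive := fun _ => Nat) (nl246 i) (nl247 i) (Nat.ble 252928 i))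
noncomputable def nd137 (i : Nat) : Nat := (Bool.rec (motive := fun _ => Nat) (nl248 i) ((Bool.rec (motive := fun _ => Nat) (nl249 i) (nl250 i) (Nat.ble 256000 i))) (Nat.ble 254976 i))
noncomputable def nd138 (i : Nat) : Nat := (Bool.rec (motive := fun _ => Nat) (nl251 i) (nl252 i) (Nat.ble 258048 i))
noncomputable def nd139 (i : Nat) : Nat := (Bool.rec (motive := fun _ => Nat) (nl253 i) ((Bool.rec (motive := fun _ => Nat) (nl254 i) (nl255 i) (Nat.ble 261120 i))) (Nat.ble 260096 i))
noncomputable def nd135 (i : Nat) : Nat := (Bool.rec (motive := fun _ => Nat) ((Bool.rec (motive := fun _ => Nat) (nd136 i) (nd137 i) (Nat.ble 253952 i))) ((Bool.rec (motive := fun _ => Nat) (nd138 i) (nd139 i) (Nat.ble 259072 i))) (Nat.ble 257024 i))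
noncomputable def nd141 (i : Nat) : Nat := (Bool.rec (motive := fun _ => Nat) (nl256 i) (nl257 i) (Nat.ble 263168 i))
noncomputable def nd142 (i : Nat) : Nat := (Bool.rec (motive := fun _ => Nat) (nl258 i) ((Bool.rec (motive := fun _ => Nat) (nl259 i) (nl260 i) (Nat.ble 266240 i))) (Nat.ble 265216 i))
noncomputable def nd143 (i : Nat) : Nat := (Bool.rec (motive := fun _ => Nat) (nl261 i) (nl262 i) (Nat.ble 268288 i))
noncomputable def nd144 (i : Nat) : Nat := (Bool.rec (motive := fun _ => Nat) (nl263 i) ((Bool.rec (motive := fun _ => Nat) (nl264 i) (nl265 i) (Nat.ble 271360 i))) (Nat.ble 270336 i))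
noncomputable def nd140 (i : Nat) : Nat := (Bool.rec (motive := fun _ => Nat) ((Bool.rec (motive := fun _ => Nat) (nd141 i) (nd142 i) (Nat.ble 264192 i))) ((Bool.rec (motive := fun _ => Nat) (nd143 i) (nd144 i) (Nat.ble 269312 i))) (Nat.ble 267264 i))
noncomputable def nd146 (i : Nat) : Nat := (Bool.rec (motive := fun _ => Nat) (nl266 i) (nl267 i) (Nat.ble 273408 i))
noncomputable def nd147 (i : Nat) : Nat := (Bool.rec (motive := fun _ => Nat) (nl268 i) ((Bool.rec (motive := fun _ => Nat) (nl269 i) (nl270 i) (Nat.ble 276480 i))) (Nat.ble 275456 i))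
noncomputable def nd148 (i : Nat) : Nat := (Bool.rec (motive := fun _ => Nat) (nl271 i) (nl272 i) (Nat.ble 278528 i))
noncomputable def nd149 (i : Nat) : Nat := (Bool.rec (motive := fun _ => Nat) (nl273 i) ((Bool.rec (motive := fun _ => Nat) (nl274 i) (nl275 i) (Nat.ble 281600 i))) (Nat.ble 280576 i))
noncomputable def nd145 (i : Nat) : Nat := (Bool.rec (motive := fun _ => Nat) ((Bool.rec (motive := fun _ => Nat) (nd146 i) (nd147 i) (Nat.ble 274432 i))) ((Bool.rec (motive := fun _ => Nat) (nd148 i) (nd149 i) (Nat.ble 279552 i))) (Nat.ble 277504 i))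
noncomputable def nd129 (i : Nat) : Nat := (Bool.rec (motive := fun _ => Nat) ((Bool.rec (motive := fun _ => Nat) (nd130 i) (nd135 i) (Nat.ble 251904 i))) ((Bool.rec (motive := fun _ => Nat) (nd140 i) (nd145 i) (Nat.ble 272384 i))) (Nat.ble 262144 i))
noncomputable def nd152 (i : Nat) : Nat := (Bool.rec (motive := fun _ => Nat) (nl276 i) (nl277 i) (Nat.ble 283648 i))
noncomputable def nd153 (i : Nat) : Nat := (Bool.rec (motive := fun _ => Nat) (nl278 i) ((Bool.rec (motive := fun _ => Nat) (nl279 i) (nl280 i) (Nat.ble 286720 i))) (Nat.ble 285696 i))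
noncomputable def nd154 (i : Nat) : Nat := (Bool.rec (motive := fun _ => Nat) (nl281 i) (nl282 i) (Nat.ble 288768 i))
noncomputable def nd155 (i : Nat) : Nat := (Bool.rec (motive := fun _ => Nat) (nl283 i) ((Bool.rec (motive := fun _ => Nat) (nl284 i) (nl285 i) (Nat.ble 291840 i))) (Nat.ble 290816 i))
noncomputable def nd151 (i : Nat) : Nat := (Bool.rec (motive := fun _ => Nat) ((Bool.rec (motive := fun _ => Nat) (nd152 i) (nd153 i) (Nat.ble 284672 i))) ((Bool.rec (motive := fun _ => Nat) (nd154 i) (nd155 i) (Nat.ble 289792 i))) (Nat.ble 287744 i))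
noncomputable def nd157 (i : Nat) : Nat := (Bool.rec (motive := fun _ => Nat) (nl286 i) (nl287 i) (Nat.ble 293888 i))
noncomputable def nd158 (i : Nat) : Nat := (Bool.rec (motive := fun _ => Nat) (nl288 i) ((Bool.rec (motive := fun _ => Nat) (nl289 i) (nl290 i) (Nat.ble 296960 i))) (Nat.ble 295936 i))
noncomputable def nd159 (i : Nat) : Nat := (Bool.rec (motive := fun _ => Nat) (nl291 i) (nl292 i) (Nat.ble 299008 i))
noncomputable def nd160 (i : Nat) : Nat := (Bool.rec (motive := fun _ => Nat) (nl293 i) ((Bool.rec (motive := fun _ => Nat) (nl294 i) (nl295 i) (Nat.ble 302080 i))) (Nat.ble 301056 i))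
noncomputable def nd156 (i : Nat) : Nat := (Bool.rec (motive := fun _ => Nat) ((Bool.rec (motive := fun _ => Nat) (nd157 i) (nd158 i) (Nat.ble 294912 i))) ((Bool.rec (motive := fun _ => Nat) (nd159 i) (nd160 i) (Nat.ble 300032 i))) (Nat.ble 297984 i))
noncomputable def nd162 (i : Nat) : Nat := (Bool.rec (motive := fun _ => Nat) (nl296 i) (nl297 i) (Nat.ble 304128 i))
noncomputable def nd163 (i : Nat) : Nat := (Bool.rec (motive := fun _ => Nat) (nl298 i) ((Bool.rec (motive := fun _ => Nat) (nl299 i) (nl300 i) (Nat.ble 307200 i))) (Nat.ble 306176 i))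
noncomputable def nd164 (i : Nat) : Nat := (Bool.rec (motive := fun _ => Nat) (nl301 i) (nl302 i) (Nat.ble 309248 i))
noncomputable def nd165 (i : Nat) : Nat := (Bool.rec (motive := fun _ => Nat) (nl303 i) ((Bool.rec (motive := fun _ => Nat) (nl304 i) (nl305 i) (Nat.ble 312320 i))) (Nat.ble 311296 i))
noncomputable def nd161 (i : Nat) : Nat := (Bool.rec (motive := fun _ => Nat) ((Bool.rec (motive := fun _ => Nat) (nd162 i) (nd163 i) (Nat.ble 305152 i))) ((Bool.rec (motive := fun _ => Nat) (nd164 i) (nd165 i) (Nat.ble 310272 i))) (Nat.ble 308224 i))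
noncomputable def nd167 (i : Nat) : Nat := (Bool.rec (motive := fun _ => Nat) (nl306 i) (nl307 i) (Nat.ble 314368 i))
noncomputable def nd168 (i : Nat) : Nat := (Bool.rec (motive := fun _ => Nat) (nl308 i) ((Bool.rec (motive := fun _ => Nat) (nl309 i) (nl310 i) (Nat.ble 317440 i))) (Nat.ble 316416 i))
noncomputable def nd169 (i : Nat) : Nat := (Bool.rec (motive := fun _ => Nat) (nl311 i) (nl312 i) (Nat.ble 319488 i))
noncomputable def nd170 (i : Nat) : Nat := (Bool.rec (motive := fun _ => Nat) (nl313 i) ((Bool.rec (motive := fun _ => Nat) (nl314 i) (nl315 i) (Nat.ble 322560 i))) (Nat.ble 321536 i))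
noncomputable def nd166 (i : Nat) : Nat := (Bool.rec (motive := fun _ => Nat) ((Bool.rec (motive := fun _ => Nat) (nd167 i) (nd168 i) (Nat.ble 315392 i))) ((Bool.rec (motive := fun _ => Nat) (nd169 i) (nd170 i) (Nat.ble 320512 i))) (Nat.ble 318464 i))
noncomputable def nd150 (i : Nat) : Nat := (Bool.rec (motive := fun _ => Nat) ((Bool.rec (motive := fun _ => Nat) (nd151 i) (nd156 i) (Nat.ble 292864 i))) ((Bool.rec (motive := fun _ => Nat) (nd161 i) (nd166 i) (Nat.ble 313344 i))) (Nat.ble 303104 i))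
noncomputable def nd86 (i : Nat) : Nat := (Bool.rec (motive := fun _ => Nat) ((Bool.rec (motive := fun _ => Nat) (nd87 i) (nd108 i) (Nat.ble 201728 i))) ((Bool.rec (motive := fun _ => Nat) (nd129 i) (nd150 i) (Nat.ble 282624 i))) (Nat.ble 242688 i))
noncomputable def nd174 (i : Nat) : Nat := (Bool.rec (motive := fun _ => Nat) (nl316 i) (nl317 i) (Nat.ble 324608 i))
noncomputable def nd175 (i : Nat) : Nat := (Bool.rec (motive := fun _ => Nat) (nl318 i) (nl319 i) (Nat.ble 326656 i))
noncomputable def nd176 (i : Nat) : Nat := (Bool.rec (motive := fun _ => Nat) (nl320 i) (nl321 i) (Nat.ble 328704 i))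
noncomputable def nd177 (i : Nat) : Nat := (Bool.rec (motive := fun _ => Nat) (nl322 i) ((Bool.rec (motive := fun _ => Nat) (nl323 i) (nl324 i) (Nat.ble 331776 i))) (Nat.ble 330752 i))
noncomputable def nd173 (i : Nat) : Nat := (Bool.rec (motive := fun _ => Nat) ((Bool.rec (motive := fun _ => Nat) (nd174 i) (nd175 i) (Nat.ble 325632 i))) ((Bool.rec (motive := fun _ => Nat) (nd176 i) (nd177 i) (Nat.ble 329728 i))) (Nat.ble 327680 i))
noncomputable def nd179 (i : Nat) : Nat := (Bool.rec (motive := fun _ => Nat) (nl325 i) (nl326 i) (Nat.ble 333824 i))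
noncomputable def nd180 (i : Nat) : Nat := (Bool.rec (motive := fun _ => Nat) (nl327 i) ((Bool.rec (motive := fun _ => Nat) (nl328 i) (nl329 i) (Nat.ble 336896 i))) (Nat.ble 335872 i))
noncomputable def nd181 (i : Nat) : Nat := (Bool.rec (motive := fun _ => Nat) (nl330 i) (nl331 i) (Nat.ble 338944 i))
noncomputable def nd182 (i : Nat) : Nat := (Bool.rec (motive := fun _ => Nat) (nl332 i) ((Bool.rec (motive := fun _ => Nat) (nl333 i) (nl334 i) (Nat.ble 342016 i))) (Nat.ble 340992 i))
noncomputable def nd178 (i : Nat) : Nat := (Bool.rec (motive := fun _ => Nat) ((Bool.rec (motive := fun _ => Nat) (nd179 i) (nd180 i) (Nat.ble 334848 i))) ((Bool.rec (motive := fun _ => Nat) (nd181 i) (nd182 i) (Nat.ble 339968 i))) (Nat.ble 337920 i))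
noncomputable def nd184 (i : Nat) : Nat := (Bool.rec (motive := fun _ => Nat) (nl335 i) (nl336 i) (Nat.ble 344064 i))
noncomputable def nd185 (i : Nat) : Nat := (Bool.rec (motive := fun _ => Nat) (nl337 i) ((Bool.rec (motive := fun _ => Nat) (nl338 i) (nl339 i) (Nat.ble 347136 i))) (Nat.ble 346112 i))
noncomputable def nd186 (i : Nat) : Nat := (Bool.rec (motive := fun _ => Nat) (nl340 i) (nl341 i) (Nat.ble 349184 i))
noncomputable def nd187 (i : Nat) : Nat := (Bool.rec (motive := fun _ => Nat) (nl342 i) ((Bool.rec (motive := fun _ => Nat) (nl343 i) (nl344 i) (Nat.ble 352256 i))) (Nat.ble 351232 i))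
noncomputable def nd183 (i : Nat) : Nat := (Bool.rec (motive := fun _ => Nat) ((Bool.rec (motive := fun _ => Nat) (nd184 i) (nd185 i) (Nat.ble 345088 i))) ((Bool.rec (motive := fun _ => Nat) (nd186 i) (nd187 i) (Nat.ble 350208 i))) (Nat.ble 348160 i))
noncomputable def nd189 (i : Nat) : Nat := (Bool.rec (motive := fun _ => Nat) (nl345 i) (nl346 i) (Nat.ble 354304 i))
noncomputable def nd190 (i : Nat) : Nat := (Bool.rec (motive := fun _ => Nat) (nl347 i) ((Bool.rec (motive := fun _ => Nat) (nl348 i) (nl349 i) (Nat.ble 357376 i))) (Nat.ble 356352 i))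
noncomputable def nd191 (i : Nat) : Nat := (Bool.rec (motive := fun _ => Nat) (nl350 i) (nl351 i) (Nat.ble 359424 i))
noncomputable def nd192 (i : Nat) : Nat := (Bool.rec (motive := fun _ => Nat) (nl352 i) ((Bool.rec (motive := fun _ => Nat) (nl353 i) (nl354 i) (Nat.ble 362496 i))) (Nat.ble 361472 i))
noncomputable def nd188 (i : Nat) : Nat := (Bool.rec (motive := fun _ => Nat) ((Bool.rec (motive := fun _ => Nat) (nd189 i) (nd190 i) (Nat.ble 355328 i))) ((Bool.rec (motive := fun _ => Nat) (nd191 i) (nd192 i) (Nat.ble 360448 i))) (Nat.ble 358400 i))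
noncomputable def nd172 (i : Nat) : Nat := (Bool.rec (motive := fun _ => Nat) ((Bool.rec (motive := fun _ => Nat) (nd173 i) (nd178 i) (Nat.ble 332800 i))) ((Bool.rec (motive := fun _ => Nat) (nd183 i) (nd188 i) (Nat.ble 353280 i))) (Nat.ble 343040 i))
noncomputable def nd195 (i : Nat) : Nat := (Bool.rec (motive := fun _ => Nat) (nl355 i) (nl356 i) (Nat.ble 364544 i))
noncomputable def nd196 (i : Nat) : Nat := (Bool.rec (motive := fun _ => Nat) (nl357 i) ((Bool.rec (motive := fun _ => Nat) (nl358 i) (nl359 i) (Nat.ble 367616 i))) (Nat.ble 366592 i))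
noncomputable def nd197 (i : Nat) : Nat := (Bool.rec (motive := fun _ => Nat) (nl360 i) (nl361 i) (Nat.ble 369664 i))
noncomputable def nd198 (i : Nat) : Nat := (Bool.rec (motive := fun _ => Nat) (nl362 i) ((Bool.rec (motive := fun _ => Nat) (nl363 i) (nl364 i) (Nat.ble 372736 i))) (Nat.ble 371712 i))
noncomputable def nd194 (i : Nat) : Nat := (Bool.rec (motive := fun _ => Nat) ((Bool.rec (motive := fun _ => Nat) (nd195 i) (nd196 i) (Nat.ble 365568 i))) ((Bool.rec (motive := fun _ => Nat) (nd197 i) (nd198 i) (Nat.ble 370688 i))) (Nat.ble 368640 i))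
noncomputable def nd200 (i : Nat) : Nat := (Bool.rec (motive := fun _ => Nat) (nl365 i) (nl366 i) (Nat.ble 374784 i))
noncomputable def nd201 (i : Nat) : Nat := (Bool.rec (motive := fun _ => Nat) (nl367 i) ((Bool.rec (motive := fun _ => Nat) (nl368 i) (nl369 i) (Nat.ble 377856 i))) (Nat.ble 376832 i))
noncomputable def nd202 (i : Nat) : Nat := (Bool.rec (motive := fun _ => Nat) (nl370 i) (nl371 i) (Nat.ble 379904 i))
noncomputable def nd203 (i : Nat) : Nat := (Bool.rec (motive := fun _ => Nat) (nl372 i) ((Bool.rec (motive := fun _ => Nat) (nl373 i) (nl374 i) (Nat.ble 382976 i))) (Nat.ble 381952 i))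
noncomputable def nd199 (i : Nat) : Nat := (Bool.rec (motive := fun _ => Nat) ((Bool.rec (motive := fun _ => Nat) (nd200 i) (nd201 i) (Nat.ble 375808 i))) ((Bool.rec (motive := fun _ => Nat) (nd202 i) (nd203 i) (Nat.ble 380928 i))) (Nat.ble 378880 i))
noncomputable def nd205 (i : Nat) : Nat := (Bool.rec (motive := fun _ => Nat) (nl375 i) (nl376 i) (Nat.ble 385024 i))
noncomputable def nd206 (i : Nat) : Nat := (Bool.rec (motive := fun _ => Nat) (nl377 i) ((Bool.rec (motive := fun _ => Nat) (nl378 i) (nl379 i) (Nat.ble 388096 i))) (Nat.ble 387072 i))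
noncomputable def nd207 (i : Nat) : Nat := (Bool.rec (motive := fun _ => Nat) (nl380 i) (nl381 i) (Nat.ble 390144 i))
noncomputable def nd208 (i : Nat) : Nat := (Bool.rec (motive := fun _ => Nat) (nl382 i) ((Bool.rec (motive := fun _ => Nat) (nl383 i) (nl384 i) (Nat.ble 393216 i))) (Nat.ble 392192 i))
noncomputable def nd204 (i : Nat) : Nat := (Bool.rec (motive := fun _ => Nat) ((Bool.rec (motive := fun _ => Nat) (nd205 i) (nd206 i) (Nat.ble 386048 i))) ((Bool.rec (motive := fun _ => Nat) (nd207 i) (nd208 i) (Nat.ble 391168 i))) (Nat.ble 389120 i))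
noncomputable def nd210 (i : Nat) : Nat := (Bool.rec (motive := fun _ => Nat) (nl385 i) (nl386 i) (Nat.ble 395264 i))
noncomputable def nd211 (i : Nat) : Nat := (Bool.rec (motive := fun _ => Nat) (nl387 i) ((Bool.rec (motive := fun _ => Nat) (nl388 i) (nl389 i) (Nat.ble 398336 i))) (Nat.ble 397312 i))
noncomputable def nd212 (i : Nat) : Nat := (Bool.rec (motive := fun _ => Nat) (nl390 i) (nl391 i) (Nat.ble 400384 i))
noncomputable def nd213 (i : Nat) : Nat := (Bool.rec (motive := fun _ => Nat) (nl392 i) ((Bool.rec (motive := fun _ => Nat) (nl393 i) (nl394 i) (Nat.ble 403456 i))) (Nat.ble 402432 i))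
noncomputable def nd209 (i : Nat) : Nat := (Bool.rec (motive := fun _ => Nat) ((Bool.rec (motive := fun _ => Nat) (nd210 i) (nd211 i) (Nat.ble 396288 i))) ((Bool.rec (motive := fun _ => Nat) (nd212 i) (nd213 i) (Nat.ble 401408 i))) (Nat.ble 399360 i))
noncomputable def nd193 (i : Nat) : Nat := (Bool.rec (motive := fun _ => Nat) ((Bool.rec (motive := fun _ => Nat) (nd194 i) (nd199 i) (Nat.ble 373760 i))) ((Bool.rec (motive := fun _ => Nat) (nd204 i) (nd209 i) (Nat.ble 394240 i))) (Nat.ble 384000 i))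
noncomputable def nd216 (i : Nat) : Nat := (Bool.rec (motive := fun _ => Nat) (nl395 i) (nl396 i) (Nat.ble 405504 i))
noncomputable def nd217 (i : Nat) : Nat := (Bool.rec (motive := fun _ => Nat) (nl397 i) (nl398 i) (Nat.ble 407552 i))
noncomputable def nd218 (i : Nat) : Nat := (Bool.rec (motive := fun _ => Nat) (nl399 i) (nl400 i) (Nat.ble 409600 i))
noncomputable def nd219 (i : Nat) : Nat := (Bool.rec (motive := fun _ => Nat) (nl401 i) ((Bool.rec (motive := fun _ => Nat) (nl402 i) (nl403 i) (Nat.ble 412672 i))) (Nat.ble 411648 i))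
noncomputable def nd215 (i : Nat) : Nat := (Bool.rec (motive := fun _ => Nat) ((Bool.rec (motive := fun _ => Nat) (nd216 i) (nd217 i) (Nat.ble 406528 i))) ((Bool.rec (motive := fun _ => Nat) (nd218 i) (nd219 i) (Nat.ble 410624 i))) (Nat.ble 408576 i))
noncomputable def nd221 (i : Nat) : Nat := (Bool.rec (motive := fun _ => Nat) (nl404 i) (nl405 i) (Nat.ble 414720 i))
noncomputable def nd222 (i : Nat) : Nat := (Bool.rec (motive := fun _ => Nat) (nl406 i) ((Bool.rec (motive := fun _ => Nat) (nl407 i) (nl408 i) (Nat.ble 417792 i))) (Nat.ble 416768 i))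
noncomputable def nd223 (i : Nat) : Nat := (Bool.rec (motive := fun _ => Nat) (nl409 i) (nl410 i) (Nat.ble 419840 i))
noncomputable def nd224 (i : Nat) : Nat := (Bool.rec (motive := fun _ => Nat) (nl411 i) ((Bool.rec (motive := fun _ => Nat) (nl412 i) (nl413 i) (Nat.ble 422912 i))) (Nat.ble 421888 i))
noncomputable def nd220 (i : Nat) : Nat := (Bool.rec (motive := fun _ => Nat) ((Bool.rec (motive := fun _ => Nat) (nd221 i) (nd222 i) (Nat.ble 415744 i))) ((Bool.rec (motive := fun _ => Nat) (nd223 i) (nd224 i) (Nat.ble 420864 i))) (Nat.ble 418816 i))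
noncomputable def nd226 (i : Nat) : Nat := (Bool.rec (motive := fun _ => Nat) (nl414 i) (nl415 i) (Nat.ble 424960 i))
noncomputable def nd227 (i : Nat) : Nat := (Bool.rec (motive := fun _ => Nat) (nl416 i) ((Bool.rec (motive := fun _ => Nat) (nl417 i) (nl418 i) (Nat.ble 428032 i))) (Nat.ble 427008 i))
noncomputable def nd228 (i : Nat) : Nat := (Bool.rec (motive := fun _ => Nat) (nl419 i) (nl420 i) (Nat.ble 430080 i))
noncomputable def nd229 (i : Nat) : Nat := (Bool.rec (motive := fun _ => Nat) (nl421 i) ((Bool.rec (motive := fun _ => Nat) (nl422 i) (nl423 i) (Nat.ble 433152 i))) (Nat.ble 432128 i))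
noncomputable def nd225 (i : Nat) : Nat := (Bool.rec (motive := fun _ => Nat) ((Bool.rec (motive := fun _ => Nat) (nd226 i) (nd227 i) (Nat.ble 425984 i))) ((Bool.rec (motive := fun _ => Nat) (nd228 i) (nd229 i) (Nat.ble 431104 i))) (Nat.ble 429056 i))
noncomputable def nd231 (i : Nat) : Nat := (Bool.rec (motive := fun _ => Nat) (nl424 i) (nl425 i) (Nat.ble 435200 i))
noncomputable def nd232 (i : Nat) : Nat := (Bool.rec (motive := fun _ => Nat) (nl426 i) ((Bool.rec (motive := fun _ => Nat) (nl427 i) (nl428 i) (Nat.ble 438272 i))) (Nat.ble 437248 i))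
noncomputable def nd233 (i : Nat) : Nat := (Bool.rec (motive := fun _ => Nat) (nl429 i) (nl430 i) (Nat.ble 440320 i))
noncomputable def nd234 (i : Nat) : Nat := (Bool.rec (motive := fun _ => Nat) (nl431 i) ((Bool.rec (motive := fun _ => Nat) (nl432 i) (nl433 i) (Nat.ble 443392 i))) (Nat.ble 442368 i))
noncomputable def nd230 (i : Nat) : Nat := (Bool.rec (motive := fun _ => Nat) ((Bool.rec (motive := fun _ => Nat) (nd231 i) (nd232 i) (Nat.ble 436224 i))) ((Bool.rec (motive := fun _ => Nat) (nd233 i) (nd234 i) (Nat.ble 441344 i))) (Nat.ble 439296 i))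
noncomputable def nd214 (i : Nat) : Nat := (Bool.rec (motive := fun _ => Nat) ((Bool.rec (motive := fun _ => Nat) (nd215 i) (nd220 i) (Nat.ble 413696 i))) ((Bool.rec (motive := fun _ => Nat) (nd225 i) (nd230 i) (Nat.ble 434176 i))) (Nat.ble 423936 i))
noncomputable def nd237 (i : Nat) : Nat := (Bool.rec (motive := fun _ => Nat) (nl434 i) (nl435 i) (Nat.ble 445440 i))
noncomputable def nd238 (i : Nat) : Nat := (Bool.rec (motive := fun _ => Nat) (nl436 i) ((Bool.rec (motive := fun _ => Nat) (nl437 i) (nl438 i) (Nat.ble 448512 i))) (Nat.ble 447488 i))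
noncomputable def nd239 (i : Nat) : Nat := (Bool.rec (motive := fun _ => Nat) (nl439 i) (nl440 i) (Nat.ble 450560 i))
noncomputable def nd240 (i : Nat) : Nat := (Bool.rec (motive := fun _ => Nat) (nl441 i) ((Bool.rec (motive := fun _ => Nat) (nl442 i) (nl443 i) (Nat.ble 453632 i))) (Nat.ble 452608 i))
noncomputable def nd236 (i : Nat) : Nat := (Bool.rec (motive := fun _ => Nat) ((Bool.rec (motive := fun _ => Nat) (nd237 i) (nd238 i) (Nat.ble 446464 i))) ((Bool.rec (motive := fun _ => Nat) (nd239 i) (nd240 i) (Nat.ble 451584 i))) (Nat.ble 449536 i))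
noncomputable def nd242 (i : Nat) : Nat := (Bool.rec (motive := fun _ => Nat) (nl444 i) (nl445 i) (Nat.ble 455680 i))
noncomputable def nd243 (i : Nat) : Nat := (Bool.rec (motive := fun _ => Nat) (nl446 i) ((Bool.rec (motive := fun _ => Nat) (nl447 i) (nl448 i) (Nat.ble 458752 i))) (Nat.ble 457728 i))
noncomputable def nd244 (i : Nat) : Nat := (Bool.rec (motive := fun _ => Nat) (nl449 i) (nl450 i) (Nat.ble 460800 i))
noncomputable def nd245 (i : Nat) : Nat := (Bool.rec (motive := fun _ => Nat) (nl451 i) ((Bool.rec (motive := fun _ => Nat) (nl452 i) (nl453 i) (Nat.ble 463872 i))) (Nat.ble 462848 i))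
noncomputable def nd241 (i : Nat) : Nat := (Bool.rec (motive := fun _ => Nat) ((Bool.rec (motive := fun _ => Nat) (nd242 i) (nd243 i) (Nat.ble 456704 i))) ((Bool.rec (motive := fun _ => Nat) (nd244 i) (nd245 i) (Nat.ble 461824 i))) (Nat.ble 459776 i))
noncomputable def nd247 (i : Nat) : Nat := (Bool.rec (motive := fun _ => Nat) (nl454 i) (nl455 i) (Nat.ble 465920 i))
noncomputable def nd248 (i : Nat) : Nat := (Bool.rec (motive := fun _ => Nat) (nl456 i) ((Bool.rec (motive := fun _ => Nat) (nl457 i) (nl458 i) (Nat.ble 468992 i))) (Nat.ble 467968 i))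
noncomputable def nd249 (i : Nat) : Nat := (Bool.rec (motive := fun _ => Nat) (nl459 i) (nl460 i) (Nat.ble 471040 i))
noncomputable def nd250 (i : Nat) : Nat := (Bool.rec (motive := fun _ => Nat) (nl461 i) ((Bool.rec (motive := fun _ => Nat) (nl462 i) (nl463 i) (Nat.ble 474112 i))) (Nat.ble 473088 i))
noncomputable def nd246 (i : Nat) : Nat := (Bool.rec (motive := fun _ => Nat) ((Bool.rec (motive := fun _ => Nat) (nd247 i) (nd248 i) (Nat.ble 466944 i))) ((Bool.rec (motive := fun _ => Nat) (nd249 i) (nd250 i) (Nat.ble 472064 i))) (Nat.ble 470016 i))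
noncomputable def nd252 (i : Nat) : Nat := (Bool.rec (motive := fun _ => Nat) (nl464 i) (nl465 i) (Nat.ble 476160 i))
noncomputable def nd253 (i : Nat) : Nat := (Bool.rec (motive := fun _ => Nat) (nl466 i) ((Bool.rec (motive := fun _ => Nat) (nl467 i) (nl468 i) (Nat.ble 479232 i))) (Nat.ble 478208 i))
noncomputable def nd254 (i : Nat) : Nat := (Bool.rec (motive := fun _ => Nat) (nl469 i) (nl470 i) (Nat.ble 481280 i))
noncomputable def nd255 (i : Nat) : Nat := (Bool.rec (motive := fun _ => Nat) (nl471 i) ((Bool.rec (motive := fun _ => Nat) (nl472 i) (nl473 i) (Nat.ble 484352 i))) (Nat.ble 483328 i))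
noncomputable def nd251 (i : Nat) : Nat := (Bool.rec (motive := fun _ => Nat) ((Bool.rec (motive := fun _ => Nat) (nd252 i) (nd253 i) (Nat.ble 477184 i))) ((Bool.rec (motive := fun _ => Nat) (nd254 i) (nd255 i) (Nat.ble 482304 i))) (Nat.ble 480256 i))
noncomputable def nd235 (i : Nat) : Nat := (Bool.rec (motive := fun _ => Nat) ((Bool.rec (motive := fun _ => Nat) (nd236 i) (nd241 i) (Nat.ble 454656 i))) ((Bool.rec (motive := fun _ => Nat) (nd246 i) (nd251 i) (Nat.ble 475136 i))) (Nat.ble 464896 i))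
noncomputable def nd171 (i : Nat) : Nat := (Bool.rec (motive := fun _ => Nat) ((Bool.rec (motive := fun _ => Nat) (nd172 i) (nd193 i) (Nat.ble 363520 i))) ((Bool.rec (motive := fun _ => Nat) (nd214 i) (nd235 i) (Nat.ble 444416 i))) (Nat.ble 404480 i))
noncomputable def nd259 (i : Nat) : Nat := (Bool.rec (motive := fun _ => Nat) (nl474 i) (nl475 i) (Nat.ble 486400 i))
noncomputable def nd260 (i : Nat) : Nat := (Bool.rec (motive := fun _ => Nat) (nl476 i) (nl477 i) (Nat.ble 488448 i))
noncomputable def nd261 (i : Nat) : Nat := (Bool.rec (motive := fun _ => Nat) (nl478 i) (nl479 i) (Nat.ble 490496 i))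
noncomputable def nd262 (i : Nat) : Nat := (Bool.rec (motive := fun _ => Nat) (nl480 i) ((Bool.rec (motive := fun _ => Nat) (nl481 i) (nl482 i) (Nat.ble 493568 i))) (Nat.ble 492544 i))
noncomputable def nd258 (i : Nat) : Nat := (Bool.rec (motive := fun _ => Nat) ((Bool.rec (motive := fun _ => Nat) (nd259 i) (nd260 i) (Nat.ble 487424 i))) ((Bool.rec (motive := fun _ => Nat) (nd261 i) (nd262 i) (Nat.ble 491520 i))) (Nat.ble 489472 i))
noncomputable def nd264 (i : Nat) : Nat := (Bool.rec (motive := fun _ => Nat) (nl483 i) (nl484 i) (Nat.ble 495616 i))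
noncomputable def nd265 (i : Nat) : Nat := (Bool.rec (motive := fun _ => Nat) (nl485 i) ((Bool.rec (motive := fun _ => Nat) (nl486 i) (nl487 i) (Nat.ble 498688 i))) (Nat.ble 497664 i))
noncomputable def nd266 (i : Nat) : Nat := (Bool.rec (motive := fun _ => Nat) (nl488 i) (nl489 i) (Nat.ble 500736 i))
noncomputable def nd267 (i : Nat) : Nat := (Bool.rec (motive := fun _ => Nat) (nl490 i) ((Bool.rec (motive := fun _ => Nat) (nl491 i) (nl492 i) (Nat.ble 503808 i))) (Nat.ble 502784 i))
noncomputable def nd263 (i : Nat) : Nat := (Bool.rec (motive := fun _ => Nat) ((Bool.rec (motive := fun _ => Nat) (nd264 i) (nd265 i) (Nat.ble 496640 i))) ((Bool.rec (motive := fun _ => Nat) (nd266 i) (nd267 i) (Nat.ble 501760 i))) (Nat.ble 499712 i))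
noncomputable def nd269 (i : Nat) : Nat := (Bool.rec (motive := fun _ => Nat) (nl493 i) (nl494 i) (Nat.ble 505856 i))
noncomputable def nd270 (i : Nat) : Nat := (Bool.rec (motive := fun _ => Nat) (nl495 i) ((Bool.rec (motive := fun _ => Nat) (nl496 i) (nl497 i) (Nat.ble 508928 i))) (Nat.ble 507904 i))
noncomputable def nd271 (i : Nat) : Nat := (Bool.rec (motive := fun _ => Nat) (nl498 i) (nl499 i) (Nat.ble 510976 i))
noncomputable def nd272 (i : Nat) : Nat := (Bool.rec (motive := fun _ => Nat) (nl500 i) ((Bool.rec (motive := fun _ => Nat) (nl501 i) (nl502 i) (Nat.ble 514048 i))) (Nat.ble 513024 i))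
noncomputable def nd268 (i : Nat) : Nat := (Bool.rec (motive := fun _ => Nat) ((Bool.rec (motive := fun _ => Nat) (nd269 i) (nd270 i) (Nat.ble 506880 i))) ((Bool.rec (motive := fun _ => Nat) (nd271 i) (nd272 i) (Nat.ble 512000 i))) (Nat.ble 509952 i))
noncomputable def nd274 (i : Nat) : Nat := (Bool.rec (motive := fun _ => Nat) (nl503 i) (nl504 i) (Nat.ble 516096 i))
noncomputable def nd275 (i : Nat) : Nat := (Bool.rec (motive := fun _ => Nat) (nl505 i) ((Bool.rec (motive := fun _ => Nat) (nl506 i) (nl507 i) (Nat.ble 519168 i))) (Nat.ble 518144 i))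
noncomputable def nd276 (i : Nat) : Nat := (Bool.rec (motive := fun _ => Nat) (nl508 i) (nl509 i) (Nat.ble 521216 i))
noncomputable def nd277 (i : Nat) : Nat := (Bool.rec (motive := fun _ => Nat) (nl510 i) ((Bool.rec (motive := fun _ => Nat) (nl511 i) (nl512 i) (Nat.ble 524288 i))) (Nat.ble 523264 i))
noncomputable def nd273 (i : Nat) : Nat := (Bool.rec (motive := fun _ => Nat) ((Bool.rec (motive := fun _ => Nat) (nd274 i) (nd275 i) (Nat.ble 517120 i))) ((Bool.rec (motive := fun _ => Nat) (nd276 i) (nd277 i) (Nat.ble 522240 i))) (Nat.ble 520192 i))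
noncomputable def nd257 (i : Nat) : Nat := (Bool.rec (motive := fun _ => Nat) ((Bool.rec (motive := fun _ => Nat) (nd258 i) (nd263 i) (Nat.ble 494592 i))) ((Bool.rec (motive := fun _ => Nat) (nd268 i) (nd273 i) (Nat.ble 515072 i))) (Nat.ble 504832 i))
noncomputable def nd280 (i : Nat) : Nat := (Bool.rec (motive := fun _ => Nat) (nl513 i) (nl514 i) (Nat.ble 526336 i))
noncomputable def nd281 (i : Nat) : Nat := (Bool.rec (motive := fun _ => Nat) (nl515 i) ((Bool.rec (motive := fun _ => Nat) (nl516 i) (nl517 i) (Nat.ble 529408 i))) (Nat.ble 528384 i))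
noncomputable def nd282 (i : Nat) : Nat := (Bool.rec (motive := fun _ => Nat) (nl518 i) (nl519 i) (Nat.ble 531456 i))
noncomputable def nd283 (i : Nat) : Nat := (Bool.rec (motive := fun _ => Nat) (nl520 i) ((Bool.rec (motive := fun _ => Nat) (nl521 i) (nl522 i) (Nat.ble 534528 i))) (Nat.ble 533504 i))
noncomputable def nd279 (i : Nat) : Nat := (Bool.rec (motive := fun _ => Nat) ((Bool.rec (motive := fun _ => Nat) (nd280 i) (nd281 i) (Nat.ble 527360 i))) ((Bool.rec (motive := fun _ => Nat) (nd282 i) (nd283 i) (Nat.ble 532480 i))) (Nat.ble 530432 i))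
noncomputable def nd285 (i : Nat) : Nat := (Bool.rec (motive := fun _ => Nat) (nl523 i) (nl524 i) (Nat.ble 536576 i))
noncomputable def nd286 (i : Nat) : Nat := (Bool.rec (motive := fun _ => Nat) (nl525 i) ((Bool.rec (motive := fun _ => Nat) (nl526 i) (nl527 i) (Nat.ble 539648 i))) (Nat.ble 538624 i))
noncomputable def nd287 (i : Nat) : Nat := (Bool.rec (motive := fun _ => Nat) (nl528 i) (nl529 i) (Nat.ble 541696 i))
noncomputable def nd288 (i : Nat) : Nat := (Bool.rec (motive := fun _ => Nat) (nl530 i) ((Bool.rec (motive := fun _ => Nat) (nl531 i) (nl532 i) (Nat.ble 544768 i))) (Nat.ble 543744 i))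
noncomputable def nd284 (i : Nat) : Nat := (Bool.rec (motive := fun _ => Nat) ((Bool.rec (motive := fun _ => Nat) (nd285 i) (nd286 i) (Nat.ble 537600 i))) ((Bool.rec (motive := fun _ => Nat) (nd287 i) (nd288 i) (Nat.ble 542720 i))) (Nat.ble 540672 i))
noncomputable def nd290 (i : Nat) : Nat := (Bool.rec (motive := fun _ => Nat) (nl533 i) (nl534 i) (Nat.ble 546816 i))
noncomputable def nd291 (i : Nat) : Nat := (Bool.rec (motive := fun _ => Nat) (nl535 i) ((Bool.rec (motive := fun _ => Nat) (nl536 i) (nl537 i) (Nat.ble 549888 i))) (Nat.ble 548864 i))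
noncomputable def nd292 (i : Nat) : Nat := (Bool.rec (motive := fun _ => Nat) (nl538 i) (nl539 i) (Nat.ble 551936 i))
noncomputable def nd293 (i : Nat) : Nat := (Bool.rec (motive := fun _ => Nat) (nl540 i) ((Bool.rec (motive := fun _ => Nat) (nl541 i) (nl542 i) (Nat.ble 555008 i))) (Nat.ble 553984 i))
noncomputable def nd289 (i : Nat) : Nat := (Bool.rec (motive := fun _ => Nat) ((Bool.rec (motive := fun _ => Nat) (nd290 i) (nd291 i) (Nat.ble 547840 i))) ((Bool.rec (motive := fun _ => Nat) (nd292 i) (nd293 i) (Nat.ble 552960 i))) (Nat.ble 550912 i))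
noncomputable def nd295 (i : Nat) : Nat := (Bool.rec (motive := fun _ => Nat) (nl543 i) (nl544 i) (Nat.ble 557056 i))
noncomputable def nd296 (i : Nat) : Nat := (Bool.rec (motive := fun _ => Nat) (nl545 i) ((Bool.rec (motive := fun _ => Nat) (nl546 i) (nl547 i) (Nat.ble 560128 i))) (Nat.ble 559104 i))
noncomputable def nd297 (i : Nat) : Nat := (Bool.rec (motive := fun _ => Nat) (nl548 i) (nl549 i) (Nat.ble 562176 i))
noncomputable def nd298 (i : Nat) : Nat := (Bool.rec (motive := fun _ => Nat) (nl550 i) ((Bool.rec (motive := fun _ => Nat) (nl551 i) (nl552 i) (Nat.ble 565248 i))) (Nat.ble 564224 i))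
noncomputable def nd294 (i : Nat) : Nat := (Bool.rec (motive := fun _ => Nat) ((Bool.rec (motive := fun _ => Nat) (nd295 i) (nd296 i) (Nat.ble 558080 i))) ((Bool.rec (motive := fun _ => Nat) (nd297 i) (nd298 i) (Nat.ble 563200 i))) (Nat.ble 561152 i))
noncomputable def nd278 (i : Nat) : Nat := (Bool.rec (motive := fun _ => Nat) ((Bool.rec (motive := fun _ => Nat) (nd279 i) (nd284 i) (Nat.ble 535552 i))) ((Bool.rec (motive := fun _ => Nat) (nd289 i) (nd294 i) (Nat.ble 556032 i))) (Nat.ble 545792 i))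
noncomputable def nd301 (i : Nat) : Nat := (Bool.rec (motive := fun _ => Nat) (nl553 i) (nl554 i) (Nat.ble 567296 i))
noncomputable def nd302 (i : Nat) : Nat := (Bool.rec (motive := fun _ => Nat) (nl555 i) (nl556 i) (Nat.ble 569344 i))
noncomputable def nd303 (i : Nat) : Nat := (Bool.rec (motive := fun _ => Nat) (nl557 i) (nl558 i) (Nat.ble 571392 i))
noncomputable def nd304 (i : Nat) : Nat := (Bool.rec (motive := fun _ => Nat) (nl559 i) ((Bool.rec (motive := fun _ => Nat) (nl560 i) (nl561 i) (Nat.ble 574464 i))) (Nat.ble 573440 i))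
noncomputable def nd300 (i : Nat) : Nat := (Bool.rec (motive := fun _ => Nat) ((Bool.rec (motive := fun _ => Nat) (nd301 i) (nd302 i) (Nat.ble 568320 i))) ((Bool.rec (motive := fun _ => Nat) (nd303 i) (nd304 i) (Nat.ble 572416 i))) (Nat.ble 570368 i))
noncomputable def nd306 (i : Nat) : Nat := (Bool.rec (motive := fun _ => Nat) (nl562 i) (nl563 i) (Nat.ble 576512 i))
noncomputable def nd307 (i : Nat) : Nat := (Bool.rec (motive := fun _ => Nat) (nl564 i) ((Bool.rec (motive := fun _ => Nat) (nl565 i) (nl566 i) (Nat.ble 579584 i))) (Nat.ble 578560 i))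
noncomputable def nd308 (i : Nat) : Nat := (Bool.rec (motive := fun _ => Nat) (nl567 i) (nl568 i) (Nat.ble 581632 i))
noncomputable def nd309 (i : Nat) : Nat := (Bool.rec (motive := fun _ => Nat) (nl569 i) ((Bool.rec (motive := fun _ => Nat) (nl570 i) (nl571 i) (Nat.ble 584704 i))) (Nat.ble 583680 i))
noncomputable def nd305 (i : Nat) : Nat := (Bool.rec (motive := fun _ => Nat) ((Bool.rec (motive := fun _ => Nat) (nd306 i) (nd307 i) (Nat.ble 577536 i))) ((Bool.rec (motive := fun _ => Nat) (nd308 i) (nd309 i) (Nat.ble 582656 i))) (Nat.ble 580608 i))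
noncomputable def nd311 (i : Nat) : Nat := (Bool.rec (motive := fun _ => Nat) (nl572 i) (nl573 i) (Nat.ble 586752 i))
noncomputable def nd312 (i : Nat) : Nat := (Bool.rec (motive := fun _ => Nat) (nl574 i) ((Bool.rec (motive := fun _ => Nat) (nl575 i) (nl576 i) (Nat.ble 589824 i))) (Nat.ble 588800 i))
noncomputable def nd313 (i : Nat) : Nat := (Bool.rec (motive := fun _ => Nat) (nl577 i) (nl578 i) (Nat.ble 591872 i))
noncomputable def nd314 (i : Nat) : Nat := (Bool.rec (motive := fun _ => Nat) (nl579 i) ((Bool.rec (motive := fun _ => Nat) (nl580 i) (nl581 i) (Nat.ble 594944 i))) (Nat.ble 593920 i))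
noncomputable def nd310 (i : Nat) : Nat := (Bool.rec (motive := fun _ => Nat) ((Bool.rec (motive := fun _ => Nat) (nd311 i) (nd312 i) (Nat.ble 587776 i))) ((Bool.rec (motive := fun _ => Nat) (nd313 i) (nd314 i) (Nat.ble 592896 i))) (Nat.ble 590848 i))
noncomputable def nd316 (i : Nat) : Nat := (Bool.rec (motive := fun _ => Nat) (nl582 i) (nl583 i) (Nat.ble 596992 i))
noncomputable def nd317 (i : Nat) : Nat := (Bool.rec (motive := fun _ => Nat) (nl584 i) ((Bool.rec (motive := fun _ => Nat) (nl585 i) (nl586 i) (Nat.ble 600064 i))) (Nat.ble 599040 i))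
noncomputable def nd318 (i : Nat) : Nat := (Bool.rec (motive := fun _ => Nat) (nl587 i) (nl588 i) (Nat.ble 602112 i))
noncomputable def nd319 (i : Nat) : Nat := (Bool.rec (motive := fun _ => Nat) (nl589 i) ((Bool.rec (motive := fun _ => Nat) (nl590 i) (nl591 i) (Nat.ble 605184 i))) (Nat.ble 604160 i))
noncomputable def nd315 (i : Nat) : Nat := (Bool.rec (motive := fun _ => Nat) ((Bool.rec (motive := fun _ => Nat) (nd316 i) (nd317 i) (Nat.ble 598016 i))) ((Bool.rec (motive := fun _ => Nat) (nd318 i) (nd319 i) (Nat.ble 603136 i))) (Nat.ble 601088 i))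
noncomputable def nd299 (i : Nat) : Nat := (Bool.rec (motive := fun _ => Nat) ((Bool.rec (motive := fun _ => Nat) (nd300 i) (nd305 i) (Nat.ble 575488 i))) ((Bool.rec (motive := fun _ => Nat) (nd310 i) (nd315 i) (Nat.ble 595968 i))) (Nat.ble 585728 i))
noncomputable def nd322 (i : Nat) : Nat := (Bool.rec (motive := fun _ => Nat) (nl592 i) (nl593 i) (Nat.ble 607232 i))
noncomputable def nd323 (i : Nat) : Nat := (Bool.rec (motive := fun _ => Nat) (nl594 i) ((Bool.rec (motive := fun _ => Nat) (nl595 i) (nl596 i) (Nat.ble 610304 i))) (Nat.ble 609280 i))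
noncomputable def nd324 (i : Nat) : Nat := (Bool.rec (motive := fun _ => Nat) (nl597 i) (nl598 i) (Nat.ble 612352 i))
noncomputable def nd325 (i : Nat) : Nat := (Bool.rec (motive := fun _ => Nat) (nl599 i) ((Bool.rec (motive := fun _ => Nat) (nl600 i) (nl601 i) (Nat.ble 615424 i))) (Nat.ble 614400 i))
noncomputable def nd321 (i : Nat) : Nat := (Bool.rec (motive := fun _ => Nat) ((Bool.rec (motive := fun _ => Nat) (nd322 i) (nd323 i) (Nat.ble 608256 i))) ((Bool.rec (motive := fun _ => Nat) (nd324 i) (nd325 i) (Nat.ble 613376 i))) (Nat.ble 611328 i))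
noncomputable def nd327 (i : Nat) : Nat := (Bool.rec (motive := fun _ => Nat) (nl602 i) (nl603 i) (Nat.ble 617472 i))
noncomputable def nd328 (i : Nat) : Nat := (Bool.rec (motive := fun _ => Nat) (nl604 i) ((Bool.rec (motive := fun _ => Nat) (nl605 i) (nl606 i) (Nat.ble 620544 i))) (Nat.ble 619520 i))
noncomputable def nd329 (i : Nat) : Nat := (Bool.rec (motive := fun _ => Nat) (nl607 i) (nl608 i) (Nat.ble 622592 i))
noncomputable def nd330 (i : Nat) : Nat := (Bool.rec (motive := fun _ => Nat) (nl609 i) ((Bool.rec (motive := fun _ => Nat) (nl610 i) (nl611 i) (Nat.ble 625664 i))) (Nat.ble 624640 i))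
noncomputable def nd326 (i : Nat) : Nat := (Bool.rec (motive := fun _ => Nat) ((Bool.rec (motive := fun _ => Nat) (nd327 i) (nd328 i) (Nat.ble 618496 i))) ((Bool.rec (motive := fun _ => Nat) (nd329 i) (nd330 i) (Nat.ble 623616 i))) (Nat.ble 621568 i))
noncomputable def nd332 (i : Nat) : Nat := (Bool.rec (motive := fun _ => Nat) (nl612 i) (nl613 i) (Nat.ble 627712 i))
noncomputable def nd333 (i : Nat) : Nat := (Bool.rec (motive := fun _ => Nat) (nl614 i) ((Bool.rec (motive := fun _ => Nat) (nl615 i) (nl616 i) (Nat.ble 630784 i))) (Nat.ble 629760 i))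
noncomputable def nd334 (i : Nat) : Nat := (Bool.rec (motive := fun _ => Nat) (nl617 i) (nl618 i) (Nat.ble 632832 i))
noncomputable def nd335 (i : Nat) : Nat := (Bool.rec (motive := fun _ => Nat) (nl619 i) ((Bool.rec (motive := fun _ => Nat) (nl620 i) (nl621 i) (Nat.ble 635904 i))) (Nat.ble 634880 i))
noncomputable def nd331 (i : Nat) : Nat := (Bool.rec (motive := fun _ => Nat) ((Bool.rec (motive := fun _ => Nat) (nd332 i) (nd333 i) (Nat.ble 628736 i))) ((Bool.rec (motive := fun _ => Nat) (nd334 i) (nd335 i) (Nat.ble 633856 i))) (Nat.ble 631808 i))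
noncomputable def nd337 (i : Nat) : Nat := (Bool.rec (motive := fun _ => Nat) (nl622 i) (nl623 i) (Nat.ble 637952 i))
noncomputable def nd338 (i : Nat) : Nat := (Bool.rec (motive := fun _ => Nat) (nl624 i) ((Bool.rec (motive := fun _ => Nat) (nl625 i) (nl626 i) (Nat.ble 641024 i))) (Nat.ble 640000 i))
noncomputable def nd339 (i : Nat) : Nat := (Bool.rec (motive := fun _ => Nat) (nl627 i) (nl628 i) (Nat.ble 643072 i))
noncomputable def nd340 (i : Nat) : Nat := (Bool.rec (motive := fun _ => Nat) (nl629 i) ((Bool.rec (motive := fun _ => Nat) (nl630 i) (nl631 i) (Nat.ble 646144 i))) (Nat.ble 645120 i))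
noncomputable def nd336 (i : Nat) : Nat := (Bool.rec (motive := fun _ => Nat) ((Bool.rec (motive := fun _ => Nat) (nd337 i) (nd338 i) (Nat.ble 638976 i))) ((Bool.rec (motive := fun _ => Nat) (nd339 i) (nd340 i) (Nat.ble 644096 i))) (Nat.ble 642048 i))
noncomputable def nd320 (i : Nat) : Nat := (Bool.rec (motive := fun _ => Nat) ((Bool.rec (motive := fun _ => Nat) (nd321 i) (nd326 i) (Nat.ble 616448 i))) ((Bool.rec (motive := fun _ => Nat) (nd331 i) (nd336 i) (Nat.ble 636928 i))) (Nat.ble 626688 i))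
noncomputable def nd256 (i : Nat) : Nat := (Bool.rec (motive := fun _ => Nat) ((Bool.rec (motive := fun _ => Nat) (nd257 i) (nd278 i) (Nat.ble 525312 i))) ((Bool.rec (motive := fun _ => Nat) (nd299 i) (nd320 i) (Nat.ble 606208 i))) (Nat.ble 566272 i))
noncomputable def nd0 (i : Nat) : Nat := (Bool.rec (motive := fun _ => Nat) ((Bool.rec (motive := fun _ => Nat) (nd1 i) (nd86 i) (Nat.ble 161792 i))) ((Bool.rec (motive := fun _ => Nat) (nd171 i) (nd256 i) (Nat.ble 485376 i))) (Nat.ble 323584 i))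
noncomputable def nd345 (i : Nat) : Nat := (Bool.rec (motive := fun _ => Nat) (nl633 i) (nl634 i) (Nat.ble 2048 i))
noncomputable def nd346 (i : Nat) : Nat := (Bool.rec (motive := fun _ => Nat) (nl636 i) (nl637 i) (Nat.ble 5120 i))
noncomputable def nd344 (i : Nat) : Nat := (Bool.rec (motive := fun _ => Nat) ((Bool.rec (motive := fun _ => Nat) (nl632 i) (nd345 i) (Nat.ble 1024 i))) ((Bool.rec (motive := fun _ => Nat) (nl635 i) (nd346 i) (Nat.ble 4096 i))) (Nat.ble 3072 i))
noncomputable def nd348 (i : Nat) : Nat := (Bool.rec (motive := fun _ => Nat) (nl639 i) (nl640 i) (Nat.ble 8192 i))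
noncomputable def nd349 (i : Nat) : Nat := (Bool.rec (motive := fun _ => Nat) (nl642 i) (nl643 i) (Nat.ble 11264 i))
noncomputable def nd347 (i : Nat) : Nat := (Bool.rec (motive := fun _ => Nat) ((Bool.rec (motive := fun _ => Nat) (nl638 i) (nd348 i) (Nat.ble 7168 i))) ((Bool.rec (motive := fun _ => Nat) (nl641 i) (nd349 i) (Nat.ble 10240 i))) (Nat.ble 9216 i))
noncomputable def nd351 (i : Nat) : Nat := (Bool.rec (motive := fun _ => Nat) (nl645 i) (nl646 i) (Nat.ble 14336 i))
noncomputable def nd352 (i : Nat) : Nat := (Bool.rec (motive := fun _ => Nat) (nl648 i) (nl649 i) (Nat.ble 17408 i))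
noncomputable def nd350 (i : Nat) : Nat := (Bool.rec (motive := fun _ => Nat) ((Bool.rec (motive := fun _ => Nat) (nl644 i) (nd351 i) (Nat.ble 13312 i))) ((Bool.rec (motive := fun _ => Nat) (nl647 i) (nd352 i) (Nat.ble 16384 i))) (Nat.ble 15360 i))
noncomputable def nd354 (i : Nat) : Nat := (Bool.rec (motive := fun _ => Nat) (nl651 i) (nl652 i) (Nat.ble 20480 i))
noncomputable def nd355 (i : Nat) : Nat := (Bool.rec (motive := fun _ => Nat) (nl653 i) (nl654 i) (Nat.ble 22528 i))
noncomputable def nd356 (i : Nat) : Nat := (Bool.rec (motive := fun _ => Nat) (nl655 i) (nl656 i) (Nat.ble 24576 i))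
noncomputable def nd353 (i : Nat) : Nat := (Bool.rec (motive := fun _ => Nat) ((Bool.rec (motive := fun _ => Nat) (nl650 i) (nd354 i) (Nat.ble 19456 i))) ((Bool.rec (motive := fun _ => Nat) (nd355 i) (nd356 i) (Nat.ble 23552 i))) (Nat.ble 21504 i))
noncomputable def nd343 (i : Nat) : Nat := (Bool.rec (motive := fun _ => Nat) ((Bool.rec (motive := fun _ => Nat) (nd344 i) (nd347 i) (Nat.ble 6144 i))) ((Bool.rec (motive := fun _ => Nat) (nd350 i) (nd353 i) (Nat.ble 18432 i))) (Nat.ble 12288 i))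
noncomputable def nd359 (i : Nat) : Nat := (Bool.rec (motive := fun _ => Nat) (nl658 i) (nl659 i) (Nat.ble 27648 i))
noncomputable def nd360 (i : Nat) : Nat := (Bool.rec (motive := fun _ => Nat) (nl661 i) (nl662 i) (Nat.ble 30720 i))
noncomputable def nd358 (i : Nat) : Nat := (Bool.rec (motive := fun _ => Nat) ((Bool.rec (motive := fun _ => Nat) (nl657 i) (nd359 i) (Nat.ble 26624 i))) ((Bool.rec (motive := fun _ => Nat) (nl660 i) (nd360 i) (Nat.ble 29696 i))) (Nat.ble 28672 i))
noncomputable def nd362 (i : Nat) : Nat := (Bool.rec (motive := fun _ => Nat) (nl664 i) (nl665 i) (Nat.ble 33792 i))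
noncomputable def nd363 (i : Nat) : Nat := (Bool.rec (motive := fun _ => Nat) (nl666 i) (nl667 i) (Nat.ble 35840 i))
noncomputable def nd364 (i : Nat) : Nat := (Bool.rec (motive := fun _ => Nat) (nl668 i) (nl669 i) (Nat.ble 37888 i))
noncomputable def nd361 (i : Nat) : Nat := (Bool.rec (motive := fun _ => Nat) ((Bool.rec (motive := fun _ => Nat) (nl663 i) (nd362 i) (Nat.ble 32768 i))) ((Bool.rec (motive := fun _ => Nat) (nd363 i) (nd364 i) (Nat.ble 36864 i))) (Nat.ble 34816 i))
noncomputable def nd366 (i : Nat) : Nat := (Bool.rec (motive := fun _ => Nat) (nl671 i) (nl672 i) (Nat.ble 40960 i))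
noncomputable def nd367 (i : Nat) : Nat := (Bool.rec (motive := fun _ => Nat) (nl674 i) (nl675 i) (Nat.ble 44032 i))
noncomputable def nd365 (i : Nat) : Nat := (Bool.rec (motive := fun _ => Nat) ((Bool.rec (motive := fun _ => Nat) (nl670 i) (nd366 i) (Nat.ble 39936 i))) ((Bool.rec (motive := fun _ => Nat) (nl673 i) (nd367 i) (Nat.ble 43008 i))) (Nat.ble 41984 i))
noncomputable def nd369 (i : Nat) : Nat := (Bool.rec (motive := fun _ => Nat) (nl677 i) (nl678 i) (Nat.ble 47104 i))
noncomputable def nd370 (i : Nat) : Nat := (Bool.rec (motive := fun _ => Nat) (nl679 i) (nl680 i) (Nat.ble 49152 i))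
noncomputable def nd371 (i : Nat) : Nat := (Bool.rec (motive := fun _ => Nat) (nl681 i) (nl682 i) (Nat.ble 51200 i))
noncomputable def nd368 (i : Nat) : Nat := (Bool.rec (motive := fun _ => Nat) ((Bool.rec (motive := fun _ => Nat) (nl676 i) (nd369 i) (Nat.ble 46080 i))) ((Bool.rec (motive := fun _ => Nat) (nd370 i) (nd371 i) (Nat.ble 50176 i))) (Nat.ble 48128 i))
noncomputable def nd357 (i : Nat) : Nat := (Bool.rec (motive := fun _ => Nat) ((Bool.rec (motive := fun _ => Nat) (nd358 i) (nd361 i) (Nat.ble 31744 i))) ((Bool.rec (motive := fun _ => Nat) (nd365 i) (nd368 i) (Nat.ble 45056 i))) (Nat.ble 38912 i))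
noncomputable def nd374 (i : Nat) : Nat := (Bool.rec (motive := fun _ => Nat) (nl684 i) (nl685 i) (Nat.ble 54272 i))
noncomputable def nd375 (i : Nat) : Nat := (Bool.rec (motive := fun _ => Nat) (nl687 i) (nl688 i) (Nat.ble 57344 i))
noncomputable def nd373 (i : Nat) : Nat := (Bool.rec (motive := fun _ => Nat) ((Bool.rec (motive := fun _ => Nat) (nl683 i) (nd374 i) (Nat.ble 53248 i))) ((Bool.rec (motive := fun _ => Nat) (nl686 i) (nd375 i) (Nat.ble 56320 i))) (Nat.ble 55296 i))
noncomputable def nd377 (i : Nat) : Nat := (Bool.rec (motive := fun _ => Nat) (nl690 i) (nl691 i) (Nat.ble 60416 i))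
noncomputable def nd378 (i : Nat) : Nat := (Bool.rec (motive := fun _ => Nat) (nl692 i) (nl693 i) (Nat.ble 62464 i))
noncomputable def nd379 (i : Nat) : Nat := (Bool.rec (motive := fun _ => Nat) (nl694 i) (nl695 i) (Nat.ble 64512 i))
noncomputable def nd376 (i : Nat) : Nat := (Bool.rec (motive := fun _ => Nat) ((Bool.rec (motive := fun _ => Nat) (nl689 i) (nd377 i) (Nat.ble 59392 i))) ((Bool.rec (motive := fun _ => Nat) (nd378 i) (nd379 i) (Nat.ble 63488 i))) (Nat.ble 61440 i))
noncomputable def nd381 (i : Nat) : Nat := (Bool.rec (motive := fun _ => Nat) (nl697 i) (nl698 i) (Nat.ble 67584 i))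
noncomputable def nd382 (i : Nat) : Nat := (Bool.rec (motive := fun _ => Nat) (nl700 i) (nl701 i) (Nat.ble 70656 i))
noncomputable def nd380 (i : Nat) : Nat := (Bool.rec (motive := fun _ => Nat) ((Bool.rec (motive := fun _ => Nat) (nl696 i) (nd381 i) (Nat.ble 66560 i))) ((Bool.rec (motive := fun _ => Nat) (nl699 i) (nd382 i) (Nat.ble 69632 i))) (Nat.ble 68608 i))
noncomputable def nd384 (i : Nat) : Nat := (Bool.rec (motive := fun _ => Nat) (nl703 i) (nl704 i) (Nat.ble 73728 i))
noncomputable def nd385 (i : Nat) : Nat := (Bool.rec (motive := fun _ => Nat) (nl705 i) (nl706 i) (Nat.ble 75776 i))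
noncomputable def nd386 (i : Nat) : Nat := (Bool.rec (motive := fun _ => Nat) (nl707 i) (nl708 i) (Nat.ble 77824 i))
noncomputable def nd383 (i : Nat) : Nat := (Bool.rec (motive := fun _ => Nat) ((Bool.rec (motive := fun _ => Nat) (nl702 i) (nd384 i) (Nat.ble 72704 i))) ((Bool.rec (motive := fun _ => Nat) (nd385 i) (nd386 i) (Nat.ble 76800 i))) (Nat.ble 74752 i))
noncomputable def nd372 (i : Nat) : Nat := (Bool.rec (motive := fun _ => Nat) ((Bool.rec (motive := fun _ => Nat) (nd373 i) (nd376 i) (Nat.ble 58368 i))) ((Bool.rec (motive := fun _ => Nat) (nd380 i) (nd383 i) (Nat.ble 71680 i))) (Nat.ble 65536 i))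
noncomputable def nd389 (i : Nat) : Nat := (Bool.rec (motive := fun _ => Nat) (nl710 i) (nl711 i) (Nat.ble 80896 i))
noncomputable def nd390 (i : Nat) : Nat := (Bool.rec (motive := fun _ => Nat) (nl713 i) (nl714 i) (Nat.ble 83968 i))
noncomputable def nd388 (i : Nat) : Nat := (Bool.rec (motive := fun _ => Nat) ((Bool.rec (motive := fun _ => Nat) (nl709 i) (nd389 i) (Nat.ble 79872 i))) ((Bool.rec (motive := fun _ => Nat) (nl712 i) (nd390 i) (Nat.ble 82944 i))) (Nat.ble 81920 i))
noncomputable def nd392 (i : Nat) : Nat := (Bool.rec (motive := fun _ => Nat) (nl716 i) (nl717 i) (Nat.ble 87040 i))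
noncomputable def nd393 (i : Nat) : Nat := (Bool.rec (motive := fun _ => Nat) (nl718 i) (nl719 i) (Nat.ble 89088 i))
noncomputable def nd394 (i : Nat) : Nat := (Bool.rec (motive := fun _ => Nat) (nl720 i) (nl721 i) (Nat.ble 91136 i))
noncomputable def nd391 (i : Nat) : Nat := (Bool.rec (motive := fun _ => Nat) ((Bool.rec (motive := fun _ => Nat) (nl715 i) (nd392 i) (Nat.ble 86016 i))) ((Bool.rec (motive := fun _ => Nat) (nd393 i) (nd394 i) (Nat.ble 90112 i))) (Nat.ble 88064 i))
noncomputable def nd396 (i : Nat) : Nat := (Bool.rec (motive := fun _ => Nat) (nl723 i) (nl724 i) (Nat.ble 94208 i))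
noncomputable def nd397 (i : Nat) : Nat := (Bool.rec (motive := fun _ => Nat) (nl726 i) (nl727 i) (Nat.ble 97280 i))
noncomputable def nd395 (i : Nat) : Nat := (Bool.rec (motive := fun _ => Nat) ((Bool.rec (motive := fun _ => Nat) (nl722 i) (nd396 i) (Nat.ble 93184 i))) ((Bool.rec (motive := fun _ => Nat) (nl725 i) (nd397 i) (Nat.ble 96256 i))) (Nat.ble 95232 i))
noncomputable def nd399 (i : Nat) : Nat := (Bool.rec (motive := fun _ => Nat) (nl729 i) (nl730 i) (Nat.ble 100352 i))
noncomputable def nd400 (i : Nat) : Nat := (Bool.rec (motive := fun _ => Nat) (nl731 i) (nl732 i) (Nat.ble 102400 i))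
noncomputable def nd401 (i : Nat) : Nat := (Bool.rec (motive := fun _ => Nat) (nl733 i) (nl734 i) (Nat.ble 104448 i))
noncomputable def nd398 (i : Nat) : Nat := (Bool.rec (motive := fun _ => Nat) ((Bool.rec (motive := fun _ => Nat) (nl728 i) (nd399 i) (Nat.ble 99328 i))) ((Bool.rec (motive := fun _ => Nat) (nd400 i) (nd401 i) (Nat.ble 103424 i))) (Nat.ble 101376 i))
noncomputable def nd387 (i : Nat) : Nat := (Bool.rec (motive := fun _ => Nat) ((Bool.rec (motive := fun _ => Nat) (nd388 i) (nd391 i) (Nat.ble 84992 i))) ((Bool.rec (motive := fun _ => Nat) (nd395 i) (nd398 i) (Nat.ble 98304 i))) (Nat.ble 92160 i))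
noncomputable def nd342 (i : Nat) : Nat := (Bool.rec (motive := fun _ => Nat) ((Bool.rec (motive := fun _ => Nat) (nd343 i) (nd357 i) (Nat.ble 25600 i))) ((Bool.rec (motive := fun _ => Nat) (nd372 i) (nd387 i) (Nat.ble 78848 i))) (Nat.ble 52224 i))
noncomputable def nd405 (i : Nat) : Nat := (Bool.rec (motive := fun _ => Nat) (nl736 i) (nl737 i) (Nat.ble 107520 i))
noncomputable def nd406 (i : Nat) : Nat := (Bool.rec (motive := fun _ => Nat) (nl739 i) (nl740 i) (Nat.ble 110592 i))
noncomputable def nd404 (i : Nat) : Nat := (Bool.rec (motive := fun _ => Nat) ((Bool.rec (motive := fun _ => Nat) (nl735 i) (nd405 i) (Nat.ble 106496 i))) ((Bool.rec (motive := fun _ => Nat) (nl738 i) (nd406 i) (Nat.ble 109568 i))) (Nat.ble 108544 i))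
noncomputable def nd408 (i : Nat) : Nat := (Bool.rec (motive := fun _ => Nat) (nl742 i) (nl743 i) (Nat.ble 113664 i))
noncomputable def nd409 (i : Nat) : Nat := (Bool.rec (motive := fun _ => Nat) (nl745 i) (nl746 i) (Nat.ble 116736 i))
noncomputable def nd407 (i : Nat) : Nat := (Bool.rec (motive := fun _ => Nat) ((Bool.rec (motive := fun _ => Nat) (nl741 i) (nd408 i) (Nat.ble 112640 i))) ((Bool.rec (motive := fun _ => Nat) (nl744 i) (nd409 i) (Nat.ble 115712 i))) (Nat.ble 114688 i))
noncomputable def nd411 (i : Nat) : Nat := (Bool.rec (motive := fun _ => Nat) (nl748 i) (nl749 i) (Nat.ble 119808 i))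
noncomputable def nd412 (i : Nat) : Nat := (Bool.rec (motive := fun _ => Nat) (nl751 i) (nl752 i) (Nat.ble 122880 i))
noncomputable def nd410 (i : Nat) : Nat := (Bool.rec (motive := fun _ => Nat) ((Bool.rec (motive := fun _ => Nat) (nl747 i) (nd411 i) (Nat.ble 118784 i))) ((Bool.rec (motive := fun _ => Nat) (nl750 i) (nd412 i) (Nat.ble 121856 i))) (Nat.ble 120832 i))
noncomputable def nd414 (i : Nat) : Nat := (Bool.rec (motive := fun _ => Nat) (nl754 i) (nl755 i) (Nat.ble 125952 i))
noncomputable def nd415 (i : Nat) : Nat := (Bool.rec (motive := fun _ => Nat) (nl756 i) (nl757 i) (Nat.ble 128000 i))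
noncomputable def nd416 (i : Nat) : Nat := (Bool.rec (motive := fun _ => Nat) (nl758 i) (nl759 i) (Nat.ble 130048 i))
noncomputable def nd413 (i : Nat) : Nat := (Bool.rec (motive := fun _ => Nat) ((Bool.rec (motive := fun _ => Nat) (nl753 i) (nd414 i) (Nat.ble 124928 i))) ((Bool.rec (motive := fun _ => Nat) (nd415 i) (nd416 i) (Nat.ble 129024 i))) (Nat.ble 126976 i))
noncomputable def nd403 (i : Nat) : Nat := (Bool.rec (motive := fun _ => Nat) ((Bool.rec (motive := fun _ => Nat) (nd404 i) (nd407 i) (Nat.ble 111616 i))) ((Bool.rec (motive := fun _ => Nat) (nd410 i) (nd413 i) (Nat.ble 123904 i))) (Nat.ble 117760 i))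
noncomputable def nd419 (i : Nat) : Nat := (Bool.rec (motive := fun _ => Nat) (nl761 i) (nl762 i) (Nat.ble 133120 i))
noncomputable def nd420 (i : Nat) : Nat := (Bool.rec (motive := fun _ => Nat) (nl764 i) (nl765 i) (Nat.ble 136192 i))
noncomputable def nd418 (i : Nat) : Nat := (Bool.rec (motive := fun _ => Nat) ((Bool.rec (motive := fun _ => Nat) (nl760 i) (nd419 i) (Nat.ble 132096 i))) ((Bool.rec (motive := fun _ => Nat) (nl763 i) (nd420 i) (Nat.ble 135168 i))) (Nat.ble 134144 i))
noncomputable def nd422 (i : Nat) : Nat := (Bool.rec (motive := fun _ => Nat) (nl767 i) (nl768 i) (Nat.ble 139264 i))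
noncomputable def nd423 (i : Nat) : Nat := (Bool.rec (motive := fun _ => Nat) (nl769 i) (nl770 i) (Nat.ble 141312 i))
noncomputable def nd424 (i : Nat) : Nat := (Bool.rec (motive := fun _ => Nat) (nl771 i) (nl772 i) (Nat.ble 143360 i))
noncomputable def nd421 (i : Nat) : Nat := (Bool.rec (motive := fun _ => Nat) ((Bool.rec (motive := fun _ => Nat) (nl766 i) (nd422 i) (Nat.ble 138240 i))) ((Bool.rec (motive := fun _ => Nat) (nd423 i) (nd424 i) (Nat.ble 142336 i))) (Nat.ble 140288 i))
noncomputable def nd426 (i : Nat) : Nat := (Bool.rec (motive := fun _ => Nat) (nl774 i) (nl775 i) (Nat.ble 146432 i))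
noncomputable def nd427 (i : Nat) : Nat := (Bool.rec (motive := fun _ => Nat) (nl777 i) (nl778 i) (Nat.ble 149504 i))
noncomputable def nd425 (i : Nat) : Nat := (Bool.rec (motive := fun _ => Nat) ((Bool.rec (motive := fun _ => Nat) (nl773 i) (nd426 i) (Nat.ble 145408 i))) ((Bool.rec (motive := fun _ => Nat) (nl776 i) (nd427 i) (Nat.ble 148480 i))) (Nat.ble 147456 i))
noncomputable def nd429 (i : Nat) : Nat := (Bool.rec (motive := fun _ => Nat) (nl780 i) (nl781 i) (Nat.ble 152576 i))
noncomputable def nd430 (i : Nat) : Nat := (Bool.rec (motive := fun _ => Nat) (nl782 i) (nl783 i) (Nat.ble 154624 i))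
noncomputable def nd431 (i : Nat) : Nat := (Bool.rec (motive := fun _ => Nat) (nl784 i) (nl785 i) (Nat.ble 156672 i))
noncomputable def nd428 (i : Nat) : Nat := (Bool.rec (motive := fun _ => Nat) ((Bool.rec (motive := fun _ => Nat) (nl779 i) (nd429 i) (Nat.ble 151552 i))) ((Bool.rec (motive := fun _ => Nat) (nd430 i) (nd431 i) (Nat.ble 155648 i))) (Nat.ble 153600 i))
noncomputable def nd417 (i : Nat) : Nat := (Bool.rec (motive := fun _ => Nat) ((Bool.rec (motive := fun _ => Nat) (nd418 i) (nd421 i) (Nat.ble 137216 i))) ((Bool.rec (motive := fun _ => Nat) (nd425 i) (nd428 i) (Nat.ble 150528 i))) (Nat.ble 144384 i))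
noncomputable def nd434 (i : Nat) : Nat := (Bool.rec (motive := fun _ => Nat) (nl787 i) (nl788 i) (Nat.ble 159744 i))
noncomputable def nd435 (i : Nat) : Nat := (Bool.rec (motive := fun _ => Nat) (nl790 i) (nl791 i) (Nat.ble 162816 i))
noncomputable def nd433 (i : Nat) : Nat := (Bool.rec (motive := fun _ => Nat) ((Bool.rec (motive := fun _ => Nat) (nl786 i) (nd434 i) (Nat.ble 158720 i))) ((Bool.rec (motive := fun _ => Nat) (nl789 i) (nd435 i) (Nat.ble 161792 i))) (Nat.ble 160768 i))
noncomputable def nd437 (i : Nat) : Nat := (Bool.rec (motive := fun _ => Nat) (nl793 i) (nl794 i) (Nat.ble 165888 i))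
noncomputable def nd438 (i : Nat) : Nat := (Bool.rec (motive := fun _ => Nat) (nl795 i) (nl796 i) (Nat.ble 167936 i))
noncomputable def nd439 (i : Nat) : Nat := (Bool.rec (motive := fun _ => Nat) (nl797 i) (nl798 i) (Nat.ble 169984 i))
noncomputable def nd436 (i : Nat) : Nat := (Bool.rec (motive := fun _ => Nat) ((Bool.rec (motive := fun _ => Nat) (nl792 i) (nd437 i) (Nat.ble 164864 i))) ((Bool.rec (motive := fun _ => Nat) (nd438 i) (nd439 i) (Nat.ble 168960 i))) (Nat.ble 166912 i))
noncomputable def nd441 (i : Nat) : Nat := (Bool.rec (motive := fun _ => Nat) (nl800 i) (nl801 i) (Nat.ble 173056 i))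
noncomputable def nd442 (i : Nat) : Nat := (Bool.rec (motive := fun _ => Nat) (nl803 i) (nl804 i) (Nat.ble 176128 i))
noncomputable def nd440 (i : Nat) : Nat := (Bool.rec (motive := fun _ => Nat) ((Bool.rec (motive := fun _ => Nat) (nl799 i) (nd441 i) (Nat.ble 172032 i))) ((Bool.rec (motive := fun _ => Nat) (nl802 i) (nd442 i) (Nat.ble 175104 i))) (Nat.ble 174080 i))
noncomputable def nd444 (i : Nat) : Nat := (Bool.rec (motive := fun _ => Nat) (nl806 i) (nl807 i) (Nat.ble 179200 i))
noncomputable def nd445 (i : Nat) : Nat := (Bool.rec (motive := fun _ => Nat) (nl808 i) (nl809 i) (Nat.ble 181248 i))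
noncomputable def nd446 (i : Nat) : Nat := (Bool.rec (motive := fun _ => Nat) (nl810 i) (nl811 i) (Nat.ble 183296 i))
noncomputable def nd443 (i : Nat) : Nat := (Bool.rec (motive := fun _ => Nat) ((Bool.rec (motive := fun _ => Nat) (nl805 i) (nd444 i) (Nat.ble 178176 i))) ((Bool.rec (motive := fun _ => Nat) (nd445 i) (nd446 i) (Nat.ble 182272 i))) (Nat.ble 180224 i))
noncomputable def nd432 (i : Nat) : Nat := (Bool.rec (motive := fun _ => Nat) ((Bool.rec (motive := fun _ => Nat) (nd433 i) (nd436 i) (Nat.ble 163840 i))) ((Bool.rec (motive := fun _ => Nat) (nd440 i) (nd443 i) (Nat.ble 177152 i))) (Nat.ble 171008 i))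
noncomputable def nd449 (i : Nat) : Nat := (Bool.rec (motive := fun _ => Nat) (nl813 i) (nl814 i) (Nat.ble 186368 i))
noncomputable def nd450 (i : Nat) : Nat := (Bool.rec (motive := fun _ => Nat) (nl816 i) (nl817 i) (Nat.ble 189440 i))
noncomputable def nd448 (i : Nat) : Nat := (Bool.rec (motive := fun _ => Nat) ((Bool.rec (motive := fun _ => Nat) (nl812 i) (nd449 i) (Nat.ble 185344 i))) ((Bool.rec (motive := fun _ => Nat) (nl815 i) (nd450 i) (Nat.ble 188416 i))) (Nat.ble 187392 i))
noncomputable def nd452 (i : Nat) : Nat := (Bool.rec (motive := fun _ => Nat) (nl819 i) (nl820 i) (Nat.ble 192512 i))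
noncomputable def nd453 (i : Nat) : Nat := (Bool.rec (motive := fun _ => Nat) (nl821 i) (nl822 i) (Nat.ble 194560 i))
noncomputable def nd454 (i : Nat) : Nat := (Bool.rec (motive := fun _ => Nat) (nl823 i) (nl824 i) (Nat.ble 196608 i))
noncomputable def nd451 (i : Nat) : Nat := (Bool.rec (motive := fun _ => Nat) ((Bool.rec (motive := fun _ => Nat) (nl818 i) (nd452 i) (Nat.ble 191488 i))) ((Bool.rec (motive := fun _ => Nat) (nd453 i) (nd454 i) (Nat.ble 195584 i))) (Nat.ble 193536 i))
noncomputable def nd456 (i : Nat) : Nat := (Bool.rec (motive := fun _ => Nat) (nl826 i) (nl827 i) (Nat.ble 199680 i))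
noncomputable def nd457 (i : Nat) : Nat := (Bool.rec (motive := fun _ => Nat) (nl829 i) (nl830 i) (Nat.ble 202752 i))
noncomputable def nd455 (i : Nat) : Nat := (Bool.rec (motive := fun _ => Nat) ((Bool.rec (motive := fun _ => Nat) (nl825 i) (nd456 i) (Nat.ble 198656 i))) ((Bool.rec (motive := fun _ => Nat) (nl828 i) (nd457 i) (Nat.ble 201728 i))) (Nat.ble 200704 i))
noncomputable def nd459 (i : Nat) : Nat := (Bool.rec (motive := fun _ => Nat) (nl832 i) (nl833 i) (Nat.ble 205824 i))
noncomputable def nd460 (i : Nat) : Nat := (Bool.rec (motive := fun _ => Nat) (nl834 i) (nl835 i) (Nat.ble 207872 i))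
noncomputable def nd461 (i : Nat) : Nat := (Bool.rec (motive := fun _ => Nat) (nl836 i) (nl837 i) (Nat.ble 209920 i))
noncomputable def nd458 (i : Nat) : Nat := (Bool.rec (motive := fun _ => Nat) ((Bool.rec (motive := fun _ => Nat) (nl831 i) (nd459 i) (Nat.ble 204800 i))) ((Bool.rec (motive := fun _ => Nat) (nd460 i) (nd461 i) (Nat.ble 208896 i))) (Nat.ble 206848 i))
noncomputable def nd447 (i : Nat) : Nat := (Bool.rec (motive := fun _ => Nat) ((Bool.rec (motive := fun _ => Nat) (nd448 i) (nd451 i) (Nat.ble 190464 i))) ((Bool.rec (motive := fun _ => Nat) (nd455 i) (nd458 i) (Nat.ble 203776 i))) (Nat.ble 197632 i))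
noncomputable def nd402 (i : Nat) : Nat := (Bool.rec (motive := fun _ => Nat) ((Bool.rec (motive := fun _ => Nat) (nd403 i) (nd417 i) (Nat.ble 131072 i))) ((Bool.rec (motive := fun _ => Nat) (nd432 i) (nd447 i) (Nat.ble 184320 i))) (Nat.ble 157696 i))
noncomputable def nd465 (i : Nat) : Nat := (Bool.rec (motive := fun _ => Nat) (nl839 i) (nl840 i) (Nat.ble 212992 i))
noncomputable def nd466 (i : Nat) : Nat := (Bool.rec (motive := fun _ => Nat) (nl842 i) (nl843 i) (Nat.ble 216064 i))
noncomputable def nd464 (i : Nat) : Nat := (Bool.rec (motive := fun _ => Nat) ((Bool.rec (motive := fun _ => Nat) (nl838 i) (nd465 i) (Nat.ble 211968 i))) ((Bool.rec (motive := fun _ => Nat) (nl841 i) (nd466 i) (Nat.ble 215040 i))) (Nat.ble 214016 i))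
noncomputable def nd468 (i : Nat) : Nat := (Bool.rec (motive := fun _ => Nat) (nl845 i) (nl846 i) (Nat.ble 219136 i))
noncomputable def nd469 (i : Nat) : Nat := (Bool.rec (motive := fun _ => Nat) (nl848 i) (nl849 i) (Nat.ble 222208 i))
noncomputable def nd467 (i : Nat) : Nat := (Bool.rec (motive := fun _ => Nat) ((Bool.rec (motive := fun _ => Nat) (nl844 i) (nd468 i) (Nat.ble 218112 i))) ((Bool.rec (motive := fun _ => Nat) (nl847 i) (nd469 i) (Nat.ble 221184 i))) (Nat.ble 220160 i))
noncomputable def nd471 (i : Nat) : Nat := (Bool.rec (motive := fun _ => Nat) (nl851 i) (nl852 i) (Nat.ble 225280 i))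
noncomputable def nd472 (i : Nat) : Nat := (Bool.rec (motive := fun _ => Nat) (nl854 i) (nl855 i) (Nat.ble 228352 i))
noncomputable def nd470 (i : Nat) : Nat := (Bool.rec (motive := fun _ => Nat) ((Bool.rec (motive := fun _ => Nat) (nl850 i) (nd471 i) (Nat.ble 224256 i))) ((Bool.rec (motive := fun _ => Nat) (nl853 i) (nd472 i) (Nat.ble 227328 i))) (Nat.ble 226304 i))
noncomputable def nd474 (i : Nat) : Nat := (Bool.rec (motive := fun _ => Nat) (nl857 i) (nl858 i) (Nat.ble 231424 i))
noncomputable def nd475 (i : Nat) : Nat := (Bool.rec (motive := fun _ => Nat) (nl859 i) (nl860 i) (Nat.ble 233472 i))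
noncomputable def nd476 (i : Nat) : Nat := (Bool.rec (motive := fun _ => Nat) (nl861 i) (nl862 i) (Nat.ble 235520 i))
noncomputable def nd473 (i : Nat) : Nat := (Bool.rec (motive := fun _ => Nat) ((Bool.rec (motive := fun _ => Nat) (nl856 i) (nd474 i) (Nat.ble 230400 i))) ((Bool.rec (motive := fun _ => Nat) (nd475 i) (nd476 i) (Nat.ble 234496 i))) (Nat.ble 232448 i))
noncomputable def nd463 (i : Nat) : Nat := (Bool.rec (motive := fun _ => Nat) ((Bool.rec (motive := fun _ => Nat) (nd464 i) (nd467 i) (Nat.ble 217088 i))) ((Bool.rec (motive := fun _ => Nat) (nd470 i) (nd473 i) (Nat.ble 229376 i))) (Nat.ble 223232 i))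
noncomputable def nd479 (i : Nat) : Nat := (Bool.rec (motive := fun _ => Nat) (nl864 i) (nl865 i) (Nat.ble 238592 i))
noncomputable def nd480 (i : Nat) : Nat := (Bool.rec (motive := fun _ => Nat) (nl867 i) (nl868 i) (Nat.ble 241664 i))
noncomputable def nd478 (i : Nat) : Nat := (Bool.rec (motive := fun _ => Nat) ((Bool.rec (motive := fun _ => Nat) (nl863 i) (nd479 i) (Nat.ble 237568 i))) ((Bool.rec (motive := fun _ => Nat) (nl866 i) (nd480 i) (Nat.ble 240640 i))) (Nat.ble 239616 i))
noncomputable def nd482 (i : Nat) : Nat := (Bool.rec (motive := fun _ => Nat) (nl870 i) (nl871 i) (Nat.ble 244736 i))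
noncomputable def nd483 (i : Nat) : Nat := (Bool.rec (motive := fun _ => Nat) (nl872 i) (nl873 i) (Nat.ble 246784 i))
noncomputable def nd484 (i : Nat) : Nat := (Bool.rec (motive := fun _ => Nat) (nl874 i) (nl875 i) (Nat.ble 248832 i))
noncomputable def nd481 (i : Nat) : Nat := (Bool.rec (motive := fun _ => Nat) ((Bool.rec (motive := fun _ => Nat) (nl869 i) (nd482 i) (Nat.ble 243712 i))) ((Bool.rec (motive := fun _ => Nat) (nd483 i) (nd484 i) (Nat.ble 247808 i))) (Nat.ble 245760 i))
noncomputable def nd486 (i : Nat) : Nat := (Bool.rec (motive := fun _ => Nat) (nl877 i) (nl878 i) (Nat.ble 251904 i))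
noncomputable def nd487 (i : Nat) : Nat := (Bool.rec (motive := fun _ => Nat) (nl880 i) (nl881 i) (Nat.ble 254976 i))
noncomputable def nd485 (i : Nat) : Nat := (Bool.rec (motive := fun _ => Nat) ((Bool.rec (motive := fun _ => Nat) (nl876 i) (nd486 i) (Nat.ble 250880 i))) ((Bool.rec (motive := fun _ => Nat) (nl879 i) (nd487 i) (Nat.ble 253952 i))) (Nat.ble 252928 i))
noncomputable def nd489 (i : Nat) : Nat := (Bool.rec (motive := fun _ => Nat) (nl883 i) (nl884 i) (Nat.ble 258048 i))
noncomputable def nd490 (i : Nat) : Nat := (Bool.rec (motive := fun _ => Nat) (nl885 i) (nl886 i) (Nat.ble 260096 i))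
noncomputable def nd491 (i : Nat) : Nat := (Bool.rec (motive := fun _ => Nat) (nl887 i) (nl888 i) (Nat.ble 262144 i))
noncomputable def nd488 (i : Nat) : Nat := (Bool.rec (motive := fun _ => Nat) ((Bool.rec (motive := fun _ => Nat) (nl882 i) (nd489 i) (Nat.ble 257024 i))) ((Bool.rec (motive := fun _ => Nat) (nd490 i) (nd491 i) (Nat.ble 261120 i))) (Nat.ble 259072 i))
noncomputable def nd477 (i : Nat) : Nat := (Bool.rec (motive := fun _ => Nat) ((Bool.rec (motive := fun _ => Nat) (nd478 i) (nd481 i) (Nat.ble 242688 i))) ((Bool.rec (motive := fun _ => Nat) (nd485 i) (nd488 i) (Nat.ble 256000 i))) (Nat.ble 249856 i))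
noncomputable def nd494 (i : Nat) : Nat := (Bool.rec (motive := fun _ => Nat) (nl890 i) (nl891 i) (Nat.ble 265216 i))
noncomputable def nd495 (i : Nat) : Nat := (Bool.rec (motive := fun _ => Nat) (nl893 i) (nl894 i) (Nat.ble 268288 i))
noncomputable def nd493 (i : Nat) : Nat := (Bool.rec (motive := fun _ => Nat) ((Bool.rec (motive := fun _ => Nat) (nl889 i) (nd494 i) (Nat.ble 264192 i))) ((Bool.rec (motive := fun _ => Nat) (nl892 i) (nd495 i) (Nat.ble 267264 i))) (Nat.ble 266240 i))
noncomputable def nd497 (i : Nat) : Nat := (Bool.rec (motive := fun _ => Nat) (nl896 i) (nl897 i) (Nat.ble 271360 i))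
noncomputable def nd498 (i : Nat) : Nat := (Bool.rec (motive := fun _ => Nat) (nl898 i) (nl899 i) (Nat.ble 273408 i))
noncomputable def nd499 (i : Nat) : Nat := (Bool.rec (motive := fun _ => Nat) (nl900 i) (nl901 i) (Nat.ble 275456 i))
noncomputable def nd496 (i : Nat) : Nat := (Bool.rec (motive := fun _ => Nat) ((Bool.rec (motive := fun _ => Nat) (nl895 i) (nd497 i) (Nat.ble 270336 i))) ((Bool.rec (motive := fun _ => Nat) (nd498 i) (nd499 i) (Nat.ble 274432 i))) (Nat.ble 272384 i))
noncomputable def nd501 (i : Nat) : Nat := (Bool.rec (motive := fun _ => Nat) (nl903 i) (nl904 i) (Nat.ble 278528 i))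
noncomputable def nd502 (i : Nat) : Nat := (Bool.rec (motive := fun _ => Nat) (nl906 i) (nl907 i) (Nat.ble 281600 i))
noncomputable def nd500 (i : Nat) : Nat := (Bool.rec (motive := fun _ => Nat) ((Bool.rec (motive := fun _ => Nat) (nl902 i) (nd501 i) (Nat.ble 277504 i))) ((Bool.rec (motive := fun _ => Nat) (nl905 i) (nd502 i) (Nat.ble 280576 i))) (Nat.ble 279552 i))
noncomputable def nd504 (i : Nat) : Nat := (Bool.rec (motive := fun _ => Nat) (nl909 i) (nl910 i) (Nat.ble 284672 i))
noncomputable def nd505 (i : Nat) : Nat := (Bool.rec (motive := fun _ => Nat) (nl911 i) (nl912 i) (Nat.ble 286720 i))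
noncomputable def nd506 (i : Nat) : Nat := (Bool.rec (motive := fun _ => Nat) (nl913 i) (nl914 i) (Nat.ble 288768 i))
noncomputable def nd503 (i : Nat) : Nat := (Bool.rec (motive := fun _ => Nat) ((Bool.rec (motive := fun _ => Nat) (nl908 i) (nd504 i) (Nat.ble 283648 i))) ((Bool.rec (motive := fun _ => Nat) (nd505 i) (nd506 i) (Nat.ble 287744 i))) (Nat.ble 285696 i))
noncomputable def nd492 (i : Nat) : Nat := (Bool.rec (motive := fun _ => Nat) ((Bool.rec (motive := fun _ => Nat) (nd493 i) (nd496 i) (Nat.ble 269312 i))) ((Bool.rec (motive := fun _ => Nat) (nd500 i) (nd503 i) (Nat.ble 282624 i))) (Nat.ble 276480 i))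
noncomputable def nd509 (i : Nat) : Nat := (Bool.rec (motive := fun _ => Nat) (nl916 i) (nl917 i) (Nat.ble 291840 i))
noncomputable def nd510 (i : Nat) : Nat := (Bool.rec (motive := fun _ => Nat) (nl919 i) (nl920 i) (Nat.ble 294912 i))
noncomputable def nd508 (i : Nat) : Nat := (Bool.rec (motive := fun _ => Nat) ((Bool.rec (motive := fun _ => Nat) (nl915 i) (nd509 i) (Nat.ble 290816 i))) ((Bool.rec (motive := fun _ => Nat) (nl918 i) (nd510 i) (Nat.ble 293888 i))) (Nat.ble 292864 i))
noncomputable def nd512 (i : Nat) : Nat := (Bool.rec (motive := fun _ => Nat) (nl922 i) (nl923 i) (Nat.ble 297984 i))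
noncomputable def nd513 (i : Nat) : Nat := (Bool.rec (motive := fun _ => Nat) (nl924 i) (nl925 i) (Nat.ble 300032 i))
noncomputable def nd514 (i : Nat) : Nat := (Bool.rec (motive := fun _ => Nat) (nl926 i) (nl927 i) (Nat.ble 302080 i))
noncomputable def nd511 (i : Nat) : Nat := (Bool.rec (motive := fun _ => Nat) ((Bool.rec (motive := fun _ => Nat) (nl921 i) (nd512 i) (Nat.ble 296960 i))) ((Bool.rec (motive := fun _ => Nat) (nd513 i) (nd514 i) (Nat.ble 301056 i))) (Nat.ble 299008 i))
noncomputable def nd516 (i : Nat) : Nat := (Bool.rec (motive := fun _ => Nat) (nl929 i) (nl930 i) (Nat.ble 305152 i))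
noncomputable def nd517 (i : Nat) : Nat := (Bool.rec (motive := fun _ => Nat) (nl932 i) (nl933 i) (Nat.ble 308224 i))
noncomputable def nd515 (i : Nat) : Nat := (Bool.rec (motive := fun _ => Nat) ((Bool.rec (motive := fun _ => Nat) (nl928 i) (nd516 i) (Nat.ble 304128 i))) ((Bool.rec (motive := fun _ => Nat) (nl931 i) (nd517 i) (Nat.ble 307200 i))) (Nat.ble 306176 i))
noncomputable def nd519 (i : Nat) : Nat := (Bool.rec (motive := fun _ => Nat) (nl935 i) (nl936 i) (Nat.ble 311296 i))
noncomputable def nd520 (i : Nat) : Nat := (Bool.rec (motive := fun _ => Nat) (nl937 i) (nl938 i) (Nat.ble 313344 i))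
noncomputable def nd521 (i : Nat) : Nat := (Bool.rec (motive := fun _ => Nat) (nl939 i) (nl940 i) (Nat.ble 315392 i))
noncomputable def nd518 (i : Nat) : Nat := (Bool.rec (motive := fun _ => Nat) ((Bool.rec (motive := fun _ => Nat) (nl934 i) (nd519 i) (Nat.ble 310272 i))) ((Bool.rec (motive := fun _ => Nat) (nd520 i) (nd521 i) (Nat.ble 314368 i))) (Nat.ble 312320 i))
noncomputable def nd507 (i : Nat) : Nat := (Bool.rec (motive := fun _ => Nat) ((Bool.rec (motive := fun _ => Nat) (nd508 i) (nd511 i) (Nat.ble 295936 i))) ((Bool.rec (motive := fun _ => Nat) (nd515 i) (nd518 i) (Nat.ble 309248 i))) (Nat.ble 303104 i))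
noncomputable def nd462 (i : Nat) : Nat := (Bool.rec (motive := fun _ => Nat) ((Bool.rec (motive := fun _ => Nat) (nd463 i) (nd477 i) (Nat.ble 236544 i))) ((Bool.rec (motive := fun _ => Nat) (nd492 i) (nd507 i) (Nat.ble 289792 i))) (Nat.ble 263168 i))
noncomputable def nd525 (i : Nat) : Nat := (Bool.rec (motive := fun _ => Nat) (nl942 i) (nl943 i) (Nat.ble 318464 i))
noncomputable def nd526 (i : Nat) : Nat := (Bool.rec (motive := fun _ => Nat) (nl945 i) (nl946 i) (Nat.ble 321536 i))
noncomputable def nd524 (i : Nat) : Nat := (Bool.rec (motive := fun _ => Nat) ((Bool.rec (motive := fun _ => Nat) (nl941 i) (nd525 i) (Nat.ble 317440 i))) ((Bool.rec (motive := fun _ => Nat) (nl944 i) (nd526 i) (Nat.ble 320512 i))) (Nat.ble 319488 i))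
noncomputable def nd528 (i : Nat) : Nat := (Bool.rec (motive := fun _ => Nat) (nl948 i) (nl949 i) (Nat.ble 324608 i))
noncomputable def nd529 (i : Nat) : Nat := (Bool.rec (motive := fun _ => Nat) (nl950 i) (nl951 i) (Nat.ble 326656 i))
noncomputable def nd530 (i : Nat) : Nat := (Bool.rec (motive := fun _ => Nat) (nl952 i) (nl953 i) (Nat.ble 328704 i))
noncomputable def nd527 (i : Nat) : Nat := (Bool.rec (motive := fun _ => Nat) ((Bool.rec (motive := fun _ => Nat) (nl947 i) (nd528 i) (Nat.ble 323584 i))) ((Bool.rec (motive := fun _ => Nat) (nd529 i) (nd530 i) (Nat.ble 327680 i))) (Nat.ble 325632 i))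
noncomputable def nd532 (i : Nat) : Nat := (Bool.rec (motive := fun _ => Nat) (nl955 i) (nl956 i) (Nat.ble 331776 i))
noncomputable def nd533 (i : Nat) : Nat := (Bool.rec (motive := fun _ => Nat) (nl958 i) (nl959 i) (Nat.ble 334848 i))
noncomputable def nd531 (i : Nat) : Nat := (Bool.rec (motive := fun _ => Nat) ((Bool.rec (motive := fun _ => Nat) (nl954 i) (nd532 i) (Nat.ble 330752 i))) ((Bool.rec (motive := fun _ => Nat) (nl957 i) (nd533 i) (Nat.ble 333824 i))) (Nat.ble 332800 i))
noncomputable def nd535 (i : Nat) : Nat := (Bool.rec (motive := fun _ => Nat) (nl961 i) (nl962 i) (Nat.ble 337920 i))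
noncomputable def nd536 (i : Nat) : Nat := (Bool.rec (motive := fun _ => Nat) (nl963 i) (nl964 i) (Nat.ble 339968 i))
noncomputable def nd537 (i : Nat) : Nat := (Bool.rec (motive := fun _ => Nat) (nl965 i) (nl966 i) (Nat.ble 342016 i))
noncomputable def nd534 (i : Nat) : Nat := (Bool.rec (motive := fun _ => Nat) ((Bool.rec (motive := fun _ => Nat) (nl960 i) (nd535 i) (Nat.ble 336896 i))) ((Bool.rec (motive := fun _ => Nat) (nd536 i) (nd537 i) (Nat.ble 340992 i))) (Nat.ble 338944 i))
noncomputable def nd523 (i : Nat) : Nat := (Bool.rec (motive := fun _ => Nat) ((Bool.rec (motive := fun _ => Nat) (nd524 i) (nd527 i) (Nat.ble 322560 i))) ((Bool.rec (motive := fun _ => Nat) (nd531 i) (nd534 i) (Nat.ble 335872 i))) (Nat.ble 329728 i))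
noncomputable def nd540 (i : Nat) : Nat := (Bool.rec (motive := fun _ => Nat) (nl968 i) (nl969 i) (Nat.ble 345088 i))
noncomputable def nd541 (i : Nat) : Nat := (Bool.rec (motive := fun _ => Nat) (nl971 i) (nl972 i) (Nat.ble 348160 i))
noncomputable def nd539 (i : Nat) : Nat := (Bool.rec (motive := fun _ => Nat) ((Bool.rec (motive := fun _ => Nat) (nl967 i) (nd540 i) (Nat.ble 344064 i))) ((Bool.rec (motive := fun _ => Nat) (nl970 i) (nd541 i) (Nat.ble 347136 i))) (Nat.ble 346112 i))
noncomputable def nd543 (i : Nat) : Nat := (Bool.rec (motive := fun _ => Nat) (nl974 i) (nl975 i) (Nat.ble 351232 i))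
noncomputable def nd544 (i : Nat) : Nat := (Bool.rec (motive := fun _ => Nat) (nl976 i) (nl977 i) (Nat.ble 353280 i))
noncomputable def nd545 (i : Nat) : Nat := (Bool.rec (motive := fun _ => Nat) (nl978 i) (nl979 i) (Nat.ble 355328 i))
noncomputable def nd542 (i : Nat) : Nat := (Bool.rec (motive := fun _ => Nat) ((Bool.rec (motive := fun _ => Nat) (nl973 i) (nd543 i) (Nat.ble 350208 i))) ((Bool.rec (motive := fun _ => Nat) (nd544 i) (nd545 i) (Nat.ble 354304 i))) (Nat.ble 352256 i))
noncomputable def nd547 (i : Nat) : Nat := (Bool.rec (motive := fun _ => Nat) (nl981 i) (nl982 i) (Nat.ble 358400 i))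
noncomputable def nd548 (i : Nat) : Nat := (Bool.rec (motive := fun _ => Nat) (nl984 i) (nl985 i) (Nat.ble 361472 i))
noncomputable def nd546 (i : Nat) : Nat := (Bool.rec (motive := fun _ => Nat) ((Bool.rec (motive := fun _ => Nat) (nl980 i) (nd547 i) (Nat.ble 357376 i))) ((Bool.rec (motive := fun _ => Nat) (nl983 i) (nd548 i) (Nat.ble 360448 i))) (Nat.ble 359424 i))
noncomputable def nd550 (i : Nat) : Nat := (Bool.rec (motive := fun _ => Nat) (nl987 i) (nl988 i) (Nat.ble 364544 i))
noncomputable def nd551 (i : Nat) : Nat := (Bool.rec (motive := fun _ => Nat) (nl989 i) (nl990 i) (Nat.ble 366592 i))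
noncomputable def nd552 (i : Nat) : Nat := (Bool.rec (motive := fun _ => Nat) (nl991 i) (nl992 i) (Nat.ble 368640 i))
noncomputable def nd549 (i : Nat) : Nat := (Bool.rec (motive := fun _ => Nat) ((Bool.rec (motive := fun _ => Nat) (nl986 i) (nd550 i) (Nat.ble 363520 i))) ((Bool.rec (motive := fun _ => Nat) (nd551 i) (nd552 i) (Nat.ble 367616 i))) (Nat.ble 365568 i))
noncomputable def nd538 (i : Nat) : Nat := (Bool.rec (motive := fun _ => Nat) ((Bool.rec (motive := fun _ => Nat) (nd539 i) (nd542 i) (Nat.ble 349184 i))) ((Bool.rec (motive := fun _ => Nat) (nd546 i) (nd549 i) (Nat.ble 362496 i))) (Nat.ble 356352 i))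
noncomputable def nd555 (i : Nat) : Nat := (Bool.rec (motive := fun _ => Nat) (nl994 i) (nl995 i) (Nat.ble 371712 i))
noncomputable def nd556 (i : Nat) : Nat := (Bool.rec (motive := fun _ => Nat) (nl997 i) (nl998 i) (Nat.ble 374784 i))
noncomputable def nd554 (i : Nat) : Nat := (Bool.rec (motive := fun _ => Nat) ((Bool.rec (motive := fun _ => Nat) (nl993 i) (nd555 i) (Nat.ble 370688 i))) ((Bool.rec (motive := fun _ => Nat) (nl996 i) (nd556 i) (Nat.ble 373760 i))) (Nat.ble 372736 i))
noncomputable def nd558 (i : Nat) : Nat := (Bool.rec (motive := fun _ => Nat) (nl1000 i) (nl1001 i) (Nat.ble 377856 i))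
noncomputable def nd559 (i : Nat) : Nat := (Bool.rec (motive := fun _ => Nat) (nl1002 i) (nl1003 i) (Nat.ble 379904 i))
noncomputable def nd560 (i : Nat) : Nat := (Bool.rec (motive := fun _ => Nat) (nl1004 i) (nl1005 i) (Nat.ble 381952 i))
noncomputable def nd557 (i : Nat) : Nat := (Bool.rec (motive := fun _ => Nat) ((Bool.rec (motive := fun _ => Nat) (nl999 i) (nd558 i) (Nat.ble 376832 i))) ((Bool.rec (motive := fun _ => Nat) (nd559 i) (nd560 i) (Nat.ble 380928 i))) (Nat.ble 378880 i))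
noncomputable def nd562 (i : Nat) : Nat := (Bool.rec (motive := fun _ => Nat) (nl1007 i) (nl1008 i) (Nat.ble 385024 i))
noncomputable def nd563 (i : Nat) : Nat := (Bool.rec (motive := fun _ => Nat) (nl1010 i) (nl1011 i) (Nat.ble 388096 i))
noncomputable def nd561 (i : Nat) : Nat := (Bool.rec (motive := fun _ => Nat) ((Bool.rec (motive := fun _ => Nat) (nl1006 i) (nd562 i) (Nat.ble 384000 i))) ((Bool.rec (motive := fun _ => Nat) (nl1009 i) (nd563 i) (Nat.ble 387072 i))) (Nat.ble 386048 i))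
noncomputable def nd565 (i : Nat) : Nat := (Bool.rec (motive := fun _ => Nat) (nl1013 i) (nl1014 i) (Nat.ble 391168 i))
noncomputable def nd566 (i : Nat) : Nat := (Bool.rec (motive := fun _ => Nat) (nl1015 i) (nl1016 i) (Nat.ble 393216 i))
noncomputable def nd567 (i : Nat) : Nat := (Bool.rec (motive := fun _ => Nat) (nl1017 i) (nl1018 i) (Nat.ble 395264 i))
noncomputable def nd564 (i : Nat) : Nat := (Bool.rec (motive := fun _ => Nat) ((Bool.rec (motive := fun _ => Nat) (nl1012 i) (nd565 i) (Nat.ble 390144 i))) ((Bool.rec (motive := fun _ => Nat) (nd566 i) (nd567 i) (Nat.ble 394240 i))) (Nat.ble 392192 i))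
noncomputable def nd553 (i : Nat) : Nat := (Bool.rec (motive := fun _ => Nat) ((Bool.rec (motive := fun _ => Nat) (nd554 i) (nd557 i) (Nat.ble 375808 i))) ((Bool.rec (motive := fun _ => Nat) (nd561 i) (nd564 i) (Nat.ble 389120 i))) (Nat.ble 382976 i))
noncomputable def nd570 (i : Nat) : Nat := (Bool.rec (motive := fun _ => Nat) (nl1020 i) (nl1021 i) (Nat.ble 398336 i))
noncomputable def nd571 (i : Nat) : Nat := (Bool.rec (motive := fun _ => Nat) (nl1023 i) (nl1024 i) (Nat.ble 401408 i))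
noncomputable def nd569 (i : Nat) : Nat := (Bool.rec (motive := fun _ => Nat) ((Bool.rec (motive := fun _ => Nat) (nl1019 i) (nd570 i) (Nat.ble 397312 i))) ((Bool.rec (motive := fun _ => Nat) (nl1022 i) (nd571 i) (Nat.ble 400384 i))) (Nat.ble 399360 i))
noncomputable def nd573 (i : Nat) : Nat := (Bool.rec (motive := fun _ => Nat) (nl1026 i) (nl1027 i) (Nat.ble 404480 i))
noncomputable def nd574 (i : Nat) : Nat := (Bool.rec (motive := fun _ => Nat) (nl1028 i) (nl1029 i) (Nat.ble 406528 i))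
noncomputable def nd575 (i : Nat) : Nat := (Bool.rec (motive := fun _ => Nat) (nl1030 i) (nl1031 i) (Nat.ble 408576 i))
noncomputable def nd572 (i : Nat) : Nat := (Bool.rec (motive := fun _ => Nat) ((Bool.rec (motive := fun _ => Nat) (nl1025 i) (nd573 i) (Nat.ble 403456 i))) ((Bool.rec (motive := fun _ => Nat) (nd574 i) (nd575 i) (Nat.ble 407552 i))) (Nat.ble 405504 i))
noncomputable def nd577 (i : Nat) : Nat := (Bool.rec (motive := fun _ => Nat) (nl1033 i) (nl1034 i) (Nat.ble 411648 i))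
noncomputable def nd578 (i : Nat) : Nat := (Bool.rec (motive := fun _ => Nat) (nl1036 i) (nl1037 i) (Nat.ble 414720 i))
noncomputable def nd576 (i : Nat) : Nat := (Bool.rec (motive := fun _ => Nat) ((Bool.rec (motive := fun _ => Nat) (nl1032 i) (nd577 i) (Nat.ble 410624 i))) ((Bool.rec (motive := fun _ => Nat) (nl1035 i) (nd578 i) (Nat.ble 413696 i))) (Nat.ble 412672 i))
noncomputable def nd580 (i : Nat) : Nat := (Bool.rec (motive := fun _ => Nat) (nl1039 i) (nl1040 i) (Nat.ble 417792 i))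
noncomputable def nd581 (i : Nat) : Nat := (Bool.rec (motive := fun _ => Nat) (nl1041 i) (nl1042 i) (Nat.ble 419840 i))
noncomputable def nd582 (i : Nat) : Nat := (Bool.rec (motive := fun _ => Nat) (nl1043 i) (nl1044 i) (Nat.ble 421888 i))
noncomputable def nd579 (i : Nat) : Nat := (Bool.rec (motive := fun _ => Nat) ((Bool.rec (motive := fun _ => Nat) (nl1038 i) (nd580 i) (Nat.ble 416768 i))) ((Bool.rec (motive := fun _ => Nat) (nd581 i) (nd582 i) (Nat.ble 420864 i))) (Nat.ble 418816 i))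
noncomputable def nd568 (i : Nat) : Nat := (Bool.rec (motive := fun _ => Nat) ((Bool.rec (motive := fun _ => Nat) (nd569 i) (nd572 i) (Nat.ble 402432 i))) ((Bool.rec (motive := fun _ => Nat) (nd576 i) (nd579 i) (Nat.ble 415744 i))) (Nat.ble 409600 i))
noncomputable def nd522 (i : Nat) : Nat := (Bool.rec (motive := fun _ => Nat) ((Bool.rec (motive := fun _ => Nat) (nd523 i) (nd538 i) (Nat.ble 343040 i))) ((Bool.rec (motive := fun _ => Nat) (nd553 i) (nd568 i) (Nat.ble 396288 i))) (Nat.ble 369664 i))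
noncomputable def nd341 (i : Nat) : Nat := (Bool.rec (motive := fun _ => Nat) ((Bool.rec (motive := fun _ => Nat) (nd342 i) (nd402 i) (Nat.ble 105472 i))) ((Bool.rec (motive := fun _ => Nat) (nd462 i) (nd522 i) (Nat.ble 316416 i))) (Nat.ble 210944 i))
noncomputable def nd587 (i : Nat) : Nat := (Bool.rec (motive := fun _ => Nat) (nl1046 i) (nl1047 i) (Nat.ble 2048 i))
noncomputable def nd588 (i : Nat) : Nat := (Bool.rec (motive := fun _ => Nat) (nl1049 i) (nl1050 i) (Nat.ble 5120 i))
noncomputable def nd586 (i : Nat) : Nat := (Bool.rec (motive := fun _ => Nat) ((Bool.rec (motive := fun _ => Nat) (nl1045 i) (nd587 i) (Nat.ble 1024 i))) ((Bool.rec (motive := fun _ => Nat) (nl1048 i) (nd588 i) (Nat.ble 4096 i))) (Nat.ble 3072 i))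
noncomputable def nd590 (i : Nat) : Nat := (Bool.rec (motive := fun _ => Nat) (nl1052 i) (nl1053 i) (Nat.ble 8192 i))
noncomputable def nd591 (i : Nat) : Nat := (Bool.rec (motive := fun _ => Nat) (nl1055 i) (nl1056 i) (Nat.ble 11264 i))
noncomputable def nd589 (i : Nat) : Nat := (Bool.rec (motive := fun _ => Nat) ((Bool.rec (motive := fun _ => Nat) (nl1051 i) (nd590 i) (Nat.ble 7168 i))) ((Bool.rec (motive := fun _ => Nat) (nl1054 i) (nd591 i) (Nat.ble 10240 i))) (Nat.ble 9216 i))
noncomputable def nd593 (i : Nat) : Nat := (Bool.rec (motive := fun _ => Nat) (nl1058 i) (nl1059 i) (Nat.ble 14336 i))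
noncomputable def nd594 (i : Nat) : Nat := (Bool.rec (motive := fun _ => Nat) (nl1061 i) (nl1062 i) (Nat.ble 17408 i))
noncomputable def nd592 (i : Nat) : Nat := (Bool.rec (motive := fun _ => Nat) ((Bool.rec (motive := fun _ => Nat) (nl1057 i) (nd593 i) (Nat.ble 13312 i))) ((Bool.rec (motive := fun _ => Nat) (nl1060 i) (nd594 i) (Nat.ble 16384 i))) (Nat.ble 15360 i))
noncomputable def nd596 (i : Nat) : Nat := (Bool.rec (motive := fun _ => Nat) (nl1064 i) (nl1065 i) (Nat.ble 20480 i))
noncomputable def nd597 (i : Nat) : Nat := (Bool.rec (motive := fun _ => Nat) (nl1067 i) (nl1068 i) (Nat.ble 23552 i))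
noncomputable def nd595 (i : Nat) : Nat := (Bool.rec (motive := fun _ => Nat) ((Bool.rec (motive := fun _ => Nat) (nl1063 i) (nd596 i) (Nat.ble 19456 i))) ((Bool.rec (motive := fun _ => Nat) (nl1066 i) (nd597 i) (Nat.ble 22528 i))) (Nat.ble 21504 i))
noncomputable def nd585 (i : Nat) : Nat := (Bool.rec (motive := fun _ => Nat) ((Bool.rec (motive := fun _ => Nat) (nd586 i) (nd589 i) (Nat.ble 6144 i))) ((Bool.rec (motive := fun _ => Nat) (nd592 i) (nd595 i) (Nat.ble 18432 i))) (Nat.ble 12288 i))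
noncomputable def nd600 (i : Nat) : Nat := (Bool.rec (motive := fun _ => Nat) (nl1070 i) (nl1071 i) (Nat.ble 26624 i))
noncomputable def nd601 (i : Nat) : Nat := (Bool.rec (motive := fun _ => Nat) (nl1073 i) (nl1074 i) (Nat.ble 29696 i))
noncomputable def nd599 (i : Nat) : Nat := (Bool.rec (motive := fun _ => Nat) ((Bool.rec (motive := fun _ => Nat) (nl1069 i) (nd600 i) (Nat.ble 25600 i))) ((Bool.rec (motive := fun _ => Nat) (nl1072 i) (nd601 i) (Nat.ble 28672 i))) (Nat.ble 27648 i))
noncomputable def nd603 (i : Nat) : Nat := (Bool.rec (motive := fun _ => Nat) (nl1076 i) (nl1077 i) (Nat.ble 32768 i))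
noncomputable def nd604 (i : Nat) : Nat := (Bool.rec (motive := fun _ => Nat) (nl1079 i) (nl1080 i) (Nat.ble 35840 i))
noncomputable def nd602 (i : Nat) : Nat := (Bool.rec (motive := fun _ => Nat) ((Bool.rec (motive := fun _ => Nat) (nl1075 i) (nd603 i) (Nat.ble 31744 i))) ((Bool.rec (motive := fun _ => Nat) (nl1078 i) (nd604 i) (Nat.ble 34816 i))) (Nat.ble 33792 i))
noncomputable def nd606 (i : Nat) : Nat := (Bool.rec (motive := fun _ => Nat) (nl1082 i) (nl1083 i) (Nat.ble 38912 i))
noncomputable def nd607 (i : Nat) : Nat := (Bool.rec (motive := fun _ => Nat) (nl1085 i) (nl1086 i) (Nat.ble 41984 i))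
noncomputable def nd605 (i : Nat) : Nat := (Bool.rec (motive := fun _ => Nat) ((Bool.rec (motive := fun _ => Nat) (nl1081 i) (nd606 i) (Nat.ble 37888 i))) ((Bool.rec (motive := fun _ => Nat) (nl1084 i) (nd607 i) (Nat.ble 40960 i))) (Nat.ble 39936 i))
noncomputable def nd609 (i : Nat) : Nat := (Bool.rec (motive := fun _ => Nat) (nl1088 i) (nl1089 i) (Nat.ble 45056 i))
noncomputable def nd610 (i : Nat) : Nat := (Bool.rec (motive := fun _ => Nat) (nl1091 i) (nl1092 i) (Nat.ble 48128 i))
noncomputable def nd608 (i : Nat) : Nat := (Bool.rec (motive := fun _ => Nat) ((Bool.rec (motive := fun _ => Nat) (nl1087 i) (nd609 i) (Nat.ble 44032 i))) ((Bool.rec (motive := fun _ => Nat) (nl1090 i) (nd610 i) (Nat.ble 47104 i))) (Nat.ble 46080 i))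
noncomputable def nd598 (i : Nat) : Nat := (Bool.rec (motive := fun _ => Nat) ((Bool.rec (motive := fun _ => Nat) (nd599 i) (nd602 i) (Nat.ble 30720 i))) ((Bool.rec (motive := fun _ => Nat) (nd605 i) (nd608 i) (Nat.ble 43008 i))) (Nat.ble 36864 i))
noncomputable def nd613 (i : Nat) : Nat := (Bool.rec (motive := fun _ => Nat) (nl1094 i) (nl1095 i) (Nat.ble 51200 i))
noncomputable def nd614 (i : Nat) : Nat := (Bool.rec (motive := fun _ => Nat) (nl1097 i) (nl1098 i) (Nat.ble 54272 i))
noncomputable def nd612 (i : Nat) : Nat := (Bool.rec (motive := fun _ => Nat) ((Bool.rec (motive := fun _ => Nat) (nl1093 i) (nd613 i) (Nat.ble 50176 i))) ((Bool.rec (motive := fun _ => Nat) (nl1096 i) (nd614 i) (Nat.ble 53248 i))) (Nat.ble 52224 i))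
noncomputable def nd616 (i : Nat) : Nat := (Bool.rec (motive := fun _ => Nat) (nl1100 i) (nl1101 i) (Nat.ble 57344 i))
noncomputable def nd617 (i : Nat) : Nat := (Bool.rec (motive := fun _ => Nat) (nl1103 i) (nl1104 i) (Nat.ble 60416 i))
noncomputable def nd615 (i : Nat) : Nat := (Bool.rec (motive := fun _ => Nat) ((Bool.rec (motive := fun _ => Nat) (nl1099 i) (nd616 i) (Nat.ble 56320 i))) ((Bool.rec (motive := fun _ => Nat) (nl1102 i) (nd617 i) (Nat.ble 59392 i))) (Nat.ble 58368 i))
noncomputable def nd619 (i : Nat) : Nat := (Bool.rec (motive := fun _ => Nat) (nl1106 i) (nl1107 i) (Nat.ble 63488 i))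
noncomputable def nd620 (i : Nat) : Nat := (Bool.rec (motive := fun _ => Nat) (nl1109 i) (nl1110 i) (Nat.ble 66560 i))
noncomputable def nd618 (i : Nat) : Nat := (Bool.rec (motive := fun _ => Nat) ((Bool.rec (motive := fun _ => Nat) (nl1105 i) (nd619 i) (Nat.ble 62464 i))) ((Bool.rec (motive := fun _ => Nat) (nl1108 i) (nd620 i) (Nat.ble 65536 i))) (Nat.ble 64512 i))
noncomputable def nd622 (i : Nat) : Nat := (Bool.rec (motive := fun _ => Nat) (nl1112 i) (nl1113 i) (Nat.ble 69632 i))
noncomputable def nd623 (i : Nat) : Nat := (Bool.rec (motive := fun _ => Nat) (nl1115 i) (nl1116 i) (Nat.ble 72704 i))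
noncomputable def nd621 (i : Nat) : Nat := (Bool.rec (motive := fun _ => Nat) ((Bool.rec (motive := fun _ => Nat) (nl1111 i) (nd622 i) (Nat.ble 68608 i))) ((Bool.rec (motive := fun _ => Nat) (nl1114 i) (nd623 i) (Nat.ble 71680 i))) (Nat.ble 70656 i))
noncomputable def nd611 (i : Nat) : Nat := (Bool.rec (motive := fun _ => Nat) ((Bool.rec (motive := fun _ => Nat) (nd612 i) (nd615 i) (Nat.ble 55296 i))) ((Bool.rec (motive := fun _ => Nat) (nd618 i) (nd621 i) (Nat.ble 67584 i))) (Nat.ble 61440 i))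
noncomputable def nd626 (i : Nat) : Nat := (Bool.rec (motive := fun _ => Nat) (nl1118 i) (nl1119 i) (Nat.ble 75776 i))
noncomputable def nd627 (i : Nat) : Nat := (Bool.rec (motive := fun _ => Nat) (nl1121 i) (nl1122 i) (Nat.ble 78848 i))
noncomputable def nd625 (i : Nat) : Nat := (Bool.rec (motive := fun _ => Nat) ((Bool.rec (motive := fun _ => Nat) (nl1117 i) (nd626 i) (Nat.ble 74752 i))) ((Bool.rec (motive := fun _ => Nat) (nl1120 i) (nd627 i) (Nat.ble 77824 i))) (Nat.ble 76800 i))
noncomputable def nd629 (i : Nat) : Nat := (Bool.rec (motive := fun _ => Nat) (nl1124 i) (nl1125 i) (Nat.ble 81920 i))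
noncomputable def nd630 (i : Nat) : Nat := (Bool.rec (motive := fun _ => Nat) (nl1127 i) (nl1128 i) (Nat.ble 84992 i))
noncomputable def nd628 (i : Nat) : Nat := (Bool.rec (motive := fun _ => Nat) ((Bool.rec (motive := fun _ => Nat) (nl1123 i) (nd629 i) (Nat.ble 80896 i))) ((Bool.rec (motive := fun _ => Nat) (nl1126 i) (nd630 i) (Nat.ble 83968 i))) (Nat.ble 82944 i))
noncomputable def nd632 (i : Nat) : Nat := (Bool.rec (motive := fun _ => Nat) (nl1130 i) (nl1131 i) (Nat.ble 88064 i))
noncomputable def nd633 (i : Nat) : Nat := (Bool.rec (motive := fun _ => Nat) (nl1133 i) (nl1134 i) (Nat.ble 91136 i))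
noncomputable def nd631 (i : Nat) : Nat := (Bool.rec (motive := fun _ => Nat) ((Bool.rec (motive := fun _ => Nat) (nl1129 i) (nd632 i) (Nat.ble 87040 i))) ((Bool.rec (motive := fun _ => Nat) (nl1132 i) (nd633 i) (Nat.ble 90112 i))) (Nat.ble 89088 i))
noncomputable def nd635 (i : Nat) : Nat := (Bool.rec (motive := fun _ => Nat) (nl1136 i) (nl1137 i) (Nat.ble 94208 i))
noncomputable def nd636 (i : Nat) : Nat := (Bool.rec (motive := fun _ => Nat) (nl1139 i) (nl1140 i) (Nat.ble 97280 i))
noncomputable def nd634 (i : Nat) : Nat := (Bool.rec (motive := fun _ => Nat) ((Bool.rec (motive := fun _ => Nat) (nl1135 i) (nd635 i) (Nat.ble 93184 i))) ((Bool.rec (motive := fun _ => Nat) (nl1138 i) (nd636 i) (Nat.ble 96256 i))) (Nat.ble 95232 i))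
noncomputable def nd624 (i : Nat) : Nat := (Bool.rec (motive := fun _ => Nat) ((Bool.rec (motive := fun _ => Nat) (nd625 i) (nd628 i) (Nat.ble 79872 i))) ((Bool.rec (motive := fun _ => Nat) (nd631 i) (nd634 i) (Nat.ble 92160 i))) (Nat.ble 86016 i))
noncomputable def nd584 (i : Nat) : Nat := (Bool.rec (motive := fun _ => Nat) ((Bool.rec (motive := fun _ => Nat) (nd585 i) (nd598 i) (Nat.ble 24576 i))) ((Bool.rec (motive := fun _ => Nat) (nd611 i) (nd624 i) (Nat.ble 73728 i))) (Nat.ble 49152 i))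
noncomputable def nd640 (i : Nat) : Nat := (Bool.rec (motive := fun _ => Nat) (nl1142 i) (nl1143 i) (Nat.ble 100352 i))
noncomputable def nd641 (i : Nat) : Nat := (Bool.rec (motive := fun _ => Nat) (nl1145 i) (nl1146 i) (Nat.ble 103424 i))
noncomputable def nd639 (i : Nat) : Nat := (Bool.rec (motive := fun _ => Nat) ((Bool.rec (motive := fun _ => Nat) (nl1141 i) (nd640 i) (Nat.ble 99328 i))) ((Bool.rec (motive := fun _ => Nat) (nl1144 i) (nd641 i) (Nat.ble 102400 i))) (Nat.ble 101376 i))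
noncomputable def nd643 (i : Nat) : Nat := (Bool.rec (motive := fun _ => Nat) (nl1148 i) (nl1149 i) (Nat.ble 106496 i))
noncomputable def nd644 (i : Nat) : Nat := (Bool.rec (motive := fun _ => Nat) (nl1151 i) (nl1152 i) (Nat.ble 109568 i))
noncomputable def nd642 (i : Nat) : Nat := (Bool.rec (motive := fun _ => Nat) ((Bool.rec (motive := fun _ => Nat) (nl1147 i) (nd643 i) (Nat.ble 105472 i))) ((Bool.rec (motive := fun _ => Nat) (nl1150 i) (nd644 i) (Nat.ble 108544 i))) (Nat.ble 107520 i))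
noncomputable def nd646 (i : Nat) : Nat := (Bool.rec (motive := fun _ => Nat) (nl1154 i) (nl1155 i) (Nat.ble 112640 i))
noncomputable def nd647 (i : Nat) : Nat := (Bool.rec (motive := fun _ => Nat) (nl1157 i) (nl1158 i) (Nat.ble 115712 i))
noncomputable def nd645 (i : Nat) : Nat := (Bool.rec (motive := fun _ => Nat) ((Bool.rec (motive := fun _ => Nat) (nl1153 i) (nd646 i) (Nat.ble 111616 i))) ((Bool.rec (motive := fun _ => Nat) (nl1156 i) (nd647 i) (Nat.ble 114688 i))) (Nat.ble 113664 i))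
noncomputable def nd649 (i : Nat) : Nat := (Bool.rec (motive := fun _ => Nat) (nl1160 i) (nl1161 i) (Nat.ble 118784 i))
noncomputable def nd650 (i : Nat) : Nat := (Bool.rec (motive := fun _ => Nat) (nl1163 i) (nl1164 i) (Nat.ble 121856 i))
noncomputable def nd648 (i : Nat) : Nat := (Bool.rec (motive := fun _ => Nat) ((Bool.rec (motive := fun _ => Nat) (nl1159 i) (nd649 i) (Nat.ble 117760 i))) ((Bool.rec (motive := fun _ => Nat) (nl1162 i) (nd650 i) (Nat.ble 120832 i))) (Nat.ble 119808 i))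
noncomputable def nd638 (i : Nat) : Nat := (Bool.rec (motive := fun _ => Nat) ((Bool.rec (motive := fun _ => Nat) (nd639 i) (nd642 i) (Nat.ble 104448 i))) ((Bool.rec (motive := fun _ => Nat) (nd645 i) (nd648 i) (Nat.ble 116736 i))) (Nat.ble 110592 i))
noncomputable def nd653 (i : Nat) : Nat := (Bool.rec (motive := fun _ => Nat) (nl1166 i) (nl1167 i) (Nat.ble 124928 i))
noncomputable def nd654 (i : Nat) : Nat := (Bool.rec (motive := fun _ => Nat) (nl1169 i) (nl1170 i) (Nat.ble 128000 i))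
noncomputable def nd652 (i : Nat) : Nat := (Bool.rec (motive := fun _ => Nat) ((Bool.rec (motive := fun _ => Nat) (nl1165 i) (nd653 i) (Nat.ble 123904 i))) ((Bool.rec (motive := fun _ => Nat) (nl1168 i) (nd654 i) (Nat.ble 126976 i))) (Nat.ble 125952 i))
noncomputable def nd656 (i : Nat) : Nat := (Bool.rec (motive := fun _ => Nat) (nl1172 i) (nl1173 i) (Nat.ble 131072 i))
noncomputable def nd657 (i : Nat) : Nat := (Bool.rec (motive := fun _ => Nat) (nl1175 i) (nl1176 i) (Nat.ble 134144 i))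
noncomputable def nd655 (i : Nat) : Nat := (Bool.rec (motive := fun _ => Nat) ((Bool.rec (motive := fun _ => Nat) (nl1171 i) (nd656 i) (Nat.ble 130048 i))) ((Bool.rec (motive := fun _ => Nat) (nl1174 i) (nd657 i) (Nat.ble 133120 i))) (Nat.ble 132096 i))
noncomputable def nd659 (i : Nat) : Nat := (Bool.rec (motive := fun _ => Nat) (nl1178 i) (nl1179 i) (Nat.ble 137216 i))
noncomputable def nd660 (i : Nat) : Nat := (Bool.rec (motive := fun _ => Nat) (nl1181 i) (nl1182 i) (Nat.ble 140288 i))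
noncomputable def nd658 (i : Nat) : Nat := (Bool.rec (motive := fun _ => Nat) ((Bool.rec (motive := fun _ => Nat) (nl1177 i) (nd659 i) (Nat.ble 136192 i))) ((Bool.rec (motive := fun _ => Nat) (nl1180 i) (nd660 i) (Nat.ble 139264 i))) (Nat.ble 138240 i))
noncomputable def nd662 (i : Nat) : Nat := (Bool.rec (motive := fun _ => Nat) (nl1184 i) (nl1185 i) (Nat.ble 143360 i))
noncomputable def nd663 (i : Nat) : Nat := (Bool.rec (motive := fun _ => Nat) (nl1187 i) (nl1188 i) (Nat.ble 146432 i))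
noncomputable def nd661 (i : Nat) : Nat := (Bool.rec (motive := fun _ => Nat) ((Bool.rec (motive := fun _ => Nat) (nl1183 i) (nd662 i) (Nat.ble 142336 i))) ((Bool.rec (motive := fun _ => Nat) (nl1186 i) (nd663 i) (Nat.ble 145408 i))) (Nat.ble 144384 i))
noncomputable def nd651 (i : Nat) : Nat := (Bool.rec (motive := fun _ => Nat) ((Bool.rec (motive := fun _ => Nat) (nd652 i) (nd655 i) (Nat.ble 129024 i))) ((Bool.rec (motive := fun _ => Nat) (nd658 i) (nd661 i) (Nat.ble 141312 i))) (Nat.ble 135168 i))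
noncomputable def nd666 (i : Nat) : Nat := (Bool.rec (motive := fun _ => Nat) (nl1190 i) (nl1191 i) (Nat.ble 149504 i))
noncomputable def nd667 (i : Nat) : Nat := (Bool.rec (motive := fun _ => Nat) (nl1193 i) (nl1194 i) (Nat.ble 152576 i))
noncomputable def nd665 (i : Nat) : Nat := (Bool.rec (motive := fun _ => Nat) ((Bool.rec (motive := fun _ => Nat) (nl1189 i) (nd666 i) (Nat.ble 148480 i))) ((Bool.rec (motive := fun _ => Nat) (nl1192 i) (nd667 i) (Nat.ble 151552 i))) (Nat.ble 150528 i))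
noncomputable def nd669 (i : Nat) : Nat := (Bool.rec (motive := fun _ => Nat) (nl1196 i) (nl1197 i) (Nat.ble 155648 i))
noncomputable def nd670 (i : Nat) : Nat := (Bool.rec (motive := fun _ => Nat) (nl1199 i) (nl1200 i) (Nat.ble 158720 i))
noncomputable def nd668 (i : Nat) : Nat := (Bool.rec (motive := fun _ => Nat) ((Bool.rec (motive := fun _ => Nat) (nl1195 i) (nd669 i) (Nat.ble 154624 i))) ((Bool.rec (motive := fun _ => Nat) (nl1198 i) (nd670 i) (Nat.ble 157696 i))) (Nat.ble 156672 i))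
noncomputable def nd672 (i : Nat) : Nat := (Bool.rec (motive := fun _ => Nat) (nl1202 i) (nl1203 i) (Nat.ble 161792 i))
noncomputable def nd673 (i : Nat) : Nat := (Bool.rec (motive := fun _ => Nat) (nl1205 i) (nl1206 i) (Nat.ble 164864 i))
noncomputable def nd671 (i : Nat) : Nat := (Bool.rec (motive := fun _ => Nat) ((Bool.rec (motive := fun _ => Nat) (nl1201 i) (nd672 i) (Nat.ble 160768 i))) ((Bool.rec (motive := fun _ => Nat) (nl1204 i) (nd673 i) (Nat.ble 163840 i))) (Nat.ble 162816 i))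
noncomputable def nd675 (i : Nat) : Nat := (Bool.rec (motive := fun _ => Nat) (nl1208 i) (nl1209 i) (Nat.ble 167936 i))
noncomputable def nd676 (i : Nat) : Nat := (Bool.rec (motive := fun _ => Nat) (nl1211 i) (nl1212 i) (Nat.ble 171008 i))
noncomputable def nd674 (i : Nat) : Nat := (Bool.rec (motive := fun _ => Nat) ((Bool.rec (motive := fun _ => Nat) (nl1207 i) (nd675 i) (Nat.ble 166912 i))) ((Bool.rec (motive := fun _ => Nat) (nl1210 i) (nd676 i) (Nat.ble 169984 i))) (Nat.ble 168960 i))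
noncomputable def nd664 (i : Nat) : Nat := (Bool.rec (motive := fun _ => Nat) ((Bool.rec (motive := fun _ => Nat) (nd665 i) (nd668 i) (Nat.ble 153600 i))) ((Bool.rec (motive := fun _ => Nat) (nd671 i) (nd674 i) (Nat.ble 165888 i))) (Nat.ble 159744 i))
noncomputable def nd679 (i : Nat) : Nat := (Bool.rec (motive := fun _ => Nat) (nl1214 i) (nl1215 i) (Nat.ble 174080 i))
noncomputable def nd680 (i : Nat) : Nat := (Bool.rec (motive := fun _ => Nat) (nl1217 i) (nl1218 i) (Nat.ble 177152 i))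
noncomputable def nd678 (i : Nat) : Nat := (Bool.rec (motive := fun _ => Nat) ((Bool.rec (motive := fun _ => Nat) (nl1213 i) (nd679 i) (Nat.ble 173056 i))) ((Bool.rec (motive := fun _ => Nat) (nl1216 i) (nd680 i) (Nat.ble 176128 i))) (Nat.ble 175104 i))
noncomputable def nd682 (i : Nat) : Nat := (Bool.rec (motive := fun _ => Nat) (nl1220 i) (nl1221 i) (Nat.ble 180224 i))
noncomputable def nd683 (i : Nat) : Nat := (Bool.rec (motive := fun _ => Nat) (nl1223 i) (nl1224 i) (Nat.ble 183296 i))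
noncomputable def nd681 (i : Nat) : Nat := (Bool.rec (motive := fun _ => Nat) ((Bool.rec (motive := fun _ => Nat) (nl1219 i) (nd682 i) (Nat.ble 179200 i))) ((Bool.rec (motive := fun _ => Nat) (nl1222 i) (nd683 i) (Nat.ble 182272 i))) (Nat.ble 181248 i))
noncomputable def nd685 (i : Nat) : Nat := (Bool.rec (motive := fun _ => Nat) (nl1226 i) (nl1227 i) (Nat.ble 186368 i))
noncomputable def nd686 (i : Nat) : Nat := (Bool.rec (motive := fun _ => Nat) (nl1229 i) (nl1230 i) (Nat.ble 189440 i))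
noncomputable def nd684 (i : Nat) : Nat := (Bool.rec (motive := fun _ => Nat) ((Bool.rec (motive := fun _ => Nat) (nl1225 i) (nd685 i) (Nat.ble 185344 i))) ((Bool.rec (motive := fun _ => Nat) (nl1228 i) (nd686 i) (Nat.ble 188416 i))) (Nat.ble 187392 i))
noncomputable def nd688 (i : Nat) : Nat := (Bool.rec (motive := fun _ => Nat) (nl1232 i) (nl1233 i) (Nat.ble 192512 i))
noncomputable def nd689 (i : Nat) : Nat := (Bool.rec (motive := fun _ => Nat) (nl1234 i) (nl1235 i) (Nat.ble 194560 i))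
noncomputable def nd690 (i : Nat) : Nat := (Bool.rec (motive := fun _ => Nat) (nl1236 i) (nl1237 i) (Nat.ble 196608 i))
noncomputable def nd687 (i : Nat) : Nat := (Bool.rec (motive := fun _ => Nat) ((Bool.rec (motive := fun _ => Nat) (nl1231 i) (nd688 i) (Nat.ble 191488 i))) ((Bool.rec (motive := fun _ => Nat) (nd689 i) (nd690 i) (Nat.ble 195584 i))) (Nat.ble 193536 i))
noncomputable def nd677 (i : Nat) : Nat := (Bool.rec (motive := fun _ => Nat) ((Bool.rec (motive := fun _ => Nat) (nd678 i) (nd681 i) (Nat.ble 178176 i))) ((Bool.rec (motive := fun _ => Nat) (nd684 i) (nd687 i) (Nat.ble 190464 i))) (Nat.ble 184320 i))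
noncomputable def nd637 (i : Nat) : Nat := (Bool.rec (motive := fun _ => Nat) ((Bool.rec (motive := fun _ => Nat) (nd638 i) (nd651 i) (Nat.ble 122880 i))) ((Bool.rec (motive := fun _ => Nat) (nd664 i) (nd677 i) (Nat.ble 172032 i))) (Nat.ble 147456 i))
noncomputable def nd694 (i : Nat) : Nat := (Bool.rec (motive := fun _ => Nat) (nl1239 i) (nl1240 i) (Nat.ble 199680 i))
noncomputable def nd695 (i : Nat) : Nat := (Bool.rec (motive := fun _ => Nat) (nl1242 i) (nl1243 i) (Nat.ble 202752 i))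
noncomputable def nd693 (i : Nat) : Nat := (Bool.rec (motive := fun _ => Nat) ((Bool.rec (motive := fun _ => Nat) (nl1238 i) (nd694 i) (Nat.ble 198656 i))) ((Bool.rec (motive := fun _ => Nat) (nl1241 i) (nd695 i) (Nat.ble 201728 i))) (Nat.ble 200704 i))
noncomputable def nd697 (i : Nat) : Nat := (Bool.rec (motive := fun _ => Nat) (nl1245 i) (nl1246 i) (Nat.ble 205824 i))
noncomputable def nd698 (i : Nat) : Nat := (Bool.rec (motive := fun _ => Nat) (nl1248 i) (nl1249 i) (Nat.ble 208896 i))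
noncomputable def nd696 (i : Nat) : Nat := (Bool.rec (motive := fun _ => Nat) ((Bool.rec (motive := fun _ => Nat) (nl1244 i) (nd697 i) (Nat.ble 204800 i))) ((Bool.rec (motive := fun _ => Nat) (nl1247 i) (nd698 i) (Nat.ble 207872 i))) (Nat.ble 206848 i))
noncomputable def nd700 (i : Nat) : Nat := (Bool.rec (motive := fun _ => Nat) (nl1251 i) (nl1252 i) (Nat.ble 211968 i))
noncomputable def nd701 (i : Nat) : Nat := (Bool.rec (motive := fun _ => Nat) (nl1254 i) (nl1255 i) (Nat.ble 215040 i))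
noncomputable def nd699 (i : Nat) : Nat := (Bool.rec (motive := fun _ => Nat) ((Bool.rec (motive := fun _ => Nat) (nl1250 i) (nd700 i) (Nat.ble 210944 i))) ((Bool.rec (motive := fun _ => Nat) (nl1253 i) (nd701 i) (Nat.ble 214016 i))) (Nat.ble 212992 i))
noncomputable def nd703 (i : Nat) : Nat := (Bool.rec (motive := fun _ => Nat) (nl1257 i) (nl1258 i) (Nat.ble 218112 i))
noncomputable def nd704 (i : Nat) : Nat := (Bool.rec (motive := fun _ => Nat) (nl1260 i) (nl1261 i) (Nat.ble 221184 i))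
noncomputable def nd702 (i : Nat) : Nat := (Bool.rec (motive := fun _ => Nat) ((Bool.rec (motive := fun _ => Nat) (nl1256 i) (nd703 i) (Nat.ble 217088 i))) ((Bool.rec (motive := fun _ => Nat) (nl1259 i) (nd704 i) (Nat.ble 220160 i))) (Nat.ble 219136 i))
noncomputable def nd692 (i : Nat) : Nat := (Bool.rec (motive := fun _ => Nat) ((Bool.rec (motive := fun _ => Nat) (nd693 i) (nd696 i) (Nat.ble 203776 i))) ((Bool.rec (motive := fun _ => Nat) (nd699 i) (nd702 i) (Nat.ble 216064 i))) (Nat.ble 209920 i))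
noncomputable def nd707 (i : Nat) : Nat := (Bool.rec (motive := fun _ => Nat) (nl1263 i) (nl1264 i) (Nat.ble 224256 i))
noncomputable def nd708 (i : Nat) : Nat := (Bool.rec (motive := fun _ => Nat) (nl1266 i) (nl1267 i) (Nat.ble 227328 i))
noncomputable def nd706 (i : Nat) : Nat := (Bool.rec (motive := fun _ => Nat) ((Bool.rec (motive := fun _ => Nat) (nl1262 i) (nd707 i) (Nat.ble 223232 i))) ((Bool.rec (motive := fun _ => Nat) (nl1265 i) (nd708 i) (Nat.ble 226304 i))) (Nat.ble 225280 i))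
noncomputable def nd710 (i : Nat) : Nat := (Bool.rec (motive := fun _ => Nat) (nl1269 i) (nl1270 i) (Nat.ble 230400 i))
noncomputable def nd711 (i : Nat) : Nat := (Bool.rec (motive := fun _ => Nat) (nl1272 i) (nl1273 i) (Nat.ble 233472 i))
noncomputable def nd709 (i : Nat) : Nat := (Bool.rec (motive := fun _ => Nat) ((Bool.rec (motive := fun _ => Nat) (nl1268 i) (nd710 i) (Nat.ble 229376 i))) ((Bool.rec (motive := fun _ => Nat) (nl1271 i) (nd711 i) (Nat.ble 232448 i))) (Nat.ble 231424 i))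
noncomputable def nd713 (i : Nat) : Nat := (Bool.rec (motive := fun _ => Nat) (nl1275 i) (nl1276 i) (Nat.ble 236544 i))
noncomputable def nd714 (i : Nat) : Nat := (Bool.rec (motive := fun _ => Nat) (nl1278 i) (nl1279 i) (Nat.ble 239616 i))
noncomputable def nd712 (i : Nat) : Nat := (Bool.rec (motive := fun _ => Nat) ((Bool.rec (motive := fun _ => Nat) (nl1274 i) (nd713 i) (Nat.ble 235520 i))) ((Bool.rec (motive := fun _ => Nat) (nl1277 i) (nd714 i) (Nat.ble 238592 i))) (Nat.ble 237568 i))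
noncomputable def nd716 (i : Nat) : Nat := (Bool.rec (motive := fun _ => Nat) (nl1281 i) (nl1282 i) (Nat.ble 242688 i))
noncomputable def nd717 (i : Nat) : Nat := (Bool.rec (motive := fun _ => Nat) (nl1284 i) (nl1285 i) (Nat.ble 245760 i))
noncomputable def nd715 (i : Nat) : Nat := (Bool.rec (motive := fun _ => Nat) ((Bool.rec (motive := fun _ => Nat) (nl1280 i) (nd716 i) (Nat.ble 241664 i))) ((Bool.rec (motive := fun _ => Nat) (nl1283 i) (nd717 i) (Nat.ble 244736 i))) (Nat.ble 243712 i))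
noncomputable def nd705 (i : Nat) : Nat := (Bool.rec (motive := fun _ => Nat) ((Bool.rec (motive := fun _ => Nat) (nd706 i) (nd709 i) (Nat.ble 228352 i))) ((Bool.rec (motive := fun _ => Nat) (nd712 i) (nd715 i) (Nat.ble 240640 i))) (Nat.ble 234496 i))
noncomputable def nd720 (i : Nat) : Nat := (Bool.rec (motive := fun _ => Nat) (nl1287 i) (nl1288 i) (Nat.ble 248832 i))
noncomputable def nd721 (i : Nat) : Nat := (Bool.rec (motive := fun _ => Nat) (nl1290 i) (nl1291 i) (Nat.ble 251904 i))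
noncomputable def nd719 (i : Nat) : Nat := (Bool.rec (motive := fun _ => Nat) ((Bool.rec (motive := fun _ => Nat) (nl1286 i) (nd720 i) (Nat.ble 247808 i))) ((Bool.rec (motive := fun _ => Nat) (nl1289 i) (nd721 i) (Nat.ble 250880 i))) (Nat.ble 249856 i))
noncomputable def nd723 (i : Nat) : Nat := (Bool.rec (motive := fun _ => Nat) (nl1293 i) (nl1294 i) (Nat.ble 254976 i))
noncomputable def nd724 (i : Nat) : Nat := (Bool.rec (motive := fun _ => Nat) (nl1296 i) (nl1297 i) (Nat.ble 258048 i))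
noncomputable def nd722 (i : Nat) : Nat := (Bool.rec (motive := fun _ => Nat) ((Bool.rec (motive := fun _ => Nat) (nl1292 i) (nd723 i) (Nat.ble 253952 i))) ((Bool.rec (motive := fun _ => Nat) (nl1295 i) (nd724 i) (Nat.ble 257024 i))) (Nat.ble 256000 i))
noncomputable def nd726 (i : Nat) : Nat := (Bool.rec (motive := fun _ => Nat) (nl1299 i) (nl1300 i) (Nat.ble 261120 i))
noncomputable def nd727 (i : Nat) : Nat := (Bool.rec (motive := fun _ => Nat) (nl1302 i) (nl1303 i) (Nat.ble 264192 i))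
noncomputable def nd725 (i : Nat) : Nat := (Bool.rec (motive := fun _ => Nat) ((Bool.rec (motive := fun _ => Nat) (nl1298 i) (nd726 i) (Nat.ble 260096 i))) ((Bool.rec (motive := fun _ => Nat) (nl1301 i) (nd727 i) (Nat.ble 263168 i))) (Nat.ble 262144 i))
noncomputable def nd729 (i : Nat) : Nat := (Bool.rec (motive := fun _ => Nat) (nl1305 i) (nl1306 i) (Nat.ble 267264 i))
noncomputable def nd730 (i : Nat) : Nat := (Bool.rec (motive := fun _ => Nat) (nl1308 i) (nl1309 i) (Nat.ble 270336 i))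
noncomputable def nd728 (i : Nat) : Nat := (Bool.rec (motive := fun _ => Nat) ((Bool.rec (motive := fun _ => Nat) (nl1304 i) (nd729 i) (Nat.ble 266240 i))) ((Bool.rec (motive := fun _ => Nat) (nl1307 i) (nd730 i) (Nat.ble 269312 i))) (Nat.ble 268288 i))
noncomputable def nd718 (i : Nat) : Nat := (Bool.rec (motive := fun _ => Nat) ((Bool.rec (motive := fun _ => Nat) (nd719 i) (nd722 i) (Nat.ble 252928 i))) ((Bool.rec (motive := fun _ => Nat) (nd725 i) (nd728 i) (Nat.ble 265216 i))) (Nat.ble 259072 i))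
noncomputable def nd733 (i : Nat) : Nat := (Bool.rec (motive := fun _ => Nat) (nl1311 i) (nl1312 i) (Nat.ble 273408 i))
noncomputable def nd734 (i : Nat) : Nat := (Bool.rec (motive := fun _ => Nat) (nl1314 i) (nl1315 i) (Nat.ble 276480 i))
noncomputable def nd732 (i : Nat) : Nat := (Bool.rec (motive := fun _ => Nat) ((Bool.rec (motive := fun _ => Nat) (nl1310 i) (nd733 i) (Nat.ble 272384 i))) ((Bool.rec (motive := fun _ => Nat) (nl1313 i) (nd734 i) (Nat.ble 275456 i))) (Nat.ble 274432 i))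
noncomputable def nd736 (i : Nat) : Nat := (Bool.rec (motive := fun _ => Nat) (nl1317 i) (nl1318 i) (Nat.ble 279552 i))
noncomputable def nd737 (i : Nat) : Nat := (Bool.rec (motive := fun _ => Nat) (nl1320 i) (nl1321 i) (Nat.ble 282624 i))
noncomputable def nd735 (i : Nat) : Nat := (Bool.rec (motive := fun _ => Nat) ((Bool.rec (motive := fun _ => Nat) (nl1316 i) (nd736 i) (Nat.ble 278528 i))) ((Bool.rec (motive := fun _ => Nat) (nl1319 i) (nd737 i) (Nat.ble 281600 i))) (Nat.ble 280576 i))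
noncomputable def nd739 (i : Nat) : Nat := (Bool.rec (motive := fun _ => Nat) (nl1323 i) (nl1324 i) (Nat.ble 285696 i))
noncomputable def nd740 (i : Nat) : Nat := (Bool.rec (motive := fun _ => Nat) (nl1326 i) (nl1327 i) (Nat.ble 288768 i))
noncomputable def nd738 (i : Nat) : Nat := (Bool.rec (motive := fun _ => Nat) ((Bool.rec (motive := fun _ => Nat) (nl1322 i) (nd739 i) (Nat.ble 284672 i))) ((Bool.rec (motive := fun _ => Nat) (nl1325 i) (nd740 i) (Nat.ble 287744 i))) (Nat.ble 286720 i))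
noncomputable def nd742 (i : Nat) : Nat := (Bool.rec (motive := fun _ => Nat) (nl1329 i) (nl1330 i) (Nat.ble 291840 i))
noncomputable def nd743 (i : Nat) : Nat := (Bool.rec (motive := fun _ => Nat) (nl1332 i) (nl1333 i) (Nat.ble 294912 i))
noncomputable def nd741 (i : Nat) : Nat := (Bool.rec (motive := fun _ => Nat) ((Bool.rec (motive := fun _ => Nat) (nl1328 i) (nd742 i) (Nat.ble 290816 i))) ((Bool.rec (motive := fun _ => Nat) (nl1331 i) (nd743 i) (Nat.ble 293888 i))) (Nat.ble 292864 i))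
noncomputable def nd731 (i : Nat) : Nat := (Bool.rec (motive := fun _ => Nat) ((Bool.rec (motive := fun _ => Nat) (nd732 i) (nd735 i) (Nat.ble 277504 i))) ((Bool.rec (motive := fun _ => Nat) (nd738 i) (nd741 i) (Nat.ble 289792 i))) (Nat.ble 283648 i))
noncomputable def nd691 (i : Nat) : Nat := (Bool.rec (motive := fun _ => Nat) ((Bool.rec (motive := fun _ => Nat) (nd692 i) (nd705 i) (Nat.ble 222208 i))) ((Bool.rec (motive := fun _ => Nat) (nd718 i) (nd731 i) (Nat.ble 271360 i))) (Nat.ble 246784 i))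
noncomputable def nd747 (i : Nat) : Nat := (Bool.rec (motive := fun _ => Nat) (nl1335 i) (nl1336 i) (Nat.ble 297984 i))
noncomputable def nd748 (i : Nat) : Nat := (Bool.rec (motive := fun _ => Nat) (nl1338 i) (nl1339 i) (Nat.ble 301056 i))
noncomputable def nd746 (i : Nat) : Nat := (Bool.rec (motive := fun _ => Nat) ((Bool.rec (motive := fun _ => Nat) (nl1334 i) (nd747 i) (Nat.ble 296960 i))) ((Bool.rec (motive := fun _ => Nat) (nl1337 i) (nd748 i) (Nat.ble 300032 i))) (Nat.ble 299008 i))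
noncomputable def nd750 (i : Nat) : Nat := (Bool.rec (motive := fun _ => Nat) (nl1341 i) (nl1342 i) (Nat.ble 304128 i))
noncomputable def nd751 (i : Nat) : Nat := (Bool.rec (motive := fun _ => Nat) (nl1344 i) (nl1345 i) (Nat.ble 307200 i))
noncomputable def nd749 (i : Nat) : Nat := (Bool.rec (motive := fun _ => Nat) ((Bool.rec (motive := fun _ => Nat) (nl1340 i) (nd750 i) (Nat.ble 303104 i))) ((Bool.rec (motive := fun _ => Nat) (nl1343 i) (nd751 i) (Nat.ble 306176 i))) (Nat.ble 305152 i))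
noncomputable def nd753 (i : Nat) : Nat := (Bool.rec (motive := fun _ => Nat) (nl1347 i) (nl1348 i) (Nat.ble 310272 i))
noncomputable def nd754 (i : Nat) : Nat := (Bool.rec (motive := fun _ => Nat) (nl1350 i) (nl1351 i) (Nat.ble 313344 i))
noncomputable def nd752 (i : Nat) : Nat := (Bool.rec (motive := fun _ => Nat) ((Bool.rec (motive := fun _ => Nat) (nl1346 i) (nd753 i) (Nat.ble 309248 i))) ((Bool.rec (motive := fun _ => Nat) (nl1349 i) (nd754 i) (Nat.ble 312320 i))) (Nat.ble 311296 i))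
noncomputable def nd756 (i : Nat) : Nat := (Bool.rec (motive := fun _ => Nat) (nl1353 i) (nl1354 i) (Nat.ble 316416 i))
noncomputable def nd757 (i : Nat) : Nat := (Bool.rec (motive := fun _ => Nat) (nl1356 i) (nl1357 i) (Nat.ble 319488 i))
noncomputable def nd755 (i : Nat) : Nat := (Bool.rec (motive := fun _ => Nat) ((Bool.rec (motive := fun _ => Nat) (nl1352 i) (nd756 i) (Nat.ble 315392 i))) ((Bool.rec (motive := fun _ => Nat) (nl1355 i) (nd757 i) (Nat.ble 318464 i))) (Nat.ble 317440 i))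
noncomputable def nd745 (i : Nat) : Nat := (Bool.rec (motive := fun _ => Nat) ((Bool.rec (motive := fun _ => Nat) (nd746 i) (nd749 i) (Nat.ble 302080 i))) ((Bool.rec (motive := fun _ => Nat) (nd752 i) (nd755 i) (Nat.ble 314368 i))) (Nat.ble 308224 i))
noncomputable def nd760 (i : Nat) : Nat := (Bool.rec (motive := fun _ => Nat) (nl1359 i) (nl1360 i) (Nat.ble 322560 i))
noncomputable def nd761 (i : Nat) : Nat := (Bool.rec (motive := fun _ => Nat) (nl1362 i) (nl1363 i) (Nat.ble 325632 i))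
noncomputable def nd759 (i : Nat) : Nat := (Bool.rec (motive := fun _ => Nat) ((Bool.rec (motive := fun _ => Nat) (nl1358 i) (nd760 i) (Nat.ble 321536 i))) ((Bool.rec (motive := fun _ => Nat) (nl1361 i) (nd761 i) (Nat.ble 324608 i))) (Nat.ble 323584 i))
noncomputable def nd763 (i : Nat) : Nat := (Bool.rec (motive := fun _ => Nat) (nl1365 i) (nl1366 i) (Nat.ble 328704 i))
noncomputable def nd764 (i : Nat) : Nat := (Bool.rec (motive := fun _ => Nat) (nl1368 i) (nl1369 i) (Nat.ble 331776 i))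
noncomputable def nd762 (i : Nat) : Nat := (Bool.rec (motive := fun _ => Nat) ((Bool.rec (motive := fun _ => Nat) (nl1364 i) (nd763 i) (Nat.ble 327680 i))) ((Bool.rec (motive := fun _ => Nat) (nl1367 i) (nd764 i) (Nat.ble 330752 i))) (Nat.ble 329728 i))
noncomputable def nd766 (i : Nat) : Nat := (Bool.rec (motive := fun _ => Nat) (nl1371 i) (nl1372 i) (Nat.ble 334848 i))
noncomputable def nd767 (i : Nat) : Nat := (Bool.rec (motive := fun _ => Nat) (nl1374 i) (nl1375 i) (Nat.ble 337920 i))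
noncomputable def nd765 (i : Nat) : Nat := (Bool.rec (motive := fun _ => Nat) ((Bool.rec (motive := fun _ => Nat) (nl1370 i) (nd766 i) (Nat.ble 333824 i))) ((Bool.rec (motive := fun _ => Nat) (nl1373 i) (nd767 i) (Nat.ble 336896 i))) (Nat.ble 335872 i))
noncomputable def nd769 (i : Nat) : Nat := (Bool.rec (motive := fun _ => Nat) (nl1377 i) (nl1378 i) (Nat.ble 340992 i))
noncomputable def nd770 (i : Nat) : Nat := (Bool.rec (motive := fun _ => Nat) (nl1380 i) (nl1381 i) (Nat.ble 344064 i))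
noncomputable def nd768 (i : Nat) : Nat := (Bool.rec (motive := fun _ => Nat) ((Bool.rec (motive := fun _ => Nat) (nl1376 i) (nd769 i) (Nat.ble 339968 i))) ((Bool.rec (motive := fun _ => Nat) (nl1379 i) (nd770 i) (Nat.ble 343040 i))) (Nat.ble 342016 i))
noncomputable def nd758 (i : Nat) : Nat := (Bool.rec (motive := fun _ => Nat) ((Bool.rec (motive := fun _ => Nat) (nd759 i) (nd762 i) (Nat.ble 326656 i))) ((Bool.rec (motive := fun _ => Nat) (nd765 i) (nd768 i) (Nat.ble 338944 i))) (Nat.ble 332800 i))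
noncomputable def nd773 (i : Nat) : Nat := (Bool.rec (motive := fun _ => Nat) (nl1383 i) (nl1384 i) (Nat.ble 347136 i))
noncomputable def nd774 (i : Nat) : Nat := (Bool.rec (motive := fun _ => Nat) (nl1386 i) (nl1387 i) (Nat.ble 350208 i))
noncomputable def nd772 (i : Nat) : Nat := (Bool.rec (motive := fun _ => Nat) ((Bool.rec (motive := fun _ => Nat) (nl1382 i) (nd773 i) (Nat.ble 346112 i))) ((Bool.rec (motive := fun _ => Nat) (nl1385 i) (nd774 i) (Nat.ble 349184 i))) (Nat.ble 348160 i))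
noncomputable def nd776 (i : Nat) : Nat := (Bool.rec (motive := fun _ => Nat) (nl1389 i) (nl1390 i) (Nat.ble 353280 i))
noncomputable def nd777 (i : Nat) : Nat := (Bool.rec (motive := fun _ => Nat) (nl1392 i) (nl1393 i) (Nat.ble 356352 i))
noncomputable def nd775 (i : Nat) : Nat := (Bool.rec (motive := fun _ => Nat) ((Bool.rec (motive := fun _ => Nat) (nl1388 i) (nd776 i) (Nat.ble 352256 i))) ((Bool.rec (motive := fun _ => Nat) (nl1391 i) (nd777 i) (Nat.ble 355328 i))) (Nat.ble 354304 i))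
noncomputable def nd779 (i : Nat) : Nat := (Bool.rec (motive := fun _ => Nat) (nl1395 i) (nl1396 i) (Nat.ble 359424 i))
noncomputable def nd780 (i : Nat) : Nat := (Bool.rec (motive := fun _ => Nat) (nl1398 i) (nl1399 i) (Nat.ble 362496 i))
noncomputable def nd778 (i : Nat) : Nat := (Bool.rec (motive := fun _ => Nat) ((Bool.rec (motive := fun _ => Nat) (nl1394 i) (nd779 i) (Nat.ble 358400 i))) ((Bool.rec (motive := fun _ => Nat) (nl1397 i) (nd780 i) (Nat.ble 361472 i))) (Nat.ble 360448 i))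
noncomputable def nd782 (i : Nat) : Nat := (Bool.rec (motive := fun _ => Nat) (nl1401 i) (nl1402 i) (Nat.ble 365568 i))
noncomputable def nd783 (i : Nat) : Nat := (Bool.rec (motive := fun _ => Nat) (nl1404 i) (nl1405 i) (Nat.ble 368640 i))
noncomputable def nd781 (i : Nat) : Nat := (Bool.rec (motive := fun _ => Nat) ((Bool.rec (motive := fun _ => Nat) (nl1400 i) (nd782 i) (Nat.ble 364544 i))) ((Bool.rec (motive := fun _ => Nat) (nl1403 i) (nd783 i) (Nat.ble 367616 i))) (Nat.ble 366592 i))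
noncomputable def nd771 (i : Nat) : Nat := (Bool.rec (motive := fun _ => Nat) ((Bool.rec (motive := fun _ => Nat) (nd772 i) (nd775 i) (Nat.ble 351232 i))) ((Bool.rec (motive := fun _ => Nat) (nd778 i) (nd781 i) (Nat.ble 363520 i))) (Nat.ble 357376 i))
noncomputable def nd786 (i : Nat) : Nat := (Bool.rec (motive := fun _ => Nat) (nl1407 i) (nl1408 i) (Nat.ble 371712 i))
noncomputable def nd787 (i : Nat) : Nat := (Bool.rec (motive := fun _ => Nat) (nl1410 i) (nl1411 i) (Nat.ble 374784 i))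
noncomputable def nd785 (i : Nat) : Nat := (Bool.rec (motive := fun _ => Nat) ((Bool.rec (motive := fun _ => Nat) (nl1406 i) (nd786 i) (Nat.ble 370688 i))) ((Bool.rec (motive := fun _ => Nat) (nl1409 i) (nd787 i) (Nat.ble 373760 i))) (Nat.ble 372736 i))
noncomputable def nd789 (i : Nat) : Nat := (Bool.rec (motive := fun _ => Nat) (nl1413 i) (nl1414 i) (Nat.ble 377856 i))
noncomputable def nd790 (i : Nat) : Nat := (Bool.rec (motive := fun _ => Nat) (nl1416 i) (nl1417 i) (Nat.ble 380928 i))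
noncomputable def nd788 (i : Nat) : Nat := (Bool.rec (motive := fun _ => Nat) ((Bool.rec (motive := fun _ => Nat) (nl1412 i) (nd789 i) (Nat.ble 376832 i))) ((Bool.rec (motive := fun _ => Nat) (nl1415 i) (nd790 i) (Nat.ble 379904 i))) (Nat.ble 378880 i))
noncomputable def nd792 (i : Nat) : Nat := (Bool.rec (motive := fun _ => Nat) (nl1419 i) (nl1420 i) (Nat.ble 384000 i))
noncomputable def nd793 (i : Nat) : Nat := (Bool.rec (motive := fun _ => Nat) (nl1422 i) (nl1423 i) (Nat.ble 387072 i))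
noncomputable def nd791 (i : Nat) : Nat := (Bool.rec (motive := fun _ => Nat) ((Bool.rec (motive := fun _ => Nat) (nl1418 i) (nd792 i) (Nat.ble 382976 i))) ((Bool.rec (motive := fun _ => Nat) (nl1421 i) (nd793 i) (Nat.ble 386048 i))) (Nat.ble 385024 i))
noncomputable def nd795 (i : Nat) : Nat := (Bool.rec (motive := fun _ => Nat) (nl1425 i) (nl1426 i) (Nat.ble 390144 i))
noncomputable def nd796 (i : Nat) : Nat := (Bool.rec (motive := fun _ => Nat) (nl1427 i) (nl1428 i) (Nat.ble 392192 i))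
noncomputable def nd797 (i : Nat) : Nat := (Bool.rec (motive := fun _ => Nat) (nl1429 i) (nl1430 i) (Nat.ble 394240 i))
noncomputable def nd794 (i : Nat) : Nat := (Bool.rec (motive := fun _ => Nat) ((Bool.rec (motive := fun _ => Nat) (nl1424 i) (nd795 i) (Nat.ble 389120 i))) ((Bool.rec (motive := fun _ => Nat) (nd796 i) (nd797 i) (Nat.ble 393216 i))) (Nat.ble 391168 i))
noncomputable def nd784 (i : Nat) : Nat := (Bool.rec (motive := fun _ => Nat) ((Bool.rec (motive := fun _ => Nat) (nd785 i) (nd788 i) (Nat.ble 375808 i))) ((Bool.rec (motive := fun _ => Nat) (nd791 i) (nd794 i) (Nat.ble 388096 i))) (Nat.ble 381952 i))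
noncomputable def nd744 (i : Nat) : Nat := (Bool.rec (motive := fun _ => Nat) ((Bool.rec (motive := fun _ => Nat) (nd745 i) (nd758 i) (Nat.ble 320512 i))) ((Bool.rec (motive := fun _ => Nat) (nd771 i) (nd784 i) (Nat.ble 369664 i))) (Nat.ble 345088 i))
noncomputable def nd583 (i : Nat) : Nat := (Bool.rec (motive := fun _ => Nat) ((Bool.rec (motive := fun _ => Nat) (nd584 i) (nd637 i) (Nat.ble 98304 i))) ((Bool.rec (motive := fun _ => Nat) (nd691 i) (nd744 i) (Nat.ble 295936 i))) (Nat.ble 197632 i))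
noncomputable def nd801 (i : Nat) : Nat := (Bool.rec (motive := fun _ => Nat) (nl1432 i) (nl1433 i) (Nat.ble 2048 i))
noncomputable def nd802 (i : Nat) : Nat := (Bool.rec (motive := fun _ => Nat) (nl1435 i) (nl1436 i) (Nat.ble 5120 i))
noncomputable def nd800 (i : Nat) : Nat := (Bool.rec (motive := fun _ => Nat) ((Bool.rec (motive := fun _ => Nat) (nl1431 i) (nd801 i) (Nat.ble 1024 i))) ((Bool.rec (motive := fun _ => Nat) (nl1434 i) (nd802 i) (Nat.ble 4096 i))) (Nat.ble 3072 i))
noncomputable def nd804 (i : Nat) : Nat := (Bool.rec (motive := fun _ => Nat) (nl1438 i) (nl1439 i) (Nat.ble 8192 i))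
noncomputable def nd805 (i : Nat) : Nat := (Bool.rec (motive := fun _ => Nat) (nl1441 i) (nl1442 i) (Nat.ble 11264 i))
noncomputable def nd803 (i : Nat) : Nat := (Bool.rec (motive := fun _ => Nat) ((Bool.rec (motive := fun _ => Nat) (nl1437 i) (nd804 i) (Nat.ble 7168 i))) ((Bool.rec (motive := fun _ => Nat) (nl1440 i) (nd805 i) (Nat.ble 10240 i))) (Nat.ble 9216 i))
noncomputable def nd807 (i : Nat) : Nat := (Bool.rec (motive := fun _ => Nat) (nl1444 i) (nl1445 i) (Nat.ble 14336 i))
noncomputable def nd808 (i : Nat) : Nat := (Bool.rec (motive := fun _ => Nat) (nl1447 i) (nl1448 i) (Nat.ble 17408 i))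
noncomputable def nd806 (i : Nat) : Nat := (Bool.rec (motive := fun _ => Nat) ((Bool.rec (motive := fun _ => Nat) (nl1443 i) (nd807 i) (Nat.ble 13312 i))) ((Bool.rec (motive := fun _ => Nat) (nl1446 i) (nd808 i) (Nat.ble 16384 i))) (Nat.ble 15360 i))
noncomputable def nd810 (i : Nat) : Nat := (Bool.rec (motive := fun _ => Nat) (nl1450 i) (nl1451 i) (Nat.ble 20480 i))
noncomputable def nd811 (i : Nat) : Nat := (Bool.rec (motive := fun _ => Nat) (nl1453 i) (nl1454 i) (Nat.ble 23552 i))
noncomputable def nd809 (i : Nat) : Nat := (Bool.rec (motive := fun _ => Nat) ((Bool.rec (motive := fun _ => Nat) (nl1449 i) (nd810 i) (Nat.ble 19456 i))) ((Bool.rec (motive := fun _ => Nat) (nl1452 i) (nd811 i) (Nat.ble 22528 i))) (Nat.ble 21504 i))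
noncomputable def nd799 (i : Nat) : Nat := (Bool.rec (motive := fun _ => Nat) ((Bool.rec (motive := fun _ => Nat) (nd800 i) (nd803 i) (Nat.ble 6144 i))) ((Bool.rec (motive := fun _ => Nat) (nd806 i) (nd809 i) (Nat.ble 18432 i))) (Nat.ble 12288 i))
noncomputable def nd814 (i : Nat) : Nat := (Bool.rec (motive := fun _ => Nat) (nl1456 i) (nl1457 i) (Nat.ble 26624 i))
noncomputable def nd815 (i : Nat) : Nat := (Bool.rec (motive := fun _ => Nat) (nl1459 i) (nl1460 i) (Nat.ble 29696 i))
noncomputable def nd813 (i : Nat) : Nat := (Bool.rec (motive := fun _ => Nat) ((Bool.rec (motive := fun _ => Nat) (nl1455 i) (nd814 i) (Nat.ble 25600 i))) ((Bool.rec (motive := fun _ => Nat) (nl1458 i) (nd815 i) (Nat.ble 28672 i))) (Nat.ble 27648 i))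
noncomputable def nd817 (i : Nat) : Nat := (Bool.rec (motive := fun _ => Nat) (nl1462 i) (nl1463 i) (Nat.ble 32768 i))
noncomputable def nd818 (i : Nat) : Nat := (Bool.rec (motive := fun _ => Nat) (nl1465 i) (nl1466 i) (Nat.ble 35840 i))
noncomputable def nd816 (i : Nat) : Nat := (Bool.rec (motive := fun _ => Nat) ((Bool.rec (motive := fun _ => Nat) (nl1461 i) (nd817 i) (Nat.ble 31744 i))) ((Bool.rec (motive := fun _ => Nat) (nl1464 i) (nd818 i) (Nat.ble 34816 i))) (Nat.ble 33792 i))
noncomputable def nd820 (i : Nat) : Nat := (Bool.rec (motive := fun _ => Nat) (nl1468 i) (nl1469 i) (Nat.ble 38912 i))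
noncomputable def nd821 (i : Nat) : Nat := (Bool.rec (motive := fun _ => Nat) (nl1471 i) (nl1472 i) (Nat.ble 41984 i))
noncomputable def nd819 (i : Nat) : Nat := (Bool.rec (motive := fun _ => Nat) ((Bool.rec (motive := fun _ => Nat) (nl1467 i) (nd820 i) (Nat.ble 37888 i))) ((Bool.rec (motive := fun _ => Nat) (nl1470 i) (nd821 i) (Nat.ble 40960 i))) (Nat.ble 39936 i))
noncomputable def nd823 (i : Nat) : Nat := (Bool.rec (motive := fun _ => Nat) (nl1474 i) (nl1475 i) (Nat.ble 45056 i))
noncomputable def nd824 (i : Nat) : Nat := (Bool.rec (motive := fun _ => Nat) (nl1477 i) (nl1478 i) (Nat.ble 48128 i))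
noncomputable def nd822 (i : Nat) : Nat := (Bool.rec (motive := fun _ => Nat) ((Bool.rec (motive := fun _ => Nat) (nl1473 i) (nd823 i) (Nat.ble 44032 i))) ((Bool.rec (motive := fun _ => Nat) (nl1476 i) (nd824 i) (Nat.ble 47104 i))) (Nat.ble 46080 i))
noncomputable def nd812 (i : Nat) : Nat := (Bool.rec (motive := fun _ => Nat) ((Bool.rec (motive := fun _ => Nat) (nd813 i) (nd816 i) (Nat.ble 30720 i))) ((Bool.rec (motive := fun _ => Nat) (nd819 i) (nd822 i) (Nat.ble 43008 i))) (Nat.ble 36864 i))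
noncomputable def nd827 (i : Nat) : Nat := (Bool.rec (motive := fun _ => Nat) (nl1480 i) (nl1481 i) (Nat.ble 51200 i))
noncomputable def nd828 (i : Nat) : Nat := (Bool.rec (motive := fun _ => Nat) (nl1483 i) (nl1484 i) (Nat.ble 54272 i))
noncomputable def nd826 (i : Nat) : Nat := (Bool.rec (motive := fun _ => Nat) ((Bool.rec (motive := fun _ => Nat) (nl1479 i) (nd827 i) (Nat.ble 50176 i))) ((Bool.rec (motive := fun _ => Nat) (nl1482 i) (nd828 i) (Nat.ble 53248 i))) (Nat.ble 52224 i))
noncomputable def nd830 (i : Nat) : Nat := (Bool.rec (motive := fun _ => Nat) (nl1486 i) (nl1487 i) (Nat.ble 57344 i))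
noncomputable def nd831 (i : Nat) : Nat := (Bool.rec (motive := fun _ => Nat) (nl1489 i) (nl1490 i) (Nat.ble 60416 i))
noncomputable def nd829 (i : Nat) : Nat := (Bool.rec (motive := fun _ => Nat) ((Bool.rec (motive := fun _ => Nat) (nl1485 i) (nd830 i) (Nat.ble 56320 i))) ((Bool.rec (motive := fun _ => Nat) (nl1488 i) (nd831 i) (Nat.ble 59392 i))) (Nat.ble 58368 i))
noncomputable def nd833 (i : Nat) : Nat := (Bool.rec (motive := fun _ => Nat) (nl1492 i) (nl1493 i) (Nat.ble 63488 i))
noncomputable def nd834 (i : Nat) : Nat := (Bool.rec (motive := fun _ => Nat) (nl1495 i) (nl1496 i) (Nat.ble 66560 i))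
noncomputable def nd832 (i : Nat) : Nat := (Bool.rec (motive := fun _ => Nat) ((Bool.rec (motive := fun _ => Nat) (nl1491 i) (nd833 i) (Nat.ble 62464 i))) ((Bool.rec (motive := fun _ => Nat) (nl1494 i) (nd834 i) (Nat.ble 65536 i))) (Nat.ble 64512 i))
noncomputable def nd836 (i : Nat) : Nat := (Bool.rec (motive := fun _ => Nat) (nl1498 i) (nl1499 i) (Nat.ble 69632 i))
noncomputable def nd837 (i : Nat) : Nat := (Bool.rec (motive := fun _ => Nat) (nl1501 i) (nl1502 i) (Nat.ble 72704 i))
noncomputable def nd835 (i : Nat) : Nat := (Bool.rec (motive := fun _ => Nat) ((Bool.rec (motive := fun _ => Nat) (nl1497 i) (nd836 i) (Nat.ble 68608 i))) ((Bool.rec (motive := fun _ => Nat) (nl1500 i) (nd837 i) (Nat.ble 71680 i))) (Nat.ble 70656 i))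
noncomputable def nd825 (i : Nat) : Nat := (Bool.rec (motive := fun _ => Nat) ((Bool.rec (motive := fun _ => Nat) (nd826 i) (nd829 i) (Nat.ble 55296 i))) ((Bool.rec (motive := fun _ => Nat) (nd832 i) (nd835 i) (Nat.ble 67584 i))) (Nat.ble 61440 i))
noncomputable def nd840 (i : Nat) : Nat := (Bool.rec (motive := fun _ => Nat) (nl1504 i) (nl1505 i) (Nat.ble 75776 i))
noncomputable def nd841 (i : Nat) : Nat := (Bool.rec (motive := fun _ => Nat) (nl1507 i) (nl1508 i) (Nat.ble 78848 i))
noncomputable def nd839 (i : Nat) : Nat := (Bool.rec (motive := fun _ => Nat) ((Bool.rec (motive := fun _ => Nat) (nl1503 i) (nd840 i) (Nat.ble 74752 i))) ((Bool.rec (motive := fun _ => Nat) (nl1506 i) (nd841 i) (Nat.ble 77824 i))) (Nat.ble 76800 i))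
noncomputable def nd843 (i : Nat) : Nat := (Bool.rec (motive := fun _ => Nat) (nl1510 i) (nl1511 i) (Nat.ble 81920 i))
noncomputable def nd844 (i : Nat) : Nat := (Bool.rec (motive := fun _ => Nat) (nl1513 i) (nl1514 i) (Nat.ble 84992 i))
noncomputable def nd842 (i : Nat) : Nat := (Bool.rec (motive := fun _ => Nat) ((Bool.rec (motive := fun _ => Nat) (nl1509 i) (nd843 i) (Nat.ble 80896 i))) ((Bool.rec (motive := fun _ => Nat) (nl1512 i) (nd844 i) (Nat.ble 83968 i))) (Nat.ble 82944 i))
noncomputable def nd846 (i : Nat) : Nat := (Bool.rec (motive := fun _ => Nat) (nl1516 i) (nl1517 i) (Nat.ble 88064 i))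
noncomputable def nd847 (i : Nat) : Nat := (Bool.rec (motive := fun _ => Nat) (nl1519 i) (nl1520 i) (Nat.ble 91136 i))
noncomputable def nd845 (i : Nat) : Nat := (Bool.rec (motive := fun _ => Nat) ((Bool.rec (motive := fun _ => Nat) (nl1515 i) (nd846 i) (Nat.ble 87040 i))) ((Bool.rec (motive := fun _ => Nat) (nl1518 i) (nd847 i) (Nat.ble 90112 i))) (Nat.ble 89088 i))
noncomputable def nd849 (i : Nat) : Nat := (Bool.rec (motive := fun _ => Nat) (nl1522 i) (nl1523 i) (Nat.ble 94208 i))
noncomputable def nd850 (i : Nat) : Nat := (Bool.rec (motive := fun _ => Nat) (nl1524 i) (nl1525 i) (Nat.ble 96256 i))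
noncomputable def nd851 (i : Nat) : Nat := (Bool.rec (motive := fun _ => Nat) (nl1526 i) (nl1527 i) (Nat.ble 98304 i))
noncomputable def nd848 (i : Nat) : Nat := (Bool.rec (motive := fun _ => Nat) ((Bool.rec (motive := fun _ => Nat) (nl1521 i) (nd849 i) (Nat.ble 93184 i))) ((Bool.rec (motive := fun _ => Nat) (nd850 i) (nd851 i) (Nat.ble 97280 i))) (Nat.ble 95232 i))
noncomputable def nd838 (i : Nat) : Nat := (Bool.rec (motive := fun _ => Nat) ((Bool.rec (motive := fun _ => Nat) (nd839 i) (nd842 i) (Nat.ble 79872 i))) ((Bool.rec (motive := fun _ => Nat) (nd845 i) (nd848 i) (Nat.ble 92160 i))) (Nat.ble 86016 i))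
noncomputable def nd798 (i : Nat) : Nat := (Bool.rec (motive := fun _ => Nat) ((Bool.rec (motive := fun _ => Nat) (nd799 i) (nd812 i) (Nat.ble 24576 i))) ((Bool.rec (motive := fun _ => Nat) (nd825 i) (nd838 i) (Nat.ble 73728 i))) (Nat.ble 49152 i))
noncomputable def nd855 (i : Nat) : Nat := (Bool.rec (motive := fun _ => Nat) (nl1529 i) (nl1530 i) (Nat.ble 2048 i))
noncomputable def nd856 (i : Nat) : Nat := (Bool.rec (motive := fun _ => Nat) (nl1532 i) (nl1533 i) (Nat.ble 5120 i))
noncomputable def nd854 (i : Nat) : Nat := (Bool.rec (motive := fun _ => Nat) ((Bool.rec (motive := fun _ => Nat) (nl1528 i) (nd855 i) (Nat.ble 1024 i))) ((Bool.rec (motive := fun _ => Nat) (nl1531 i) (nd856 i) (Nat.ble 4096 i))) (Nat.ble 3072 i))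
noncomputable def nd858 (i : Nat) : Nat := (Bool.rec (motive := fun _ => Nat) (nl1535 i) (nl1536 i) (Nat.ble 8192 i))
noncomputable def nd859 (i : Nat) : Nat := (Bool.rec (motive := fun _ => Nat) (nl1538 i) (nl1539 i) (Nat.ble 11264 i))
noncomputable def nd857 (i : Nat) : Nat := (Bool.rec (motive := fun _ => Nat) ((Bool.rec (motive := fun _ => Nat) (nl1534 i) (nd858 i) (Nat.ble 7168 i))) ((Bool.rec (motive := fun _ => Nat) (nl1537 i) (nd859 i) (Nat.ble 10240 i))) (Nat.ble 9216 i))
noncomputable def nd861 (i : Nat) : Nat := (Bool.rec (motive := fun _ => Nat) (nl1541 i) (nl1542 i) (Nat.ble 14336 i))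
noncomputable def nd862 (i : Nat) : Nat := (Bool.rec (motive := fun _ => Nat) (nl1544 i) (nl1545 i) (Nat.ble 17408 i))
noncomputable def nd860 (i : Nat) : Nat := (Bool.rec (motive := fun _ => Nat) ((Bool.rec (motive := fun _ => Nat) (nl1540 i) (nd861 i) (Nat.ble 13312 i))) ((Bool.rec (motive := fun _ => Nat) (nl1543 i) (nd862 i) (Nat.ble 16384 i))) (Nat.ble 15360 i))
noncomputable def nd864 (i : Nat) : Nat := (Bool.rec (motive := fun _ => Nat) (nl1547 i) (nl1548 i) (Nat.ble 20480 i))
noncomputable def nd865 (i : Nat) : Nat := (Bool.rec (motive := fun _ => Nat) (nl1550 i) (nl1551 i) (Nat.ble 23552 i))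
noncomputable def nd863 (i : Nat) : Nat := (Bool.rec (motive := fun _ => Nat) ((Bool.rec (motive := fun _ => Nat) (nl1546 i) (nd864 i) (Nat.ble 19456 i))) ((Bool.rec (motive := fun _ => Nat) (nl1549 i) (nd865 i) (Nat.ble 22528 i))) (Nat.ble 21504 i))
noncomputable def nd853 (i : Nat) : Nat := (Bool.rec (motive := fun _ => Nat) ((Bool.rec (motive := fun _ => Nat) (nd854 i) (nd857 i) (Nat.ble 6144 i))) ((Bool.rec (motive := fun _ => Nat) (nd860 i) (nd863 i) (Nat.ble 18432 i))) (Nat.ble 12288 i))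
noncomputable def nd868 (i : Nat) : Nat := (Bool.rec (motive := fun _ => Nat) (nl1553 i) (nl1554 i) (Nat.ble 26624 i))
noncomputable def nd869 (i : Nat) : Nat := (Bool.rec (motive := fun _ => Nat) (nl1556 i) (nl1557 i) (Nat.ble 29696 i))
noncomputable def nd867 (i : Nat) : Nat := (Bool.rec (motive := fun _ => Nat) ((Bool.rec (motive := fun _ => Nat) (nl1552 i) (nd868 i) (Nat.ble 25600 i))) ((Bool.rec (motive := fun _ => Nat) (nl1555 i) (nd869 i) (Nat.ble 28672 i))) (Nat.ble 27648 i))
noncomputable def nd871 (i : Nat) : Nat := (Bool.rec (motive := fun _ => Nat) (nl1559 i) (nl1560 i) (Nat.ble 32768 i))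
noncomputable def nd872 (i : Nat) : Nat := (Bool.rec (motive := fun _ => Nat) (nl1562 i) (nl1563 i) (Nat.ble 35840 i))
noncomputable def nd870 (i : Nat) : Nat := (Bool.rec (motive := fun _ => Nat) ((Bool.rec (motive := fun _ => Nat) (nl1558 i) (nd871 i) (Nat.ble 31744 i))) ((Bool.rec (motive := fun _ => Nat) (nl1561 i) (nd872 i) (Nat.ble 34816 i))) (Nat.ble 33792 i))
noncomputable def nd874 (i : Nat) : Nat := (Bool.rec (motive := fun _ => Nat) (nl1565 i) (nl1566 i) (Nat.ble 38912 i))
noncomputable def nd875 (i : Nat) : Nat := (Bool.rec (motive := fun _ => Nat) (nl1568 i) (nl1569 i) (Nat.ble 41984 i))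
noncomputable def nd873 (i : Nat) : Nat := (Bool.rec (motive := fun _ => Nat) ((Bool.rec (motive := fun _ => Nat) (nl1564 i) (nd874 i) (Nat.ble 37888 i))) ((Bool.rec (motive := fun _ => Nat) (nl1567 i) (nd875 i) (Nat.ble 40960 i))) (Nat.ble 39936 i))
noncomputable def nd877 (i : Nat) : Nat := (Bool.rec (motive := fun _ => Nat) (nl1571 i) (nl1572 i) (Nat.ble 45056 i))
noncomputable def nd878 (i : Nat) : Nat := (Bool.rec (motive := fun _ => Nat) (nl1574 i) (nl1575 i) (Nat.ble 48128 i))
noncomputable def nd876 (i : Nat) : Nat := (Bool.rec (motive := fun _ => Nat) ((Bool.rec (motive := fun _ => Nat) (nl1570 i) (nd877 i) (Nat.ble 44032 i))) ((Bool.rec (motive := fun _ => Nat) (nl1573 i) (nd878 i) (Nat.ble 47104 i))) (Nat.ble 46080 i))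
noncomputable def nd866 (i : Nat) : Nat := (Bool.rec (motive := fun _ => Nat) ((Bool.rec (motive := fun _ => Nat) (nd867 i) (nd870 i) (Nat.ble 30720 i))) ((Bool.rec (motive := fun _ => Nat) (nd873 i) (nd876 i) (Nat.ble 43008 i))) (Nat.ble 36864 i))
noncomputable def nd881 (i : Nat) : Nat := (Bool.rec (motive := fun _ => Nat) (nl1577 i) (nl1578 i) (Nat.ble 51200 i))
noncomputable def nd882 (i : Nat) : Nat := (Bool.rec (motive := fun _ => Nat) (nl1580 i) (nl1581 i) (Nat.ble 54272 i))
noncomputable def nd880 (i : Nat) : Nat := (Bool.rec (motive := fun _ => Nat) ((Bool.rec (motive := fun _ => Nat) (nl1576 i) (nd881 i) (Nat.ble 50176 i))) ((Bool.rec (motive := fun _ => Nat) (nl1579 i) (nd882 i) (Nat.ble 53248 i))) (Nat.ble 52224 i))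
noncomputable def nd884 (i : Nat) : Nat := (Bool.rec (motive := fun _ => Nat) (nl1583 i) (nl1584 i) (Nat.ble 57344 i))
noncomputable def nd885 (i : Nat) : Nat := (Bool.rec (motive := fun _ => Nat) (nl1586 i) (nl1587 i) (Nat.ble 60416 i))
noncomputable def nd883 (i : Nat) : Nat := (Bool.rec (motive := fun _ => Nat) ((Bool.rec (motive := fun _ => Nat) (nl1582 i) (nd884 i) (Nat.ble 56320 i))) ((Bool.rec (motive := fun _ => Nat) (nl1585 i) (nd885 i) (Nat.ble 59392 i))) (Nat.ble 58368 i))
noncomputable def nd887 (i : Nat) : Nat := (Bool.rec (motive := fun _ => Nat) (nl1589 i) (nl1590 i) (Nat.ble 63488 i))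
noncomputable def nd888 (i : Nat) : Nat := (Bool.rec (motive := fun _ => Nat) (nl1592 i) (nl1593 i) (Nat.ble 66560 i))
noncomputable def nd886 (i : Nat) : Nat := (Bool.rec (motive := fun _ => Nat) ((Bool.rec (motive := fun _ => Nat) (nl1588 i) (nd887 i) (Nat.ble 62464 i))) ((Bool.rec (motive := fun _ => Nat) (nl1591 i) (nd888 i) (Nat.ble 65536 i))) (Nat.ble 64512 i))
noncomputable def nd890 (i : Nat) : Nat := (Bool.rec (motive := fun _ => Nat) (nl1595 i) (nl1596 i) (Nat.ble 69632 i))
noncomputable def nd891 (i : Nat) : Nat := (Bool.rec (motive := fun _ => Nat) (nl1598 i) (nl1599 i) (Nat.ble 72704 i))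
noncomputable def nd889 (i : Nat) : Nat := (Bool.rec (motive := fun _ => Nat) ((Bool.rec (motive := fun _ => Nat) (nl1594 i) (nd890 i) (Nat.ble 68608 i))) ((Bool.rec (motive := fun _ => Nat) (nl1597 i) (nd891 i) (Nat.ble 71680 i))) (Nat.ble 70656 i))
noncomputable def nd879 (i : Nat) : Nat := (Bool.rec (motive := fun _ => Nat) ((Bool.rec (motive := fun _ => Nat) (nd880 i) (nd883 i) (Nat.ble 55296 i))) ((Bool.rec (motive := fun _ => Nat) (nd886 i) (nd889 i) (Nat.ble 67584 i))) (Nat.ble 61440 i))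
noncomputable def nd894 (i : Nat) : Nat := (Bool.rec (motive := fun _ => Nat) (nl1601 i) (nl1602 i) (Nat.ble 75776 i))
noncomputable def nd895 (i : Nat) : Nat := (Bool.rec (motive := fun _ => Nat) (nl1604 i) (nl1605 i) (Nat.ble 78848 i))
noncomputable def nd893 (i : Nat) : Nat := (Bool.rec (motive := fun _ => Nat) ((Bool.rec (motive := fun _ => Nat) (nl1600 i) (nd894 i) (Nat.ble 74752 i))) ((Bool.rec (motive := fun _ => Nat) (nl1603 i) (nd895 i) (Nat.ble 77824 i))) (Nat.ble 76800 i))
noncomputable def nd897 (i : Nat) : Nat := (Bool.rec (motive := fun _ => Nat) (nl1607 i) (nl1608 i) (Nat.ble 81920 i))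
noncomputable def nd898 (i : Nat) : Nat := (Bool.rec (motive := fun _ => Nat) (nl1610 i) (nl1611 i) (Nat.ble 84992 i))
noncomputable def nd896 (i : Nat) : Nat := (Bool.rec (motive := fun _ => Nat) ((Bool.rec (motive := fun _ => Nat) (nl1606 i) (nd897 i) (Nat.ble 80896 i))) ((Bool.rec (motive := fun _ => Nat) (nl1609 i) (nd898 i) (Nat.ble 83968 i))) (Nat.ble 82944 i))
noncomputable def nd900 (i : Nat) : Nat := (Bool.rec (motive := fun _ => Nat) (nl1613 i) (nl1614 i) (Nat.ble 88064 i))
noncomputable def nd901 (i : Nat) : Nat := (Bool.rec (motive := fun _ => Nat) (nl1616 i) (nl1617 i) (Nat.ble 91136 i))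
noncomputable def nd899 (i : Nat) : Nat := (Bool.rec (motive := fun _ => Nat) ((Bool.rec (motive := fun _ => Nat) (nl1612 i) (nd900 i) (Nat.ble 87040 i))) ((Bool.rec (motive := fun _ => Nat) (nl1615 i) (nd901 i) (Nat.ble 90112 i))) (Nat.ble 89088 i))
noncomputable def nd903 (i : Nat) : Nat := (Bool.rec (motive := fun _ => Nat) (nl1619 i) (nl1620 i) (Nat.ble 94208 i))
noncomputable def nd904 (i : Nat) : Nat := (Bool.rec (motive := fun _ => Nat) (nl1621 i) (nl1622 i) (Nat.ble 96256 i))
noncomputable def nd905 (i : Nat) : Nat := (Bool.rec (motive := fun _ => Nat) (nl1623 i) (nl1624 i) (Nat.ble 98304 i))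
noncomputable def nd902 (i : Nat) : Nat := (Bool.rec (motive := fun _ => Nat) ((Bool.rec (motive := fun _ => Nat) (nl1618 i) (nd903 i) (Nat.ble 93184 i))) ((Bool.rec (motive := fun _ => Nat) (nd904 i) (nd905 i) (Nat.ble 97280 i))) (Nat.ble 95232 i))
noncomputable def nd892 (i : Nat) : Nat := (Bool.rec (motive := fun _ => Nat) ((Bool.rec (motive := fun _ => Nat) (nd893 i) (nd896 i) (Nat.ble 79872 i))) ((Bool.rec (motive := fun _ => Nat) (nd899 i) (nd902 i) (Nat.ble 92160 i))) (Nat.ble 86016 i))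
noncomputable def nd852 (i : Nat) : Nat := (Bool.rec (motive := fun _ => Nat) ((Bool.rec (motive := fun _ => Nat) (nd853 i) (nd866 i) (Nat.ble 24576 i))) ((Bool.rec (motive := fun _ => Nat) (nd879 i) (nd892 i) (Nat.ble 73728 i))) (Nat.ble 49152 i))
noncomputable def nd909 (i : Nat) : Nat := (Bool.rec (motive := fun _ => Nat) (nl1626 i) (nl1627 i) (Nat.ble 2048 i))
noncomputable def nd910 (i : Nat) : Nat := (Bool.rec (motive := fun _ => Nat) (nl1629 i) (nl1630 i) (Nat.ble 5120 i))
noncomputable def nd908 (i : Nat) : Nat := (Bool.rec (motive := fun _ => Nat) ((Bool.rec (motive := fun _ => Nat) (nl1625 i) (nd909 i) (Nat.ble 1024 i))) ((Bool.rec (motive := fun _ => Nat) (nl1628 i) (nd910 i) (Nat.ble 4096 i))) (Nat.ble 3072 i))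
noncomputable def nd912 (i : Nat) : Nat := (Bool.rec (motive := fun _ => Nat) (nl1632 i) (nl1633 i) (Nat.ble 8192 i))
noncomputable def nd913 (i : Nat) : Nat := (Bool.rec (motive := fun _ => Nat) (nl1635 i) (nl1636 i) (Nat.ble 11264 i))
noncomputable def nd911 (i : Nat) : Nat := (Bool.rec (motive := fun _ => Nat) ((Bool.rec (motive := fun _ => Nat) (nl1631 i) (nd912 i) (Nat.ble 7168 i))) ((Bool.rec (motive := fun _ => Nat) (nl1634 i) (nd913 i) (Nat.ble 10240 i))) (Nat.ble 9216 i))
noncomputable def nd915 (i : Nat) : Nat := (Bool.rec (motive := fun _ => Nat) (nl1638 i) (nl1639 i) (Nat.ble 14336 i))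
noncomputable def nd916 (i : Nat) : Nat := (Bool.rec (motive := fun _ => Nat) (nl1641 i) (nl1642 i) (Nat.ble 17408 i))
noncomputable def nd914 (i : Nat) : Nat := (Bool.rec (motive := fun _ => Nat) ((Bool.rec (motive := fun _ => Nat) (nl1637 i) (nd915 i) (Nat.ble 13312 i))) ((Bool.rec (motive := fun _ => Nat) (nl1640 i) (nd916 i) (Nat.ble 16384 i))) (Nat.ble 15360 i))
noncomputable def nd918 (i : Nat) : Nat := (Bool.rec (motive := fun _ => Nat) (nl1644 i) (nl1645 i) (Nat.ble 20480 i))
noncomputable def nd919 (i : Nat) : Nat := (Bool.rec (motive := fun _ => Nat) (nl1647 i) (nl1648 i) (Nat.ble 23552 i))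
noncomputable def nd917 (i : Nat) : Nat := (Bool.rec (motive := fun _ => Nat) ((Bool.rec (motive := fun _ => Nat) (nl1643 i) (nd918 i) (Nat.ble 19456 i))) ((Bool.rec (motive := fun _ => Nat) (nl1646 i) (nd919 i) (Nat.ble 22528 i))) (Nat.ble 21504 i))
noncomputable def nd907 (i : Nat) : Nat := (Bool.rec (motive := fun _ => Nat) ((Bool.rec (motive := fun _ => Nat) (nd908 i) (nd911 i) (Nat.ble 6144 i))) ((Bool.rec (motive := fun _ => Nat) (nd914 i) (nd917 i) (Nat.ble 18432 i))) (Nat.ble 12288 i))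
noncomputable def nd922 (i : Nat) : Nat := (Bool.rec (motive := fun _ => Nat) (nl1650 i) (nl1651 i) (Nat.ble 26624 i))
noncomputable def nd923 (i : Nat) : Nat := (Bool.rec (motive := fun _ => Nat) (nl1653 i) (nl1654 i) (Nat.ble 29696 i))
noncomputable def nd921 (i : Nat) : Nat := (Bool.rec (motive := fun _ => Nat) ((Bool.rec (motive := fun _ => Nat) (nl1649 i) (nd922 i) (Nat.ble 25600 i))) ((Bool.rec (motive := fun _ => Nat) (nl1652 i) (nd923 i) (Nat.ble 28672 i))) (Nat.ble 27648 i))
noncomputable def nd925 (i : Nat) : Nat := (Bool.rec (motive := fun _ => Nat) (nl1656 i) (nl1657 i) (Nat.ble 32768 i))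
noncomputable def nd926 (i : Nat) : Nat := (Bool.rec (motive := fun _ => Nat) (nl1659 i) (nl1660 i) (Nat.ble 35840 i))
noncomputable def nd924 (i : Nat) : Nat := (Bool.rec (motive := fun _ => Nat) ((Bool.rec (motive := fun _ => Nat) (nl1655 i) (nd925 i) (Nat.ble 31744 i))) ((Bool.rec (motive := fun _ => Nat) (nl1658 i) (nd926 i) (Nat.ble 34816 i))) (Nat.ble 33792 i))
noncomputable def nd928 (i : Nat) : Nat := (Bool.rec (motive := fun _ => Nat) (nl1662 i) (nl1663 i) (Nat.ble 38912 i))
noncomputable def nd929 (i : Nat) : Nat := (Bool.rec (motive := fun _ => Nat) (nl1665 i) (nl1666 i) (Nat.ble 41984 i))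
noncomputable def nd927 (i : Nat) : Nat := (Bool.rec (motive := fun _ => Nat) ((Bool.rec (motive := fun _ => Nat) (nl1661 i) (nd928 i) (Nat.ble 37888 i))) ((Bool.rec (motive := fun _ => Nat) (nl1664 i) (nd929 i) (Nat.ble 40960 i))) (Nat.ble 39936 i))
noncomputable def nd931 (i : Nat) : Nat := (Bool.rec (motive := fun _ => Nat) (nl1668 i) (nl1669 i) (Nat.ble 45056 i))
noncomputable def nd932 (i : Nat) : Nat := (Bool.rec (motive := fun _ => Nat) (nl1671 i) (nl1672 i) (Nat.ble 48128 i))
noncomputable def nd930 (i : Nat) : Nat := (Bool.rec (motive := fun _ => Nat) ((Bool.rec (motive := fun _ => Nat) (nl1667 i) (nd931 i) (Nat.ble 44032 i))) ((Bool.rec (motive := fun _ => Nat) (nl1670 i) (nd932 i) (Nat.ble 47104 i))) (Nat.ble 46080 i))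
noncomputable def nd920 (i : Nat) : Nat := (Bool.rec (motive := fun _ => Nat) ((Bool.rec (motive := fun _ => Nat) (nd921 i) (nd924 i) (Nat.ble 30720 i))) ((Bool.rec (motive := fun _ => Nat) (nd927 i) (nd930 i) (Nat.ble 43008 i))) (Nat.ble 36864 i))
noncomputable def nd935 (i : Nat) : Nat := (Bool.rec (motive := fun _ => Nat) (nl1674 i) (nl1675 i) (Nat.ble 51200 i))
noncomputable def nd936 (i : Nat) : Nat := (Bool.rec (motive := fun _ => Nat) (nl1677 i) (nl1678 i) (Nat.ble 54272 i))
noncomputable def nd934 (i : Nat) : Nat := (Bool.rec (motive := fun _ => Nat) ((Bool.rec (motive := fun _ => Nat) (nl1673 i) (nd935 i) (Nat.ble 50176 i))) ((Bool.rec (motive := fun _ => Nat) (nl1676 i) (nd936 i) (Nat.ble 53248 i))) (Nat.ble 52224 i))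
noncomputable def nd938 (i : Nat) : Nat := (Bool.rec (motive := fun _ => Nat) (nl1680 i) (nl1681 i) (Nat.ble 57344 i))
noncomputable def nd939 (i : Nat) : Nat := (Bool.rec (motive := fun _ => Nat) (nl1683 i) (nl1684 i) (Nat.ble 60416 i))
noncomputable def nd937 (i : Nat) : Nat := (Bool.rec (motive := fun _ => Nat) ((Bool.rec (motive := fun _ => Nat) (nl1679 i) (nd938 i) (Nat.ble 56320 i))) ((Bool.rec (motive := fun _ => Nat) (nl1682 i) (nd939 i) (Nat.ble 59392 i))) (Nat.ble 58368 i))
noncomputable def nd941 (i : Nat) : Nat := (Bool.rec (motive := fun _ => Nat) (nl1686 i) (nl1687 i) (Nat.ble 63488 i))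
noncomputable def nd942 (i : Nat) : Nat := (Bool.rec (motive := fun _ => Nat) (nl1689 i) (nl1690 i) (Nat.ble 66560 i))
noncomputable def nd940 (i : Nat) : Nat := (Bool.rec (motive := fun _ => Nat) ((Bool.rec (motive := fun _ => Nat) (nl1685 i) (nd941 i) (Nat.ble 62464 i))) ((Bool.rec (motive := fun _ => Nat) (nl1688 i) (nd942 i) (Nat.ble 65536 i))) (Nat.ble 64512 i))
noncomputable def nd944 (i : Nat) : Nat := (Bool.rec (motive := fun _ => Nat) (nl1692 i) (nl1693 i) (Nat.ble 69632 i))
noncomputable def nd945 (i : Nat) : Nat := (Bool.rec (motive := fun _ => Nat) (nl1695 i) (nl1696 i) (Nat.ble 72704 i))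
noncomputable def nd943 (i : Nat) : Nat := (Bool.rec (motive := fun _ => Nat) ((Bool.rec (motive := fun _ => Nat) (nl1691 i) (nd944 i) (Nat.ble 68608 i))) ((Bool.rec (motive := fun _ => Nat) (nl1694 i) (nd945 i) (Nat.ble 71680 i))) (Nat.ble 70656 i))
noncomputable def nd933 (i : Nat) : Nat := (Bool.rec (motive := fun _ => Nat) ((Bool.rec (motive := fun _ => Nat) (nd934 i) (nd937 i) (Nat.ble 55296 i))) ((Bool.rec (motive := fun _ => Nat) (nd940 i) (nd943 i) (Nat.ble 67584 i))) (Nat.ble 61440 i))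
noncomputable def nd948 (i : Nat) : Nat := (Bool.rec (motive := fun _ => Nat) (nl1698 i) (nl1699 i) (Nat.ble 75776 i))
noncomputable def nd949 (i : Nat) : Nat := (Bool.rec (motive := fun _ => Nat) (nl1701 i) (nl1702 i) (Nat.ble 78848 i))
noncomputable def nd947 (i : Nat) : Nat := (Bool.rec (motive := fun _ => Nat) ((Bool.rec (motive := fun _ => Nat) (nl1697 i) (nd948 i) (Nat.ble 74752 i))) ((Bool.rec (motive := fun _ => Nat) (nl1700 i) (nd949 i) (Nat.ble 77824 i))) (Nat.ble 76800 i))
noncomputable def nd951 (i : Nat) : Nat := (Bool.rec (motive := fun _ => Nat) (nl1704 i) (nl1705 i) (Nat.ble 81920 i))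
noncomputable def nd952 (i : Nat) : Nat := (Bool.rec (motive := fun _ => Nat) (nl1707 i) (nl1708 i) (Nat.ble 84992 i))
noncomputable def nd950 (i : Nat) : Nat := (Bool.rec (motive := fun _ => Nat) ((Bool.rec (motive := fun _ => Nat) (nl1703 i) (nd951 i) (Nat.ble 80896 i))) ((Bool.rec (motive := fun _ => Nat) (nl1706 i) (nd952 i) (Nat.ble 83968 i))) (Nat.ble 82944 i))
noncomputable def nd954 (i : Nat) : Nat := (Bool.rec (motive := fun _ => Nat) (nl1710 i) (nl1711 i) (Nat.ble 88064 i))
noncomputable def nd955 (i : Nat) : Nat := (Bool.rec (motive := fun _ => Nat) (nl1713 i) (nl1714 i) (Nat.ble 91136 i))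
noncomputable def nd953 (i : Nat) : Nat := (Bool.rec (motive := fun _ => Nat) ((Bool.rec (motive := fun _ => Nat) (nl1709 i) (nd954 i) (Nat.ble 87040 i))) ((Bool.rec (motive := fun _ => Nat) (nl1712 i) (nd955 i) (Nat.ble 90112 i))) (Nat.ble 89088 i))
noncomputable def nd957 (i : Nat) : Nat := (Bool.rec (motive := fun _ => Nat) (nl1716 i) (nl1717 i) (Nat.ble 94208 i))
noncomputable def nd958 (i : Nat) : Nat := (Bool.rec (motive := fun _ => Nat) (nl1718 i) (nl1719 i) (Nat.ble 96256 i))
noncomputable def nd959 (i : Nat) : Nat := (Bool.rec (motive := fun _ => Nat) (nl1720 i) (nl1721 i) (Nat.ble 98304 i))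
noncomputable def nd956 (i : Nat) : Nat := (Bool.rec (motive := fun _ => Nat) ((Bool.rec (motive := fun _ => Nat) (nl1715 i) (nd957 i) (Nat.ble 93184 i))) ((Bool.rec (motive := fun _ => Nat) (nd958 i) (nd959 i) (Nat.ble 97280 i))) (Nat.ble 95232 i))
noncomputable def nd946 (i : Nat) : Nat := (Bool.rec (motive := fun _ => Nat) ((Bool.rec (motive := fun _ => Nat) (nd947 i) (nd950 i) (Nat.ble 79872 i))) ((Bool.rec (motive := fun _ => Nat) (nd953 i) (nd956 i) (Nat.ble 92160 i))) (Nat.ble 86016 i))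
noncomputable def nd906 (i : Nat) : Nat := (Bool.rec (motive := fun _ => Nat) ((Bool.rec (motive := fun _ => Nat) (nd907 i) (nd920 i) (Nat.ble 24576 i))) ((Bool.rec (motive := fun _ => Nat) (nd933 i) (nd946 i) (Nat.ble 73728 i))) (Nat.ble 49152 i))
noncomputable def nd963 (i : Nat) : Nat := (Bool.rec (motive := fun _ => Nat) (nl1723 i) (nl1724 i) (Nat.ble 2048 i))
noncomputable def nd964 (i : Nat) : Nat := (Bool.rec (motive := fun _ => Nat) (nl1726 i) (nl1727 i) (Nat.ble 5120 i))
noncomputable def nd962 (i : Nat) : Nat := (Bool.rec (motive := fun _ => Nat) ((Bool.rec (motive := fun _ => Nat) (nl1722 i) (nd963 i) (Nat.ble 1024 i))) ((Bool.rec (motive := fun _ => Nat) (nl1725 i) (nd964 i) (Nat.ble 4096 i))) (Nat.ble 3072 i))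
noncomputable def nd966 (i : Nat) : Nat := (Bool.rec (motive := fun _ => Nat) (nl1729 i) (nl1730 i) (Nat.ble 8192 i))
noncomputable def nd967 (i : Nat) : Nat := (Bool.rec (motive := fun _ => Nat) (nl1732 i) (nl1733 i) (Nat.ble 11264 i))
noncomputable def nd965 (i : Nat) : Nat := (Bool.rec (motive := fun _ => Nat) ((Bool.rec (motive := fun _ => Nat) (nl1728 i) (nd966 i) (Nat.ble 7168 i))) ((Bool.rec (motive := fun _ => Nat) (nl1731 i) (nd967 i) (Nat.ble 10240 i))) (Nat.ble 9216 i))
noncomputable def nd969 (i : Nat) : Nat := (Bool.rec (motive := fun _ => Nat) (nl1735 i) (nl1736 i) (Nat.ble 14336 i))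
noncomputable def nd970 (i : Nat) : Nat := (Bool.rec (motive := fun _ => Nat) (nl1738 i) (nl1739 i) (Nat.ble 17408 i))
noncomputable def nd968 (i : Nat) : Nat := (Bool.rec (motive := fun _ => Nat) ((Bool.rec (motive := fun _ => Nat) (nl1734 i) (nd969 i) (Nat.ble 13312 i))) ((Bool.rec (motive := fun _ => Nat) (nl1737 i) (nd970 i) (Nat.ble 16384 i))) (Nat.ble 15360 i))
noncomputable def nd972 (i : Nat) : Nat := (Bool.rec (motive := fun _ => Nat) (nl1741 i) (nl1742 i) (Nat.ble 20480 i))
noncomputable def nd973 (i : Nat) : Nat := (Bool.rec (motive := fun _ => Nat) (nl1744 i) (nl1745 i) (Nat.ble 23552 i))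
noncomputable def nd971 (i : Nat) : Nat := (Bool.rec (motive := fun _ => Nat) ((Bool.rec (motive := fun _ => Nat) (nl1740 i) (nd972 i) (Nat.ble 19456 i))) ((Bool.rec (motive := fun _ => Nat) (nl1743 i) (nd973 i) (Nat.ble 22528 i))) (Nat.ble 21504 i))
noncomputable def nd961 (i : Nat) : Nat := (Bool.rec (motive := fun _ => Nat) ((Bool.rec (motive := fun _ => Nat) (nd962 i) (nd965 i) (Nat.ble 6144 i))) ((Bool.rec (motive := fun _ => Nat) (nd968 i) (nd971 i) (Nat.ble 18432 i))) (Nat.ble 12288 i))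
noncomputable def nd976 (i : Nat) : Nat := (Bool.rec (motive := fun _ => Nat) (nl1747 i) (nl1748 i) (Nat.ble 26624 i))
noncomputable def nd977 (i : Nat) : Nat := (Bool.rec (motive := fun _ => Nat) (nl1750 i) (nl1751 i) (Nat.ble 29696 i))
noncomputable def nd975 (i : Nat) : Nat := (Bool.rec (motive := fun _ => Nat) ((Bool.rec (motive := fun _ => Nat) (nl1746 i) (nd976 i) (Nat.ble 25600 i))) ((Bool.rec (motive := fun _ => Nat) (nl1749 i) (nd977 i) (Nat.ble 28672 i))) (Nat.ble 27648 i))
noncomputable def nd979 (i : Nat) : Nat := (Bool.rec (motive := fun _ => Nat) (nl1753 i) (nl1754 i) (Nat.ble 32768 i))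
noncomputable def nd980 (i : Nat) : Nat := (Bool.rec (motive := fun _ => Nat) (nl1756 i) (nl1757 i) (Nat.ble 35840 i))
noncomputable def nd978 (i : Nat) : Nat := (Bool.rec (motive := fun _ => Nat) ((Bool.rec (motive := fun _ => Nat) (nl1752 i) (nd979 i) (Nat.ble 31744 i))) ((Bool.rec (motive := fun _ => Nat) (nl1755 i) (nd980 i) (Nat.ble 34816 i))) (Nat.ble 33792 i))
noncomputable def nd982 (i : Nat) : Nat := (Bool.rec (motive := fun _ => Nat) (nl1759 i) (nl1760 i) (Nat.ble 38912 i))
noncomputable def nd983 (i : Nat) : Nat := (Bool.rec (motive := fun _ => Nat) (nl1762 i) (nl1763 i) (Nat.ble 41984 i))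
noncomputable def nd981 (i : Nat) : Nat := (Bool.rec (motive := fun _ => Nat) ((Bool.rec (motive := fun _ => Nat) (nl1758 i) (nd982 i) (Nat.ble 37888 i))) ((Bool.rec (motive := fun _ => Nat) (nl1761 i) (nd983 i) (Nat.ble 40960 i))) (Nat.ble 39936 i))
noncomputable def nd985 (i : Nat) : Nat := (Bool.rec (motive := fun _ => Nat) (nl1765 i) (nl1766 i) (Nat.ble 45056 i))
noncomputable def nd986 (i : Nat) : Nat := (Bool.rec (motive := fun _ => Nat) (nl1768 i) (nl1769 i) (Nat.ble 48128 i))
noncomputable def nd984 (i : Nat) : Nat := (Bool.rec (motive := fun _ => Nat) ((Bool.rec (motive := fun _ => Nat) (nl1764 i) (nd985 i) (Nat.ble 44032 i))) ((Bool.rec (motive := fun _ => Nat) (nl1767 i) (nd986 i) (Nat.ble 47104 i))) (Nat.ble 46080 i))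
noncomputable def nd974 (i : Nat) : Nat := (Bool.rec (motive := fun _ => Nat) ((Bool.rec (motive := fun _ => Nat) (nd975 i) (nd978 i) (Nat.ble 30720 i))) ((Bool.rec (motive := fun _ => Nat) (nd981 i) (nd984 i) (Nat.ble 43008 i))) (Nat.ble 36864 i))
noncomputable def nd989 (i : Nat) : Nat := (Bool.rec (motive := fun _ => Nat) (nl1771 i) (nl1772 i) (Nat.ble 51200 i))
noncomputable def nd990 (i : Nat) : Nat := (Bool.rec (motive := fun _ => Nat) (nl1774 i) (nl1775 i) (Nat.ble 54272 i))
noncomputable def nd988 (i : Nat) : Nat := (Bool.rec (motive := fun _ => Nat) ((Bool.rec (motive := fun _ => Nat) (nl1770 i) (nd989 i) (Nat.ble 50176 i))) ((Bool.rec (motive := fun _ => Nat) (nl1773 i) (nd990 i) (Nat.ble 53248 i))) (Nat.ble 52224 i))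
noncomputable def nd992 (i : Nat) : Nat := (Bool.rec (motive := fun _ => Nat) (nl1777 i) (nl1778 i) (Nat.ble 57344 i))
noncomputable def nd993 (i : Nat) : Nat := (Bool.rec (motive := fun _ => Nat) (nl1780 i) (nl1781 i) (Nat.ble 60416 i))
noncomputable def nd991 (i : Nat) : Nat := (Bool.rec (motive := fun _ => Nat) ((Bool.rec (motive := fun _ => Nat) (nl1776 i) (nd992 i) (Nat.ble 56320 i))) ((Bool.rec (motive := fun _ => Nat) (nl1779 i) (nd993 i) (Nat.ble 59392 i))) (Nat.ble 58368 i))
noncomputable def nd995 (i : Nat) : Nat := (Bool.rec (motive := fun _ => Nat) (nl1783 i) (nl1784 i) (Nat.ble 63488 i))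
noncomputable def nd996 (i : Nat) : Nat := (Bool.rec (motive := fun _ => Nat) (nl1786 i) (nl1787 i) (Nat.ble 66560 i))
noncomputable def nd994 (i : Nat) : Nat := (Bool.rec (motive := fun _ => Nat) ((Bool.rec (motive := fun _ => Nat) (nl1782 i) (nd995 i) (Nat.ble 62464 i))) ((Bool.rec (motive := fun _ => Nat) (nl1785 i) (nd996 i) (Nat.ble 65536 i))) (Nat.ble 64512 i))
noncomputable def nd998 (i : Nat) : Nat := (Bool.rec (motive := fun _ => Nat) (nl1789 i) (nl1790 i) (Nat.ble 69632 i))
noncomputable def nd999 (i : Nat) : Nat := (Bool.rec (motive := fun _ => Nat) (nl1792 i) (nl1793 i) (Nat.ble 72704 i))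
noncomputable def nd997 (i : Nat) : Nat := (Bool.rec (motive := fun _ => Nat) ((Bool.rec (motive := fun _ => Nat) (nl1788 i) (nd998 i) (Nat.ble 68608 i))) ((Bool.rec (motive := fun _ => Nat) (nl1791 i) (nd999 i) (Nat.ble 71680 i))) (Nat.ble 70656 i))
noncomputable def nd987 (i : Nat) : Nat := (Bool.rec (motive := fun _ => Nat) ((Bool.rec (motive := fun _ => Nat) (nd988 i) (nd991 i) (Nat.ble 55296 i))) ((Bool.rec (motive := fun _ => Nat) (nd994 i) (nd997 i) (Nat.ble 67584 i))) (Nat.ble 61440 i))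
noncomputable def nd1002 (i : Nat) : Nat := (Bool.rec (motive := fun _ => Nat) (nl1795 i) (nl1796 i) (Nat.ble 75776 i))
noncomputable def nd1003 (i : Nat) : Nat := (Bool.rec (motive := fun _ => Nat) (nl1798 i) (nl1799 i) (Nat.ble 78848 i))
noncomputable def nd1001 (i : Nat) : Nat := (Bool.rec (motive := fun _ => Nat) ((Bool.rec (motive := fun _ => Nat) (nl1794 i) (nd1002 i) (Nat.ble 74752 i))) ((Bool.rec (motive := fun _ => Nat) (nl1797 i) (nd1003 i) (Nat.ble 77824 i))) (Nat.ble 76800 i))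
noncomputable def nd1005 (i : Nat) : Nat := (Bool.rec (motive := fun _ => Nat) (nl1801 i) (nl1802 i) (Nat.ble 81920 i))
noncomputable def nd1006 (i : Nat) : Nat := (Bool.rec (motive := fun _ => Nat) (nl1804 i) (nl1805 i) (Nat.ble 84992 i))
noncomputable def nd1004 (i : Nat) : Nat := (Bool.rec (motive := fun _ => Nat) ((Bool.rec (motive := fun _ => Nat) (nl1800 i) (nd1005 i) (Nat.ble 80896 i))) ((Bool.rec (motive := fun _ => Nat) (nl1803 i) (nd1006 i) (Nat.ble 83968 i))) (Nat.ble 82944 i))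
noncomputable def nd1008 (i : Nat) : Nat := (Bool.rec (motive := fun _ => Nat) (nl1807 i) (nl1808 i) (Nat.ble 88064 i))
noncomputable def nd1009 (i : Nat) : Nat := (Bool.rec (motive := fun _ => Nat) (nl1810 i) (nl1811 i) (Nat.ble 91136 i))
noncomputable def nd1007 (i : Nat) : Nat := (Bool.rec (motive := fun _ => Nat) ((Bool.rec (motive := fun _ => Nat) (nl1806 i) (nd1008 i) (Nat.ble 87040 i))) ((Bool.rec (motive := fun _ => Nat) (nl1809 i) (nd1009 i) (Nat.ble 90112 i))) (Nat.ble 89088 i))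
noncomputable def nd1011 (i : Nat) : Nat := (Bool.rec (motive := fun _ => Nat) (nl1813 i) (nl1814 i) (Nat.ble 94208 i))
noncomputable def nd1012 (i : Nat) : Nat := (Bool.rec (motive := fun _ => Nat) (nl1815 i) (nl1816 i) (Nat.ble 96256 i))
noncomputable def nd1013 (i : Nat) : Nat := (Bool.rec (motive := fun _ => Nat) (nl1817 i) (nl1818 i) (Nat.ble 98304 i))
noncomputable def nd1010 (i : Nat) : Nat := (Bool.rec (motive := fun _ => Nat) ((Bool.rec (motive := fun _ => Nat) (nl1812 i) (nd1011 i) (Nat.ble 93184 i))) ((Bool.rec (motive := fun _ => Nat) (nd1012 i) (nd1013 i) (Nat.ble 97280 i))) (Nat.ble 95232 i))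
noncomputable def nd1000 (i : Nat) : Nat := (Bool.rec (motive := fun _ => Nat) ((Bool.rec (motive := fun _ => Nat) (nd1001 i) (nd1004 i) (Nat.ble 79872 i))) ((Bool.rec (motive := fun _ => Nat) (nd1007 i) (nd1010 i) (Nat.ble 92160 i))) (Nat.ble 86016 i))
noncomputable def nd960 (i : Nat) : Nat := (Bool.rec (motive := fun _ => Nat) ((Bool.rec (motive := fun _ => Nat) (nd961 i) (nd974 i) (Nat.ble 24576 i))) ((Bool.rec (motive := fun _ => Nat) (nd987 i) (nd1000 i) (Nat.ble 73728 i))) (Nat.ble 49152 i))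
noncomputable def nd1017 (i : Nat) : Nat := (Bool.rec (motive := fun _ => Nat) (nl1820 i) (nl1821 i) (Nat.ble 2048 i))
noncomputable def nd1018 (i : Nat) : Nat := (Bool.rec (motive := fun _ => Nat) (nl1823 i) (nl1824 i) (Nat.ble 5120 i))
noncomputable def nd1016 (i : Nat) : Nat := (Bool.rec (motive := fun _ => Nat) ((Bool.rec (motive := fun _ => Nat) (nl1819 i) (nd1017 i) (Nat.ble 1024 i))) ((Bool.rec (motive := fun _ => Nat) (nl1822 i) (nd1018 i) (Nat.ble 4096 i))) (Nat.ble 3072 i))
noncomputable def nd1020 (i : Nat) : Nat := (Bool.rec (motive := fun _ => Nat) (nl1826 i) (nl1827 i) (Nat.ble 8192 i))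
noncomputable def nd1021 (i : Nat) : Nat := (Bool.rec (motive := fun _ => Nat) (nl1829 i) (nl1830 i) (Nat.ble 11264 i))
noncomputable def nd1019 (i : Nat) : Nat := (Bool.rec (motive := fun _ => Nat) ((Bool.rec (motive := fun _ => Nat) (nl1825 i) (nd1020 i) (Nat.ble 7168 i))) ((Bool.rec (motive := fun _ => Nat) (nl1828 i) (nd1021 i) (Nat.ble 10240 i))) (Nat.ble 9216 i))
noncomputable def nd1023 (i : Nat) : Nat := (Bool.rec (motive := fun _ => Nat) (nl1832 i) (nl1833 i) (Nat.ble 14336 i))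
noncomputable def nd1024 (i : Nat) : Nat := (Bool.rec (motive := fun _ => Nat) (nl1835 i) (nl1836 i) (Nat.ble 17408 i))
noncomputable def nd1022 (i : Nat) : Nat := (Bool.rec (motive := fun _ => Nat) ((Bool.rec (motive := fun _ => Nat) (nl1831 i) (nd1023 i) (Nat.ble 13312 i))) ((Bool.rec (motive := fun _ => Nat) (nl1834 i) (nd1024 i) (Nat.ble 16384 i))) (Nat.ble 15360 i))
noncomputable def nd1026 (i : Nat) : Nat := (Bool.rec (motive := fun _ => Nat) (nl1838 i) (nl1839 i) (Nat.ble 20480 i))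
noncomputable def nd1027 (i : Nat) : Nat := (Bool.rec (motive := fun _ => Nat) (nl1841 i) (nl1842 i) (Nat.ble 23552 i))
noncomputable def nd1025 (i : Nat) : Nat := (Bool.rec (motive := fun _ => Nat) ((Bool.rec (motive := fun _ => Nat) (nl1837 i) (nd1026 i) (Nat.ble 19456 i))) ((Bool.rec (motive := fun _ => Nat) (nl1840 i) (nd1027 i) (Nat.ble 22528 i))) (Nat.ble 21504 i))
noncomputable def nd1015 (i : Nat) : Nat := (Bool.rec (motive := fun _ => Nat) ((Bool.rec (motive := fun _ => Nat) (nd1016 i) (nd1019 i) (Nat.ble 6144 i))) ((Bool.rec (motive := fun _ => Nat) (nd1022 i) (nd1025 i) (Nat.ble 18432 i))) (Nat.ble 12288 i))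
noncomputable def nd1030 (i : Nat) : Nat := (Bool.rec (motive := fun _ => Nat) (nl1844 i) (nl1845 i) (Nat.ble 26624 i))
noncomputable def nd1031 (i : Nat) : Nat := (Bool.rec (motive := fun _ => Nat) (nl1847 i) (nl1848 i) (Nat.ble 29696 i))
noncomputable def nd1029 (i : Nat) : Nat := (Bool.rec (motive := fun _ => Nat) ((Bool.rec (motive := fun _ => Nat) (nl1843 i) (nd1030 i) (Nat.ble 25600 i))) ((Bool.rec (motive := fun _ => Nat) (nl1846 i) (nd1031 i) (Nat.ble 28672 i))) (Nat.ble 27648 i))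
noncomputable def nd1033 (i : Nat) : Nat := (Bool.rec (motive := fun _ => Nat) (nl1850 i) (nl1851 i) (Nat.ble 32768 i))
noncomputable def nd1034 (i : Nat) : Nat := (Bool.rec (motive := fun _ => Nat) (nl1853 i) (nl1854 i) (Nat.ble 35840 i))
noncomputable def nd1032 (i : Nat) : Nat := (Bool.rec (motive := fun _ => Nat) ((Bool.rec (motive := fun _ => Nat) (nl1849 i) (nd1033 i) (Nat.ble 31744 i))) ((Bool.rec (motive := fun _ => Nat) (nl1852 i) (nd1034 i) (Nat.ble 34816 i))) (Nat.ble 33792 i))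
noncomputable def nd1036 (i : Nat) : Nat := (Bool.rec (motive := fun _ => Nat) (nl1856 i) (nl1857 i) (Nat.ble 38912 i))
noncomputable def nd1037 (i : Nat) : Nat := (Bool.rec (motive := fun _ => Nat) (nl1859 i) (nl1860 i) (Nat.ble 41984 i))
noncomputable def nd1035 (i : Nat) : Nat := (Bool.rec (motive := fun _ => Nat) ((Bool.rec (motive := fun _ => Nat) (nl1855 i) (nd1036 i) (Nat.ble 37888 i))) ((Bool.rec (motive := fun _ => Nat) (nl1858 i) (nd1037 i) (Nat.ble 40960 i))) (Nat.ble 39936 i))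
noncomputable def nd1039 (i : Nat) : Nat := (Bool.rec (motive := fun _ => Nat) (nl1862 i) (nl1863 i) (Nat.ble 45056 i))
noncomputable def nd1040 (i : Nat) : Nat := (Bool.rec (motive := fun _ => Nat) (nl1865 i) (nl1866 i) (Nat.ble 48128 i))
noncomputable def nd1038 (i : Nat) : Nat := (Bool.rec (motive := fun _ => Nat) ((Bool.rec (motive := fun _ => Nat) (nl1861 i) (nd1039 i) (Nat.ble 44032 i))) ((Bool.rec (motive := fun _ => Nat) (nl1864 i) (nd1040 i) (Nat.ble 47104 i))) (Nat.ble 46080 i))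
noncomputable def nd1028 (i : Nat) : Nat := (Bool.rec (motive := fun _ => Nat) ((Bool.rec (motive := fun _ => Nat) (nd1029 i) (nd1032 i) (Nat.ble 30720 i))) ((Bool.rec (motive := fun _ => Nat) (nd1035 i) (nd1038 i) (Nat.ble 43008 i))) (Nat.ble 36864 i))
noncomputable def nd1043 (i : Nat) : Nat := (Bool.rec (motive := fun _ => Nat) (nl1868 i) (nl1869 i) (Nat.ble 51200 i))
noncomputable def nd1044 (i : Nat) : Nat := (Bool.rec (motive := fun _ => Nat) (nl1871 i) (nl1872 i) (Nat.ble 54272 i))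
noncomputable def nd1042 (i : Nat) : Nat := (Bool.rec (motive := fun _ => Nat) ((Bool.rec (motive := fun _ => Nat) (nl1867 i) (nd1043 i) (Nat.ble 50176 i))) ((Bool.rec (motive := fun _ => Nat) (nl1870 i) (nd1044 i) (Nat.ble 53248 i))) (Nat.ble 52224 i))
noncomputable def nd1046 (i : Nat) : Nat := (Bool.rec (motive := fun _ => Nat) (nl1874 i) (nl1875 i) (Nat.ble 57344 i))
noncomputable def nd1047 (i : Nat) : Nat := (Bool.rec (motive := fun _ => Nat) (nl1877 i) (nl1878 i) (Nat.ble 60416 i))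
noncomputable def nd1045 (i : Nat) : Nat := (Bool.rec (motive := fun _ => Nat) ((Bool.rec (motive := fun _ => Nat) (nl1873 i) (nd1046 i) (Nat.ble 56320 i))) ((Bool.rec (motive := fun _ => Nat) (nl1876 i) (nd1047 i) (Nat.ble 59392 i))) (Nat.ble 58368 i))
noncomputable def nd1049 (i : Nat) : Nat := (Bool.rec (motive := fun _ => Nat) (nl1880 i) (nl1881 i) (Nat.ble 63488 i))
noncomputable def nd1050 (i : Nat) : Nat := (Bool.rec (motive := fun _ => Nat) (nl1883 i) (nl1884 i) (Nat.ble 66560 i))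
noncomputable def nd1048 (i : Nat) : Nat := (Bool.rec (motive := fun _ => Nat) ((Bool.rec (motive := fun _ => Nat) (nl1879 i) (nd1049 i) (Nat.ble 62464 i))) ((Bool.rec (motive := fun _ => Nat) (nl1882 i) (nd1050 i) (Nat.ble 65536 i))) (Nat.ble 64512 i))
noncomputable def nd1052 (i : Nat) : Nat := (Bool.rec (motive := fun _ => Nat) (nl1886 i) (nl1887 i) (Nat.ble 69632 i))
noncomputable def nd1053 (i : Nat) : Nat := (Bool.rec (motive := fun _ => Nat) (nl1889 i) (nl1890 i) (Nat.ble 72704 i))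
noncomputable def nd1051 (i : Nat) : Nat := (Bool.rec (motive := fun _ => Nat) ((Bool.rec (motive := fun _ => Nat) (nl1885 i) (nd1052 i) (Nat.ble 68608 i))) ((Bool.rec (motive := fun _ => Nat) (nl1888 i) (nd1053 i) (Nat.ble 71680 i))) (Nat.ble 70656 i))
noncomputable def nd1041 (i : Nat) : Nat := (Bool.rec (motive := fun _ => Nat) ((Bool.rec (motive := fun _ => Nat) (nd1042 i) (nd1045 i) (Nat.ble 55296 i))) ((Bool.rec (motive := fun _ => Nat) (nd1048 i) (nd1051 i) (Nat.ble 67584 i))) (Nat.ble 61440 i))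
noncomputable def nd1056 (i : Nat) : Nat := (Bool.rec (motive := fun _ => Nat) (nl1892 i) (nl1893 i) (Nat.ble 75776 i))
noncomputable def nd1057 (i : Nat) : Nat := (Bool.rec (motive := fun _ => Nat) (nl1895 i) (nl1896 i) (Nat.ble 78848 i))
noncomputable def nd1055 (i : Nat) : Nat := (Bool.rec (motive := fun _ => Nat) ((Bool.rec (motive := fun _ => Nat) (nl1891 i) (nd1056 i) (Nat.ble 74752 i))) ((Bool.rec (motive := fun _ => Nat) (nl1894 i) (nd1057 i) (Nat.ble 77824 i))) (Nat.ble 76800 i))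
noncomputable def nd1059 (i : Nat) : Nat := (Bool.rec (motive := fun _ => Nat) (nl1898 i) (nl1899 i) (Nat.ble 81920 i))
noncomputable def nd1060 (i : Nat) : Nat := (Bool.rec (motive := fun _ => Nat) (nl1901 i) (nl1902 i) (Nat.ble 84992 i))
noncomputable def nd1058 (i : Nat) : Nat := (Bool.rec (motive := fun _ => Nat) ((Bool.rec (motive := fun _ => Nat) (nl1897 i) (nd1059 i) (Nat.ble 80896 i))) ((Bool.rec (motive := fun _ => Nat) (nl1900 i) (nd1060 i) (Nat.ble 83968 i))) (Nat.ble 82944 i))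
noncomputable def nd1062 (i : Nat) : Nat := (Bool.rec (motive := fun _ => Nat) (nl1904 i) (nl1905 i) (Nat.ble 88064 i))
noncomputable def nd1063 (i : Nat) : Nat := (Bool.rec (motive := fun _ => Nat) (nl1907 i) (nl1908 i) (Nat.ble 91136 i))
noncomputable def nd1061 (i : Nat) : Nat := (Bool.rec (motive := fun _ => Nat) ((Bool.rec (motive := fun _ => Nat) (nl1903 i) (nd1062 i) (Nat.ble 87040 i))) ((Bool.rec (motive := fun _ => Nat) (nl1906 i) (nd1063 i) (Nat.ble 90112 i))) (Nat.ble 89088 i))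
noncomputable def nd1065 (i : Nat) : Nat := (Bool.rec (motive := fun _ => Nat) (nl1910 i) (nl1911 i) (Nat.ble 94208 i))
noncomputable def nd1066 (i : Nat) : Nat := (Bool.rec (motive := fun _ => Nat) (nl1912 i) (nl1913 i) (Nat.ble 96256 i))
noncomputable def nd1067 (i : Nat) : Nat := (Bool.rec (motive := fun _ => Nat) (nl1914 i) (nl1915 i) (Nat.ble 98304 i))
noncomputable def nd1064 (i : Nat) : Nat := (Bool.rec (motive := fun _ => Nat) ((Bool.rec (motive := fun _ => Nat) (nl1909 i) (nd1065 i) (Nat.ble 93184 i))) ((Bool.rec (motive := fun _ => Nat) (nd1066 i) (nd1067 i) (Nat.ble 97280 i))) (Nat.ble 95232 i))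
noncomputable def nd1054 (i : Nat) : Nat := (Bool.rec (motive := fun _ => Nat) ((Bool.rec (motive := fun _ => Nat) (nd1055 i) (nd1058 i) (Nat.ble 79872 i))) ((Bool.rec (motive := fun _ => Nat) (nd1061 i) (nd1064 i) (Nat.ble 92160 i))) (Nat.ble 86016 i))
noncomputable def nd1014 (i : Nat) : Nat := (Bool.rec (motive := fun _ => Nat) ((Bool.rec (motive := fun _ => Nat) (nd1015 i) (nd1028 i) (Nat.ble 24576 i))) ((Bool.rec (motive := fun _ => Nat) (nd1041 i) (nd1054 i) (Nat.ble 73728 i))) (Nat.ble 49152 i))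
noncomputable def wd1069 (i : Nat) : List Nat := (Bool.rec (motive := fun _ => List Nat) ((Bool.rec (motive := fun _ => List Nat) ([2]) ([]) (Nat.ble 1 i))) ((Bool.rec (motive := fun _ => List Nat) ([]) ([]) (Nat.ble 3 i))) (Nat.ble 2 i))
noncomputable def wd1070 (i : Nat) : List Nat := (Bool.rec (motive := fun _ => List Nat) ((Bool.rec (motive := fun _ => List Nat) ([]) ([0, 0]) (Nat.ble 5 i))) ((Bool.rec (motive := fun _ => List Nat) ([0, 2, 0, 2, 0, 2]) ([2, 2, 0, 3, 3, 0, 2, 2, 0, 3, 3, 0, 2, 2, 0, 3, 3, 0, 2, 2, 0, 3, 3, 0]) (Nat.ble 7 i))) (Nat.ble 6 i))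
noncomputable def wd1071 (i : Nat) : List Nat := (Bool.rec (motive := fun _ => List Nat) ((Bool.rec (motive := fun _ => List Nat) ([2, 0, 3, 0, 2, 0, 3, 0, 2, 0, 3, 0, 2, 0, 3, 0, 2, 0, 3, 0, 2, 0, 3, 0, 2, 0, 3, 0, 2, 0, 3, 0]) ([2, 2, 2, 2, 2, 2, 2, 2, 2, 2, 2, 2, 2, 2, 2, 2, 2, 2, 2]) (Nat.ble 9 i))) ((Bool.rec (motive := fun _ => List Nat) ([2, 2, 2, 2, 2, 2, 0, 3, 3, 3, 3, 3, 0, 2, 2, 2, 2, 2, 2, 0, 3, 3, 3, 3, 3, 0]) ([2, 2, 2, 0, 3, 0, 2, 0, 3, 3, 3, 0, 2, 2, 2, 0, 3, 0, 2, 0, 3, 3, 3, 0, 2, 2, 2, 0, 3, 0, 2, 0, 3, 3, 3, 0]) (Nat.ble 11 i))) (Nat.ble 10 i))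
noncomputable def wd1073 (i : Nat) : List Nat := (Bool.rec (motive := fun _ => List Nat) ([3, 2]) ([]) (Nat.ble 16 i))
noncomputable def wd1072 (i : Nat) : List Nat := (Bool.rec (motive := fun _ => List Nat) ((Bool.rec (motive := fun _ => List Nat) ([0, 1]) ([1, 0]) (Nat.ble 13 i))) ((Bool.rec (motive := fun _ => List Nat) ([2, 3]) (wd1073 i) (Nat.ble 15 i))) (Nat.ble 14 i))
noncomputable def wd1068 (i : Nat) : List Nat := (Bool.rec (motive := fun _ => List Nat) ((Bool.rec (motive := fun _ => List Nat) (wd1069 i) (wd1070 i) (Nat.ble 4 i))) ((Bool.rec (motive := fun _ => List Nat) (wd1071 i) (wd1072 i) (Nat.ble 12 i))) (Nat.ble 8 i))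
/-- the table of the letter `l` -/
noncomputable def letSel (l : Nat) : Nat → Nat := (Bool.rec (motive := fun _ => Nat → Nat) ((Bool.rec (motive := fun _ => Nat → Nat) (nd852) (nd906) (Nat.ble 1 l))) ((Bool.rec (motive := fun _ => Nat → Nat) (nd960) (nd1014) (Nat.ble 3 l))) (Nat.ble 2 l))
noncomputable def tabs : Tabs where
  M := 422893
  nsub := 1
  nwords := 17
  word := wd1068
  defn := nd341
  fact := nd0
noncomputable def ptabs : PTabs where
  n := 98784
  L := 4
  perm := fun l i => letSel l i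
  fin := fun i l => nd583 (Nat.add (Nat.mul i 4) l)
  par := nd798
theorem perm_eq : ∀ l i, ptabs.perm l i = letSel l i := fun _ _ => rfl
end Cfsg.Agent.Helper28.L37A
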