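import Cfsg.Agent.Helper28.L37A.Data
set_option autoImplicit false
set_option maxRecDepth 1000000
namespace Cfsg.Agent.Helper28.L37A
open Cfsg.Agent.Helper28
theorem perm_piece_6_9 : permPieceF tabs.word letSel 11 1 22221 2469 = true := by decide +kernel
theorem perm_piece_6_10 : permPieceF tabs.word letSel 11 1 24690 2469 = true := by decide +kernel
theorem perm_piece_6_11 : permPieceF tabs.word letSel 11 1 27159 2469 = true := by decide +kernel
theorem perm_piece_6_12 : permPieceF tabs.word letSel 11 1 29628 2469 = true := by decide +kernel
theorem perm_piece_6_13 : permPieceF tabs.word letSel 11 1 32097 2469 = true := by decide +kernel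
theorem perm_piece_6_14 : permPieceF tabs.word letSel 11 1 34566 2469 = true := by decide +kernel
theorem perm_piece_6_15 : permPieceF tabs.word letSel 11 1 37035 2469 = true := by decide +kernel
theorem perm_piece_6_16 : permPieceF tabs.word letSel 11 1 39504 2469 = true := by decide +kernel
end Cfsg.Agent.Helper28.L37A
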